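import Groth.Agent.Lib.RightAdj22.SupportBdd
import Groth.Agent.Lib.OX.RRComp
import Groth.Agent.Lib.OX.AffinePush
import Groth.Agent.Lib.KSix19.ProjPush.PCoh
import Groth.Agent.Lib.KSix19.ProjPush.RelBase
import Groth.Agent.Lib.OX.DQCohBrown
import Groth.Agent.Lib.DerCat.FFAdj19
import Groth.Agent.S1767

/-! # Restriction, direct image and its right adjoint on quasi-coherent derived categories -/

set_option autoImplicit false
set_option maxHeartbeats 1000000
set_option linter.style.haveILetI false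
universe u

open CategoryTheory CategoryTheory.Limits AlgebraicGeometry CategoryTheory.Pretriangulated

attribute [local instance] HasDerivedCategory.standard

noncomputable section

namespace GrothLib.RightAdj22

open GrothLib.OX

variable {X Y Z U : Scheme.{u}}

/-- Restriction along an identity. -/
def resDIdIso (X : Scheme.{u}) : resD (𝟙 X) ≅ 𝟭 (DCoh.D X) :=
  resDCongrIso (Category.id_comp (𝟙 X)).symm ≪≫ (resDCompIso (𝟙 X) (𝟙 X)).symm ≪≫
    DerCat19.mapDerivedCompIdIso (Scheme.Modules.restrictFunctor (𝟙 X)) (Scheme.Modules.restrictFunctor (𝟙 X))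
      (Functor.isoWhiskerRight Scheme.Modules.restrictFunctorId _ ≪≫ Functor.leftUnitor _ ≪≫
        Scheme.Modules.restrictFunctorId)

/-- Direct image along an identity. -/
def RRIdIso (X : Scheme.{u}) : RR (𝟙 X) ≅ 𝟭 (DCoh.D X) :=
  ((resDAdj (𝟙 X)).ofNatIsoLeft (resDIdIso X)).rightAdjointUniq Adjunction.id

theorem isIso_unit_of_iso (e : X ≅ Y) : IsIso (resDAdj e.hom).unit := by
  haveI : ∀ E, IsIso ((resDAdj e.hom).unit.app E) := fun E => by
    obtain ⟨C, c, d, hT⟩ := distinguished_cocone_triangle ((resDAdj e.hom).unit.app E)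
    have hC : IsZero ((resD e.hom).obj C) :=
      (Triangle.isZero₃_iff_isIso₁ _ ((resD e.hom).map_distinguished _ hT)).2 (isIso_resD_unit e.hom E)
    refine (Triangle.isZero₃_iff_isIso₁ _ hT).1 (((resD e.inv).map_isZero hC).of_iso ?_)
    exact ((resDIdIso Y).app C).symm ≪≫ (resDCongrIso e.inv_hom_id.symm).app C ≪≫
      ((resDCompIso e.inv e.hom).app C).symm
  exact NatIso.isIso_of_isIso_app _

/-- Restriction along an isomorphism is the direct image along the inverse. -/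
def resDIsoRR (e : X ≅ Y) : resD e.hom ≅ RR e.inv :=
  (Functor.rightUnitor _).symm ≪≫
    Functor.isoWhiskerLeft (resD e.hom) ((RRIdIso X).symm ≪≫ RRCongr e.hom_inv_id.symm ≪≫
      (RRCompIso e.hom e.inv).symm) ≪≫
    (Functor.associator _ _ _).symm ≪≫
    Functor.isoWhiskerRight (@asIso _ _ _ _ _ (isIso_unit_of_iso e)).symm _ ≪≫
    Functor.leftUnitor _

/-- Restriction on `D_QCoh`. -/
abbrev resQ (j : U ⟶ X) [IsOpenImmersion j] : DCoh.DQCoh X ⥤ DCoh.DQCoh U :=
  ObjectProperty.lift DCoh.IsQCohD (ObjectProperty.ι DCoh.IsQCohD ⋙ resD j) fun K => isQCohD_resD j K.property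

/-- Direct image on `D_QCoh`. -/
abbrev RRQ (f : X ⟶ Y) [QuasiCompact f] [QuasiSeparated f] : DCoh.DQCoh X ⥤ DCoh.DQCoh Y :=
  ObjectProperty.lift DCoh.IsQCohD (ObjectProperty.ι DCoh.IsQCohD ⋙ RR f) fun K => isQCohD_Rres f K.obj K.property

/-- Restriction is left adjoint to the direct image. -/
def resQAdj (j : U ⟶ X) [IsOpenImmersion j] [QuasiCompact j] : resQ j ⊣ RRQ j :=
  (resDAdj j).restrictFullyFaithful (DCoh.IsQCohD (X := X)).fullyFaithfulι (DCoh.IsQCohD (X := U)).fullyFaithfulι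
    (Iso.refl _) (Iso.refl _)

theorem isIso_resQAdj_counit (j : U ⟶ X) [IsOpenImmersion j] [QuasiCompact j] (K : DCoh.DQCoh U) :
    IsIso ((resQAdj j).counit.app K) := by
  haveI : IsIso ((DCoh.IsQCohD (X := U)).ι.map ((resQAdj j).counit.app K)) := by
    rw [resQAdj, Adjunction.map_restrictFullyFaithful_counit_app]
    haveI := isIso_resDAdj_counit_app j K.obj
    simp only [Iso.refl_hom, Iso.refl_inv, NatTrans.id_app, Functor.map_id]
    erw [Category.id_comp]
    exact IsIso.comp_isIso' ((resD j).mapIso (Iso.refl _)).isIso_hom (isIso_resDAdj_counit_app j K.obj)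
  exact isIso_of_fully_faithful (DCoh.IsQCohD (X := U)).ι _

/-- Composition of direct images. -/
def RRQComp (f : X ⟶ Y) (g : Y ⟶ Z) [QuasiCompact f] [QuasiSeparated f] [QuasiCompact g] [QuasiSeparated g] :
    RRQ f ⋙ RRQ g ≅ RRQ (f ≫ g) :=
  NatIso.ofComponents (fun K => (DCoh.IsQCohD (X := Z)).isoMk ((RRCompIso f g).app K.obj))
    fun {A B} g' => ObjectProperty.hom_ext _ ((RRCompIso f g).hom.naturality g'.hom)

/-- Direct image along the identity. -/
def RRQId (X : Scheme.{u}) : RRQ (𝟙 X) ≅ 𝟭 (DCoh.DQCoh X) :=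
  NatIso.ofComponents (fun K => (DCoh.IsQCohD (X := X)).isoMk ((RRIdIso X).app K.obj))
    fun {A B} g' => ObjectProperty.hom_ext _ ((RRIdIso X).hom.naturality g'.hom)

/-- Equal morphisms have the same direct image. -/
def RRQCongr {f g : X ⟶ Y} [QuasiCompact f] [QuasiSeparated f] [QuasiCompact g] [QuasiSeparated g] (h : f = g) :
    RRQ f ≅ RRQ g :=
  NatIso.ofComponents (fun K => (DCoh.IsQCohD (X := Y)).isoMk ((RRCongr h).app K.obj))
    fun {A B} g' => ObjectProperty.hom_ext _ ((RRCongr h).hom.naturality g'.hom)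

/-- The given direct image is `RRQ`. -/
def rpushQIso (f : X ⟶ Y) [QuasiCompact f] [QuasiSeparated f] [DCoh.HasRpush f] (hf : DCoh.RpushPreservesQCoh f) :
    DCoh.RpushQ f hf ≅ RRQ f :=
  NatIso.ofComponents (fun K => (DCoh.IsQCohD (X := Y)).isoMk ((rpushIsoRres f).app K.obj))
    fun {A B} g' => ObjectProperty.hom_ext _ ((rpushIsoRres f).hom.naturality g'.hom)

section Adjoint

variable [IsNoetherian Y]

theorem isLeftAdjoint_RRQ (f : X ⟶ Y) [IsProper f] : (RRQ f).IsLeftAdjoint := by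
  haveI : CompactSpace X := QuasiCompact.compactSpace_of_compactSpace f
  haveI : QuasiSeparatedSpace X := quasiSeparatedSpace_of_quasiSeparated f
  haveI : DCoh.HasRpush f := KInj.hasRightDerivedFunctor _
  have hf : DCoh.RpushPreservesQCoh f := fun K hK =>
    GrothLib.KSix19.BettiExact.isQCohD_of_iso' ((rpushIsoRres f).app K).symm (isQCohD_Rres f K hK)
  haveI : (DCoh.RpushQ f hf).IsLeftAdjoint := GrothLib.OX.isLeftAdjoint_lift_Rpush f hf
  exact Functor.isLeftAdjoint_of_iso (rpushQIso f hf)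

/-- The right adjoint of a proper direct image. -/
def aQ (f : X ⟶ Y) [IsProper f] : DCoh.DQCoh Y ⥤ DCoh.DQCoh X :=
  haveI := isLeftAdjoint_RRQ f
  (RRQ f).rightAdjoint

/-- The adjunction. -/
def aQAdj (f : X ⟶ Y) [IsProper f] : RRQ f ⊣ aQ f :=
  haveI := isLeftAdjoint_RRQ f
  Adjunction.ofIsLeftAdjoint _

/-- Comparison with a given right adjoint. -/
def aQUniq (f : X ⟶ Y) [IsProper f] [DCoh.HasRpush f] (hf : DCoh.RpushPreservesQCoh f)
    {a : DCoh.DQCoh Y ⥤ DCoh.DQCoh X} (adj : DCoh.RpushQ f hf ⊣ a) : a ≅ aQ f :=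
  (adj.ofNatIsoLeft (rpushQIso f hf)).rightAdjointUniq (aQAdj f)

/-- The right adjoint of a composite. -/
def aQComp (f : X ⟶ Z) [IsNoetherian Z] (g : Z ⟶ Y) [IsProper f] [IsProper g] : aQ (f ≫ g) ≅ aQ g ⋙ aQ f :=
  ((aQAdj (f ≫ g)).ofNatIsoLeft (RRQComp f g).symm).rightAdjointUniq ((aQAdj f).comp (aQAdj g))

/-- Equal morphisms. -/
def aQCongr {f g : X ⟶ Y} [IsProper f] [IsProper g] (h : f = g) : aQ f ≅ aQ g :=
  ((aQAdj f).ofNatIsoLeft (RRQCongr h)).rightAdjointUniq (aQAdj g)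

/-- The right adjoint for the identity. -/
def aQId : aQ (𝟙 Y) ≅ 𝟭 (DCoh.DQCoh Y) :=
  ((aQAdj (𝟙 Y)).ofNatIsoLeft (RRQId Y)).rightAdjointUniq Adjunction.id

theorem exists_isGE_aQ (f : X ⟶ Y) [IsProper f] :
    ∃ N : ℕ, ∀ (K : DCoh.DQCoh Y) (c : ℤ), K.obj.IsGE c → ((aQ f).obj K).obj.IsGE (c - N) := by
  haveI : CompactSpace X := QuasiCompact.compactSpace_of_compactSpace f
  haveI : QuasiSeparatedSpace X := quasiSeparatedSpace_of_quasiSeparated f
  haveI : DCoh.HasRpush f := KInj.hasRightDerivedFunctor _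
  have hf : DCoh.RpushPreservesQCoh f := fun K hK =>
    GrothLib.KSix19.BettiExact.isQCohD_of_iso' ((rpushIsoRres f).app K).symm (isQCohD_Rres f K hK)
  obtain ⟨N, hN⟩ := Groth.Agent.S1767.result X Y f hf (aQ f) ((aQAdj f).ofNatIsoLeft (rpushQIso f hf).symm)
  refine ⟨N, fun K c hK => (DerivedCategory.isGE_iff _ _).2 fun i hi => ?_⟩
  exact hN K (c - 1) (fun k hk => DerivedCategory.isZero_of_isGE K.obj c k (by omega)) i (by omega)

theorem isZero_resD_aQ (f : X ⟶ Y) [IsProper f] (V : Y.Opens) (hV : IsCompact (V : Set Y)) (Q : DCoh.DQCoh Y)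
    (c : ℤ) [Q.obj.IsGE c] (hQ : IsZero ((resD V.ι).obj Q.obj)) :
    IsZero ((resD (f ⁻¹ᵁ V).ι).obj ((aQ f).obj Q).obj) := by
  haveI : CompactSpace X := QuasiCompact.compactSpace_of_compactSpace f
  haveI : QuasiSeparatedSpace X := quasiSeparatedSpace_of_quasiSeparated f
  haveI : DCoh.HasRpush f := KInj.hasRightDerivedFunctor _
  have hf : DCoh.RpushPreservesQCoh f := fun K hK =>
    GrothLib.KSix19.BettiExact.isQCohD_of_iso' ((rpushIsoRres f).app K).symm (isQCohD_Rres f K hK)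
  exact isZero_resD_adjoint_of_isGE f hf ((aQAdj f).ofNatIsoLeft (rpushQIso f hf).symm) V hV Q c hQ

theorem exists_triangle_aQ (f : X ⟶ Y) [IsProper f] {T : Triangle (DCoh.DQCoh Y)}
    (hT : T ∈ distTriang (DCoh.DQCoh Y)) :
    ∃ d : ((aQ f).obj T.obj₃).obj ⟶ (((aQ f).obj T.obj₁).obj)⟦(1 : ℤ)⟧,
      Triangle.mk ((aQ f).map T.mor₁).hom ((aQ f).map T.mor₂).hom d ∈ distTriang (DCoh.D X) := by
  haveI : CompactSpace X := QuasiCompact.compactSpace_of_compactSpace f
  haveI : DCoh.HasRpush f := KInj.hasRightDerivedFunctor _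
  have hf : DCoh.RpushPreservesQCoh f := fun K hK =>
    GrothLib.KSix19.BettiExact.isQCohD_of_iso' ((rpushIsoRres f).app K).symm (isQCohD_Rres f K hK)
  exact exists_map_triangle f hf ((aQAdj f).ofNatIsoLeft (rpushQIso f hf).symm) hT

end Adjoint

end GrothLib.RightAdj22
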