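import Groth.Agent.Lib.OX.DQCohBrown
import Groth.Prelude.Def_DDual2
import Mathlib.CategoryTheory.Triangulated.Adjunction

/-! # The right adjoint is exact -/

set_option autoImplicit false
set_option maxHeartbeats 1000000
set_option linter.style.haveILetI false
universe u

open CategoryTheory CategoryTheory.Limits AlgebraicGeometry CategoryTheory.Pretriangulated

attribute [local instance] HasDerivedCategory.standard

noncomputable section

namespace GrothLib.RightAdj22

open GrothLib.OX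

variable {X Y : Scheme.{u}}

/-- **The right adjoint sends distinguished triangles to distinguished triangles.** -/
theorem exists_map_triangle (f : X ⟶ Y) [QuasiCompact f] [QuasiSeparated f] [DCoh.HasRpush f]
    (hf : DCoh.RpushPreservesQCoh f) {a : DCoh.DQCoh Y ⥤ DCoh.DQCoh X} (adj : DCoh.RpushQ f hf ⊣ a)
    {T : Triangle (DCoh.DQCoh Y)} (hT : T ∈ distTriang (DCoh.DQCoh Y)) :
    ∃ d : (a.obj T.obj₃).obj ⟶ ((a.obj T.obj₁).obj)⟦(1 : ℤ)⟧,
      Triangle.mk (a.map T.mor₁).hom (a.map T.mor₂).hom d ∈ distTriang (DCoh.D X) := by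
  let G : DCoh.D X ⥤ DCoh.D Y := KInj.res X.Modules ⋙ DCoh.pushKh f
  have hG : ∀ K : DCoh.DQCoh X, DCoh.IsQCohD ((ObjectProperty.ι DCoh.IsQCohD ⋙ G).obj K) := fun K =>
    isQCohD_Rres f K.obj K.property
  let F : DCoh.DQCoh X ⥤ DCoh.DQCoh Y := ObjectProperty.lift DCoh.IsQCohD (ObjectProperty.ι DCoh.IsQCohD ⋙ G) hG
  let i : DCoh.RpushQ f hf ≅ F := NatIso.ofComponents (fun K =>
    (DCoh.IsQCohD (X := Y)).isoMk ((rpushIsoRres f).app K.obj))
    (fun {A B} g => ObjectProperty.hom_ext _ ((rpushIsoRres f).hom.naturality g.hom))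
  let adj' := adj.ofNatIsoLeft i
  letI : a.CommShift ℤ := adj'.rightAdjointCommShift ℤ
  haveI : adj'.CommShift ℤ := adj'.commShift_of_leftAdjoint ℤ
  haveI : a.IsTriangulated := adj'.isTriangulated_rightAdjoint
  exact ⟨_, ((a ⋙ (DCoh.IsQCohD (X := X)).ι).map_distinguished T hT)⟩

end GrothLib.RightAdj22
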