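import Groth.Agent.Lib.RightAdj22.Coherent

/-! # Duality for finite morphisms: `f_* f^! = RHom(f_* O, -)` -/

set_option autoImplicit false
set_option maxHeartbeats 1000000
set_option linter.style.haveILetI false
universe u

open CategoryTheory CategoryTheory.Limits AlgebraicGeometry HomologicalComplex

attribute [local instance] HasDerivedCategory.standard

noncomputable section

namespace GrothLib.RightAdj22

open GrothLib.OX GrothLib.KSix19

variable {X Y : Scheme.{u}}

/-- Tensoring with the unit complex is the identity. -/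
theorem nonempty_LTensorCx_unit [DCoh.HasLTensorCx (unitCx X)] : Nonempty (DCoh.LTensorCx (unitCx X) ≅ 𝟭 (DCoh.D X)) := by
  have hP : DCoh.IsKFlat (unitCx X) := isKFlat_single _ (flat_structureModule _) 0
  haveI : IsIso ((DCoh.tensorCxQ (unitCx X)).totalLeftDerivedCounit DerivedCategory.Q
      (HomologicalComplex.quasiIso X.Modules (ComplexShape.up ℤ))) :=
    haveI := isIso_counit_of_isKFlat (unitCx X) hP
    NatIso.isIso_of_isIso_app _
  let γ : DerivedCategory.Q ⋙ DCoh.LTensorCx (unitCx X) ≅ DerivedCategory.Q :=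
    asIso ((DCoh.tensorCxQ (unitCx X)).totalLeftDerivedCounit DerivedCategory.Q
      (HomologicalComplex.quasiIso X.Modules (ComplexShape.up ℤ))) ≪≫
    Functor.isoWhiskerRight singleUnitNatIso DerivedCategory.Q ≪≫ Functor.leftUnitor _
  letI : Localization.Lifting DerivedCategory.Q (HomologicalComplex.quasiIso X.Modules (ComplexShape.up ℤ))
      DerivedCategory.Q (DCoh.LTensorCx (unitCx X)) := ⟨γ⟩
  exact ⟨Localization.liftNatIso DerivedCategory.Q (HomologicalComplex.quasiIso X.Modules (ComplexShape.up ℤ))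
    DerivedCategory.Q DerivedCategory.Q _ (𝟭 _) (Iso.refl _)⟩

theorem nonempty_finite [AlgebraicGeometry.IsNoetherian X] (f : Y ⟶ X) [IsFinite f] (E : CochainComplex X.Modules ℤ)
    (hE : Nonempty (DerivedCategory.Q.obj E ≅ (RR f).obj (DerivedCategory.Q.obj (unitCx Y))))
    (hEb : ∀ n : ℤ, DCoh.IsPseudoCoherentD n (DerivedCategory.Q.obj E))
    [DCoh.HasLTensorCx E] [DCoh.HasRSheafHom E] :
    Nonempty (Dual3.bddι X ⋙ aQ f ⋙ ObjectProperty.ι _ ⋙ RR f ≅
      Dual3.bddι X ⋙ ObjectProperty.ι _ ⋙ DCoh.RSheafHom E) := by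
  obtain ⟨eE⟩ := hE
  haveI := hasLTensorCx (unitCx Y)
  haveI := hasRSheafHom (unitCx Y)
  have hO : DCoh.IsPerfect (DerivedCategory.Q.obj (unitCx Y)) :=
    isPerfect_of_iso (isPerfect_unit Y) (unitCxQIso Y).symm
  obtain ⟨B, _, _, ⟨eB⟩, h⟩ := nonempty_RR_RSheafHom_natural f (unitCx Y) hO
  obtain ⟨cB⟩ := nonempty_RSheafHom_congr (eB ≪≫ eE.symm)
  obtain ⟨l⟩ := nonempty_LTensorCx_unit (X := Y)
  let ru : DCoh.RSheafHom (unitCx Y) ≅ 𝟭 _ :=
    ((DCoh.RSheafHomAdj (unitCx Y)).ofNatIsoLeft l).rightAdjointUniq Adjunction.id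
  obtain ⟨n⟩ := h (Dual3.IsBddBelowQ X) fun K ⟨c, hc⟩ j => by
    haveI := hc
    exact isQCoh_HD_RSheafHom_of_pseudo B (c - j - 1)
      (isPseudoCoherentD_of_iso (hEb _) (eE ≪≫ eB.symm)) K.property c
      (fun m hm => DerivedCategory.isZero_of_isGE K.obj c m hm) j (by omega)
  exact ⟨Functor.isoWhiskerLeft (Dual3.bddι X ⋙ aQ f ⋙ ObjectProperty.ι _)
      ((Functor.leftUnitor _).symm ≪≫ Functor.isoWhiskerRight ru.symm (RR f)) ≪≫ n ≪≫
    Functor.isoWhiskerLeft (Dual3.bddι X ⋙ ObjectProperty.ι _) cB⟩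

end GrothLib.RightAdj22

namespace GrothLib.RightAdj22

open GrothLib.OX GrothLib.KSix19

variable {X Y : Scheme.{u}}

theorem nonempty_RR_affine_unit (f : Y ⟶ X) [IsAffineHom f] :
    Nonempty ((RR f).obj (DerivedCategory.Q.obj (unitCx Y)) ≅
      DCoh.inD X ((Scheme.Modules.pushforward f).obj (Coh.structureModule Y))) := by
  have hq : ∀ n, Coh.IsQCoh ((unitCx Y).X n) := isQCoh_unitCx_X
  haveI := isIso_pushKh_unit_of_affine f (unitCx Y) hq
  exact ⟨(RR f).mapIso ((DerivedCategory.quotientCompQhIso Y.Modules).app (unitCx Y)).symm ≪≫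
    (asIso ((DCoh.pushKh f).map ((KInj.resAdj Y.Modules).unit.app
      ((HomotopyCategory.quotient _ _).obj (unitCx Y))))).symm ≪≫
    DerivedCategory.Qh.mapIso (((Scheme.Modules.pushforward f).mapHomotopyCategoryFactors _).app (unitCx Y)) ≪≫
    (DerivedCategory.quotientCompQhIso X.Modules).app _ ≪≫
    DerivedCategory.Q.mapIso ((singleMapHomologicalComplex (Scheme.Modules.pushforward f) (ComplexShape.up ℤ) 0).app _) ≪≫
    ((DerivedCategory.singleFunctorIsoCompQ X.Modules 0).app _).symm⟩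

theorem isCohD_inD [IsLocallyNoetherian X] {M : X.Modules} (hM : Coh.IsCoh M) : DCoh.IsCohD (DCoh.inD X M) :=
  fun j => by
  by_cases hj : j = 0
  · subst hj
    exact QCoh.isCoh_of_iso ((DerivedCategory.singleFunctorCompHomologyFunctorIso X.Modules 0).app M).symm hM
  · exact OX.isCoh_of_isZero (if h : 0 < j then DerivedCategory.isZero_of_isLE _ 0 j h
      else DerivedCategory.isZero_of_isGE _ 0 j (by omega))

end GrothLib.RightAdj22
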