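import Groth.Agent.Lib.RightAdj22.Coherent
import Groth.Agent.Lib.Chow.Embed

/-! # The right adjoint of a proper direct image preserves coherence -/

set_option autoImplicit false
set_option maxHeartbeats 2000000
set_option linter.style.haveILetI false
universe u

open CategoryTheory CategoryTheory.Limits AlgebraicGeometry

attribute [local instance] HasDerivedCategory.standard

noncomputable section

namespace GrothLib.RightAdj22

open GrothLib.OX GrothLib.KSix19

variable {X Y U : Scheme.{u}}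

/-- Bounded below with coherent cohomology. -/
def CohB (K : BQ X) : Prop := DCoh.IsCohD K.obj.obj

theorem CohB.of_iso {K L : BQ X} (e : K ≅ L) (h : CohB K) : CohB L := isCohD_of_iso ((BQι X).mapIso e) h

theorem CohB.res (j : U ⟶ X) [IsOpenImmersion j] [IsLocallyNoetherian X] {K : BQ X} (h : CohB K) :
    CohB ((resB j).obj K) := fun i =>
  QCoh.isCoh_of_iso (HDResIso j K.obj.obj i).symm (Cohom.isCoh_restrict _ (h i) j)

/-- The right adjoint of `f` preserves coherence. -/
def GoodA [AlgebraicGeometry.IsNoetherian Y] (f : X ⟶ Y) [IsProper f] : Prop :=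
  ∀ K : BQ Y, CohB K → CohB ((aB f).obj K)

theorem goodA_closedImmersion [AlgebraicGeometry.IsNoetherian Y] (i : X ⟶ Y) [IsClosedImmersion i] : GoodA i :=
  fun K hK => by
    obtain ⟨c, hc⟩ := K.property
    haveI := hc
    exact isCohD_aQ_closedImmersion i K.obj c hK

theorem GoodA.comp {Z : Scheme.{u}} [AlgebraicGeometry.IsNoetherian Y] [AlgebraicGeometry.IsNoetherian Z]
    {f : X ⟶ Z} {g : Z ⟶ Y} [IsProper f] [IsProper g] (hf : GoodA f) (hg : GoodA g) : GoodA (f ≫ g) :=
  fun K hK => (hf _ (hg K hK)).of_iso ((aBComp f g).app K).symm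

theorem GoodA.congr [AlgebraicGeometry.IsNoetherian Y] {f g : X ⟶ Y} [IsProper f] [IsProper g] (h : f = g)
    (hf : GoodA f) : GoodA g :=
  fun K hK => (hf K hK).of_iso ((aBCongr h).app K)

theorem goodA_projSpace (n : ℕ) (A : Type u) [CommRing A] [IsNoetherianRing A]
    [IsProper (CohB1.ProjSpace.toSpec n A)] : GoodA (CohB1.ProjSpace.toSpec n A) := fun K hK => by
  obtain ⟨c, hc⟩ := K.property
  haveI := hc
  exact isCohD_aQ_of_bounded _ (fun L c b hc hb hL => haveI := hc; haveI := hb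
    isCohD_aQ_projSpace_bounded n A L c b hL) K.obj c hK

theorem goodA_toBase (n : ℕ) (V : Scheme.{u}) [IsAffine V] [AlgebraicGeometry.IsNoetherian V]
    [IsProper (CohB1.ProjSpaceOver.toBase n V)] : GoodA (CohB1.ProjSpaceOver.toBase n V) := by
  let A : CommRingCat.{u} := Γ(V, ⊤)
  haveI : IsNoetherianRing A := IsLocallyNoetherian.component_noetherian ⟨⊤, isAffineOpen_top V⟩
  let y : Spec (CommRingCat.of A) ⟶ V := V.isoSpec.inv
  haveI : IsIso y := inferInstanceAs (IsIso V.isoSpec.inv)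
  obtain ⟨ω, -, hω⟩ := ProjPic26.exists_isPullback_point (n := n) (R := A) V y
  haveI : IsIso ω := hω.isIso_fst_of_isIso
  haveI : IsProper (CohB1.ProjSpace.toSpec n A) := Chow.isProper_toSpec n A
  haveI := isNoetherian_of_proper (CohB1.ProjSpace.toSpec n A)
  haveI := isNoetherian_of_proper (CohB1.ProjSpaceOver.toBase n V)
  refine GoodA.congr (show inv ω ≫ CohB1.ProjSpace.toSpec n A ≫ y = CohB1.ProjSpaceOver.toBase n V by
    rw [IsIso.inv_comp_eq]; exact hω.w.symm) ?_
  exact (goodA_closedImmersion (inv ω)).comp ((goodA_projSpace n A).comp (goodA_closedImmersion y))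

/-- **Coherence, locally on the source, through any compactification.** -/
theorem cohB_shB_affine {V W : Scheme.{u}} [IsAffine U] [IsAffine V] [AlgebraicGeometry.IsNoetherian V] (σ : U ⟶ W)
    [IsOpenImmersion σ] (f : W ⟶ V) [IsProper f] {K : BQ V} (hK : CohB K) : CohB ((shB σ f).obj K) := by
  haveI := isNoetherian_of_proper f
  haveI := isNoetherian_of_openImmersion σ
  obtain ⟨N, j, hj, hjc, hjf⟩ := Chow.exists_immersion (σ ≫ f)
  haveI := hj
  haveI := hjc
  haveI : IsProper (CohB1.ProjSpaceOver.toBase N V) := Chow.isProper_toBase N V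
  haveI := isNoetherian_of_proper (CohB1.ProjSpaceOver.toBase N V)
  obtain ⟨e⟩ := nonempty_shB_indep σ f j.toImage (j.imageι ≫ CohB1.ProjSpaceOver.toBase N V)
    (by rw [Scheme.Hom.toImage_imageι_assoc]; exact hjf.symm)
  haveI := isNoetherian_of_proper j.imageι
  refine CohB.of_iso (e.app K).symm (CohB.res j.toImage ?_)
  exact ((goodA_closedImmersion j.imageι).comp (goodA_toBase N V)) K hK

/-- **The right adjoint of a proper direct image preserves coherence.** -/
theorem goodA [AlgebraicGeometry.IsNoetherian Y] (f : X ⟶ Y) [IsProper f] : GoodA f := fun K hK i => by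
  haveI := isNoetherian_of_proper f
  refine Euler.isCoh_of_restrict fun x => ?_
  obtain ⟨V, hV, hx, -⟩ := exists_isAffineOpen_mem_and_subset (x := f x) (U := ⊤) trivial
  obtain ⟨U, hU, hxU, hUV⟩ := exists_isAffineOpen_mem_and_subset (x := x) (U := f ⁻¹ᵁ V) hx
  haveI : IsAffine (V : Scheme.{u}) := hV
  haveI : IsAffine (U : Scheme.{u}) := hU
  haveI := isNoetherian_of_openImmersion V.ι
  let σ : (U : Scheme.{u}) ⟶ (f ⁻¹ᵁ V : Scheme.{u}) := X.homOfLE hUV
  haveI : IsProper (f ∣_ V) := inferInstance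
  obtain ⟨R⟩ := nonempty_restrict (isPullback_morphismRestrict f V).flip
  have h1 : CohB ((shB σ (f ∣_ V)).obj ((resB V.ι).obj K)) := cohB_shB_affine σ (f ∣_ V) (hK.res V.ι)
  let e : (shB σ (f ∣_ V)).obj ((resB V.ι).obj K) ≅ (resB U.ι).obj ((aB f).obj K) :=
    (resB σ).mapIso (R.app K).symm ≪≫
      (resBComp σ (f ⁻¹ᵁ V).ι ≪≫ resBCongr (X.homOfLE_ι hUV)).app ((aB f).obj K)
  exact ⟨U, hxU, QCoh.isCoh_of_iso (HDResIso U.ι _ i) (h1.of_iso e i)⟩

theorem isCohD_adjoint [AlgebraicGeometry.IsNoetherian Y] (f : X ⟶ Y) [IsProper f] [DCoh.HasRpush f]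
    (hf : DCoh.RpushPreservesQCoh f) {a : DCoh.DQCoh Y ⥤ DCoh.DQCoh X} (adj : DCoh.RpushQ f hf ⊣ a)
    (K : DCoh.DQCoh Y) (c : ℤ) [hc : K.obj.IsGE c] (hK : DCoh.IsCohD K.obj) : DCoh.IsCohD (a.obj K).obj :=
  isCohD_of_iso ((DCoh.IsQCohD (X := X)).ι.mapIso ((aQUniq f hf adj).app K)).symm
    (goodA f ⟨K, c, hc⟩ hK)

end GrothLib.RightAdj22
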