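import Groth.Agent.Lib.RightAdj22.TopRep
import Groth.Agent.Lib.RLpsi8.FibreVanish
import Groth.Agent.Lib.RightAdj22.CoherentMain
import Groth.Agent.Lib.RatSing29.R1Support
import Groth.Agent.Lib.OX.DQCohBrown
import Groth.Agent.Lib.HomSh.Coherent
import Groth.Agent.Lib.RightAdj22.Finite

/-! # Dualizing pairs -/

set_option autoImplicit false
set_option backward.isDefEq.respectTransparency false
set_option linter.style.haveILetI false
set_option maxHeartbeats 1000000
universe u

open CategoryTheory CategoryTheory.Limits AlgebraicGeometry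
attribute [local instance] HasDerivedCategory.standard

noncomputable section

namespace GrothLib.RightAdj22

open GrothLib.OX

variable {X S : Scheme.{u}}

theorem isZero_of_isZero_toAb {M : S.Modules} (h : IsZero (Coh.toAb M)) : IsZero M := by
  rw [IsZero.iff_id_eq_zero]
  exact (SheafOfModules.toSheaf S.ringCatSheaf).map_injective (h.eq_of_src _ _)

/-- Higher direct images vanish above the dimension of the fibres. -/
theorem isZero_Rpush_of_fibreDim (f : X ⟶ S) [IsProper f] [CompactSpace S] [QuasiSeparatedSpace S] (d : ℕ)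
    (hd : ∀ s : S, topologicalKrullDim ↥(f.fiber s) ≤ d) (M : X.Modules) (hM : M.IsQuasicoherent) (q : ℕ)
    (hq : d < q) : IsZero ((Coh.Rpush f q).obj M) := by
  haveI := RpushSupp20.hasInjectiveResolutions X
  haveI := hM
  obtain ⟨e⟩ := Cohom.nonempty_homology_iso_RpushAb f (Cohom.FlRes.ofInjective (injectiveResolution M)) q
  exact isZero_of_isZero_toAb ((RLpsi8.FibreVanish.isZero_RpushAb f d hd M q hq).of_iso
    ((SheafOfModules.toSheaf S.ringCatSheaf).mapIso (Cohom.rpushIso f M q) ≪≫ e))

variable {A : Type u} [CommRing A]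

/-- Global sections of the structure sheaf of an affine scheme. -/
def gammaStructureIso (R : CommRingCat.{u}) : (moduleSpecΓFunctor (R := R)).obj
    (Coh.structureModule (Spec R)) ≅ ModuleCat.of R R :=
  (moduleSpecΓFunctor (R := R)).mapIso ((genTopIso (Spec R)).symm ≪≫ tildeGenIso R :
      Coh.structureModule (Spec R) ≅ (tilde.functor R).obj (ModuleCat.of R R)) ≪≫
    (tilde.toTildeΓNatIso.app (ModuleCat.of R R)).symm

/-- **The dualizing pair of a proper scheme over an affine base.** -/
theorem exists_pair_affine (X : Scheme.{u}) [X.Over (Spec (CommRingCat.of A))]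
    [IsProper (X ↘ Spec (CommRingCat.of A))] (d : ℕ)
    (hd : ∀ M : X.Modules, M.IsQuasicoherent → ∀ q : ℕ, d < q →
      IsZero ((Coh.Rpush (X ↘ Spec (CommRingCat.of A)) q).obj M)) :
    ∃ (ω : X.Modules), Coh.IsQCoh ω ∧ (IsNoetherianRing A → Coh.IsCoh ω) ∧ ∃ t : Coh.HH X ω d →ₗ[A] A,
      ∀ F : X.Modules, Coh.IsQCoh F → ∀ ψ : Coh.HH X F d →ₗ[A] A,
        ∃! φ : F ⟶ ω, ∀ x, ψ x = t (Sheaf.H.map ((SheafOfModules.toSheaf X.ringCatSheaf).map φ) d x) := by
  let f := X ↘ Spec (CommRingCat.of A)
  let S : Scheme.{u} := Spec (CommRingCat.of A)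
  haveI : CompactSpace X := QuasiCompact.compactSpace_of_compactSpace f
  haveI : QuasiSeparatedSpace X := quasiSeparatedSpace_of_quasiSeparated f
  haveI : DCoh.HasRpush f := KInj.hasRightDerivedFunctor _
  have hf : DCoh.RpushPreservesQCoh f := fun K hK =>
    GrothLib.KSix19.BettiExact.isQCohD_of_iso' ((rpushIsoRres f).app K).symm (isQCohD_Rres f K hK)
  haveI : (DCoh.RpushQ f hf).IsLeftAdjoint := OX.isLeftAdjoint_lift_Rpush f hf
  let adj := Adjunction.ofIsLeftAdjoint (DCoh.RpushQ f hf)
  let W : DCoh.DQCoh S := ⟨DCoh.inD S (Coh.structureModule S),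
    KSix19.RpushAmp.isQCohD_inD _ (inferInstanceAs (Coh.structureModule S).IsQuasicoherent)⟩
  haveI : W.obj.IsGE 0 := inferInstanceAs (((DerivedCategory.singleFunctor S.Modules 0).obj _).IsGE 0)
  let a := (DCoh.RpushQ f hf).rightAdjoint
  refine ⟨DCoh.HD (a.obj W).obj (0 - d), (a.obj W).property _, fun hA => ?_, ?_⟩
  · haveI := hA
    haveI : IsNoetherianRing (CommRingCat.of A) := hA
    exact isCohD_adjoint f hf adj W 0 (isCohD_inD (HomSh.isCoh_structureModule S)) _
  obtain ⟨t, ht⟩ := exists_topPair f hf adj W 0 d hd (ModuleCat.of A A)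
    ((moduleSpecΓFunctor (R := CommRingCat.of A)).mapIso
      ((DerivedCategory.singleFunctorCompHomologyFunctorIso S.Modules 0).app (Coh.structureModule S)) ≪≫ gammaStructureIso (CommRingCat.of A))
  exact ⟨t, ht⟩

end GrothLib.RightAdj22
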