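import Groth.Agent.Lib.RightAdj22.Restrict
import Groth.Prelude.Def_Dual3
import Mathlib.AlgebraicGeometry.Morphisms.Immersion

/-! # Upper shriek through compactifications -/

set_option autoImplicit false
set_option maxHeartbeats 1000000
set_option linter.style.haveILetI false
universe u

open CategoryTheory CategoryTheory.Limits AlgebraicGeometry

attribute [local instance] HasDerivedCategory.standard

noncomputable section

namespace GrothLib.RightAdj22

open GrothLib.OX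

variable {X Y Z : Scheme.{u}}

theorem isNoetherian_of_proper {W : Scheme.{u}} (p : W ⟶ Y) [IsProper p] [AlgebraicGeometry.IsNoetherian Y] :
    AlgebraicGeometry.IsNoetherian W := by
  haveI := LocallyOfFiniteType.isLocallyNoetherian p
  haveI : CompactSpace W := QuasiCompact.compactSpace_of_compactSpace p
  exact {}

theorem isNoetherian_of_openImmersion {W : Scheme.{u}} (j : W ⟶ Y) [IsOpenImmersion j]
    [AlgebraicGeometry.IsNoetherian Y] : AlgebraicGeometry.IsNoetherian W := by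
  haveI := LocallyOfFiniteType.isLocallyNoetherian j
  haveI : QuasiCompact j := quasiCompact_of_isCompact_range j (TopologicalSpace.NoetherianSpace.isCompact _)
  haveI : CompactSpace W := QuasiCompact.compactSpace_of_compactSpace j
  exact {}

/-- Upper shriek through a factorisation, on bounded below objects. -/
abbrev shB [AlgebraicGeometry.IsNoetherian Y] {W : Scheme.{u}} (j : X ⟶ W) (p : W ⟶ Y) [IsOpenImmersion j]
    [IsProper p] : BQ Y ⥤ BQ X :=
  aB p ⋙ resB j

variable [AlgebraicGeometry.IsNoetherian Y]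

/-- **Invariance under domination.** -/
theorem nonempty_shB_of_hom {X₁ X₂ : Scheme.{u}} {j₁ : X ⟶ X₁} {p₁ : X₁ ⟶ Y} {j₂ : X ⟶ X₂} {p₂ : X₂ ⟶ Y}
    [IsOpenImmersion j₁] [IsOpenImmersion j₂] [IsProper p₁] [IsProper p₂] (h : X₁ ⟶ X₂) (hp : h ≫ p₂ = p₁)
    (hj : j₁ ≫ h = j₂) : Nonempty (shB j₁ p₁ ≅ shB j₂ p₂) := by
  haveI := isNoetherian_of_proper p₁
  haveI := isNoetherian_of_proper p₂
  haveI := isNoetherian_of_openImmersion j₂
  haveI : IsProper (h ≫ p₂) := by rw [hp]; infer_instance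
  haveI : IsProper h := IsProper.of_comp h p₂
  let k := pullback.fst h j₂
  let q := pullback.snd h j₂
  let σ : X ⟶ pullback h j₂ := pullback.lift j₁ (𝟙 X) (by rw [hj, Category.id_comp])
  have hσk : σ ≫ k = j₁ := pullback.lift_fst _ _ _
  have hσq : σ ≫ q = 𝟙 X := pullback.lift_snd _ _ _
  haveI : IsOpenImmersion k := inferInstanceAs (IsOpenImmersion (pullback.fst h j₂))
  haveI : IsProper q := inferInstanceAs (IsProper (pullback.snd h j₂))
  haveI : IsOpenImmersion (σ ≫ k) := by rw [hσk]; infer_instance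
  haveI : IsOpenImmersion σ := IsOpenImmersion.of_comp σ k
  haveI : IsClosedImmersion (σ ≫ q) := by rw [hσq]; infer_instance
  haveI : IsClosedImmersion σ := IsClosedImmersion.of_comp σ q
  haveI := isNoetherian_of_proper q
  obtain ⟨R⟩ := nonempty_restrict (IsPullback.of_hasPullback h j₂ : IsPullback k q h j₂)
  obtain ⟨S⟩ := nonempty_restrict (f := σ) (j := σ) (k := 𝟙 X) (f' := 𝟙 X) (IsKernelPair.id_of_mono σ)
  let e : aB q ⋙ resB σ ≅ 𝟭 (BQ X) :=
    Functor.isoWhiskerLeft (aB q) ((Functor.rightUnitor _).symm ≪≫ Functor.isoWhiskerLeft _ aBId.symm ≪≫ S.symm ≪≫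
      Functor.isoWhiskerLeft _ (resBId X) ≪≫ Functor.rightUnitor _) ≪≫
    (aBComp σ q).symm ≪≫ aBCongr hσq ≪≫ aBId
  exact ⟨Functor.isoWhiskerRight (aBCongr hp.symm ≪≫ aBComp h p₂) (resB j₁) ≪≫
    Functor.isoWhiskerLeft (aB p₂ ⋙ aB h) (resBCongr hσk.symm ≪≫ (resBComp σ k).symm) ≪≫
    Functor.associator _ _ _ ≪≫
    Functor.isoWhiskerLeft (aB p₂) ((Functor.associator _ _ _).symm ≪≫ Functor.isoWhiskerRight R (resB σ) ≪≫
      Functor.associator _ _ _ ≪≫ Functor.isoWhiskerLeft (resB j₂) e ≪≫ Functor.rightUnitor _)⟩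

/-- **Independence of the compactification.** -/
theorem nonempty_shB_indep {X₁ X₂ : Scheme.{u}} (j₁ : X ⟶ X₁) (p₁ : X₁ ⟶ Y) (j₂ : X ⟶ X₂) (p₂ : X₂ ⟶ Y)
    [IsOpenImmersion j₁] [IsOpenImmersion j₂] [IsProper p₁] [IsProper p₂] (hw : j₁ ≫ p₁ = j₂ ≫ p₂) :
    Nonempty (shB j₁ p₁ ≅ shB j₂ p₂) := by
  let γ : X ⟶ pullback p₁ p₂ := pullback.lift j₁ j₂ hw
  haveI : IsImmersion (γ ≫ pullback.fst p₁ p₂) := by rw [pullback.lift_fst]; infer_instance
  haveI : IsImmersion γ := IsImmersion.of_comp γ (pullback.fst p₁ p₂)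
  haveI : IsProper (pullback.fst p₁ p₂ ≫ p₁) := inferInstance
  haveI := isNoetherian_of_proper (pullback.fst p₁ p₂ ≫ p₁)
  haveI := isNoetherian_of_proper p₁
  haveI := isNoetherian_of_openImmersion j₁
  haveI : QuasiCompact γ := inferInstance
  let p : γ.image ⟶ Y := γ.imageι ≫ pullback.fst p₁ p₂ ≫ p₁
  obtain ⟨e₁⟩ := nonempty_shB_of_hom (j₁ := γ.toImage) (p₁ := p) (j₂ := j₁) (p₂ := p₁)
    (γ.imageι ≫ pullback.fst p₁ p₂) (Category.assoc _ _ _)
    (by rw [Scheme.Hom.toImage_imageι_assoc]; exact pullback.lift_fst _ _ _)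
  obtain ⟨e₂⟩ := nonempty_shB_of_hom (j₁ := γ.toImage) (p₁ := p) (j₂ := j₂) (p₂ := p₂)
    (γ.imageι ≫ pullback.snd p₁ p₂) (by simp [p, pullback.condition])
    (by rw [Scheme.Hom.toImage_imageι_assoc]; exact pullback.lift_snd _ _ _)
  exact ⟨e₁.symm ≪≫ e₂⟩

/-- **Upper shriek of a composite.** -/
theorem nonempty_shB_comp [AlgebraicGeometry.IsNoetherian Z] {f : X ⟶ Z} {g : Z ⟶ Y} {Xf Zg W : Scheme.{u}}
    (jf : X ⟶ Xf) (pf : Xf ⟶ Z) (jg : Z ⟶ Zg) (pg : Zg ⟶ Y) (j : X ⟶ W) (p : W ⟶ Y)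
    [IsOpenImmersion jf] [IsOpenImmersion jg] [IsOpenImmersion j] [IsProper pf] [IsProper pg] [IsProper p]
    (hf : jf ≫ pf = f) (hg : jg ≫ pg = g) (h : j ≫ p = f ≫ g) :
    Nonempty (shB j p ≅ shB jg pg ⋙ shB jf pf) := by
  let γ : X ⟶ pullback p pg := pullback.lift j (f ≫ jg) (by rw [h, Category.assoc, hg])
  haveI : IsImmersion (γ ≫ pullback.fst p pg) := by rw [pullback.lift_fst]; infer_instance
  haveI : IsImmersion γ := IsImmersion.of_comp γ (pullback.fst p pg)
  haveI := isNoetherian_of_proper p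
  haveI := isNoetherian_of_proper pg
  haveI := isNoetherian_of_openImmersion j
  haveI : IsProper (pullback.fst p pg ≫ p) := inferInstance
  haveI := isNoetherian_of_proper (pullback.fst p pg ≫ p)
  haveI : QuasiCompact γ := inferInstance
  let p' : γ.image ⟶ Y := γ.imageι ≫ pullback.fst p pg ≫ p
  let m : γ.image ⟶ Zg := γ.imageι ≫ pullback.snd p pg
  have hm : m ≫ pg = p' := by simp [m, p', pullback.condition]
  haveI : IsProper m := inferInstance
  have hjm : γ.toImage ≫ m = f ≫ jg := by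
    rw [Scheme.Hom.toImage_imageι_assoc]; exact pullback.lift_snd _ _ _
  let k := pullback.fst m jg
  let q := pullback.snd m jg
  let σ : X ⟶ pullback m jg := pullback.lift γ.toImage f hjm
  have hσk : σ ≫ k = γ.toImage := pullback.lift_fst _ _ _
  have hσq : σ ≫ q = f := pullback.lift_snd _ _ _
  haveI : IsOpenImmersion k := inferInstanceAs (IsOpenImmersion (pullback.fst m jg))
  haveI : IsProper q := inferInstanceAs (IsProper (pullback.snd m jg))
  haveI : IsOpenImmersion (σ ≫ k) := by rw [hσk]; infer_instance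
  haveI : IsOpenImmersion σ := IsOpenImmersion.of_comp σ k
  obtain ⟨a⟩ := nonempty_shB_of_hom (j₁ := γ.toImage) (p₁ := p') (j₂ := j) (p₂ := p)
    (γ.imageι ≫ pullback.fst p pg) (Category.assoc _ _ _)
    (by rw [Scheme.Hom.toImage_imageι_assoc]; exact pullback.lift_fst _ _ _)
  obtain ⟨b⟩ := nonempty_shB_indep σ q jf pf (hσq.trans hf.symm)
  obtain ⟨R⟩ := nonempty_restrict (IsPullback.of_hasPullback m jg : IsPullback k q m jg)
  exact ⟨a.symm ≪≫ Functor.isoWhiskerRight (aBCongr hm.symm ≪≫ aBComp m pg) (resB γ.toImage) ≪≫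
    Functor.isoWhiskerLeft (aB pg ⋙ aB m) (resBCongr hσk.symm ≪≫ (resBComp σ k).symm) ≪≫
    Functor.associator _ _ _ ≪≫
    Functor.isoWhiskerLeft (aB pg) ((Functor.associator _ _ _).symm ≪≫ Functor.isoWhiskerRight R (resB σ) ≪≫
      Functor.associator _ _ _ ≪≫ Functor.isoWhiskerLeft (resB jg) b) ≪≫
    (Functor.associator _ _ _).symm⟩

/-- Comparison with the given data. -/
theorem nonempty_shriekC {f : X ⟶ Y} (c : DEt.Compactification f) [DCoh.HasRpush c.fbar]
    (hc : DCoh.RpushPreservesQCoh c.fbar) {a : DCoh.DQCoh Y ⥤ DCoh.DQCoh c.Xbar}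
    (adj : DCoh.RpushQ c.fbar hc ⊣ a) [PreservesFiniteLimits (Scheme.Modules.restrictFunctor c.j)] :
    Nonempty (Dual3.bddι Y ⋙ Dual3.shriekC c a ≅ shB c.j c.fbar ⋙ BQι X) :=
  ⟨Functor.isoWhiskerLeft (Dual3.bddι Y)
    (Functor.isoWhiskerRight (aQUniq c.fbar hc adj) (ObjectProperty.ι _ ⋙ DCoh.restrictD c.j))⟩

end GrothLib.RightAdj22
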