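import Groth.Agent.Lib.OX.ProjQCohSigma
import Groth.Agent.Lib.OX.HomTri
import Groth.Agent.Lib.OX.RRComp
import Groth.Agent.Lib.OX.LTensorCx
import Groth.Agent.Lib.OX.RHomRestrict

/-! # The projection formula, natural in the object pushed forward -/

set_option autoImplicit false
set_option maxHeartbeats 1000000
set_option linter.style.haveILetI false
universe u

open CategoryTheory CategoryTheory.Limits AlgebraicGeometry HomologicalComplex

attribute [local instance] HasDerivedCategory.standard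

noncomputable section

namespace GrothLib.RightAdj22

open GrothLib.OX GrothLib.ProjFormula

variable {X Y : Scheme.{u}} (f : X ⟶ Y)

theorem projCx_natural₂ (P : CochainComplex Y.Modules ℤ) {A A' : CochainComplex X.Modules ℤ} (a : A ⟶ A') :
    ((DCoh.tensorCx (X := Y)).obj P).map ((pushCxF f).map a) ≫ projCx f P A' =
      projCx f P A ≫ (pushCxF f).map (((DCoh.tensorCx (X := X)).obj ((pullCxF f).obj P)).map a) := by
  let m := (((DCoh.tensorBi (X := Y)).mapBifunctorHomologicalComplex (ComplexShape.up ℤ) (ComplexShape.up ℤ)).obj P).map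
    ((pushCxF f).map a)
  let m' := (((DCoh.tensorBi (X := X)).mapBifunctorHomologicalComplex (ComplexShape.up ℤ) (ComplexShape.up ℤ)).obj
    ((pullCxF f).obj P)).map a
  have h1 : ((DCoh.tensorCx (X := Y)).obj P).map ((pushCxF f).map a) =
      HomologicalComplex₂.total.map m (ComplexShape.up ℤ) :=
    congrArg (fun t => HomologicalComplex₂.total.map t (ComplexShape.up ℤ))
      (show (((DCoh.tensorBi (X := Y)).mapBifunctorHomologicalComplex _ _).map (𝟙 P)).app _ ≫ m = m by
        rw [CategoryTheory.Functor.map_id]; exact Category.id_comp _)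
  have h2 : ((DCoh.tensorCx (X := X)).obj ((pullCxF f).obj P)).map a =
      HomologicalComplex₂.total.map m' (ComplexShape.up ℤ) :=
    congrArg (fun t => HomologicalComplex₂.total.map t (ComplexShape.up ℤ))
      (show (((DCoh.tensorBi (X := X)).mapBifunctorHomologicalComplex _ _).map (𝟙 _)).app _ ≫ m' = m' by
        rw [CategoryTheory.Functor.map_id]; exact Category.id_comp _)
  have hm : m ≫ projBicx f P A' = projBicx f P A ≫
      (((Scheme.Modules.pushforward f).mapHomologicalComplex (ComplexShape.up ℤ)).mapHomologicalComplex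
        (ComplexShape.up ℤ)).map m' :=
    HomologicalComplex.hom_ext _ _ fun p => HomologicalComplex.hom_ext _ _ fun r =>
      (projNat f (P.X p)).naturality (a.f r)
  let e := fun {B B' : HomologicalComplex₂ Y.Modules (ComplexShape.up ℤ) (ComplexShape.up ℤ)} (t : B ⟶ B') =>
    HomologicalComplex₂.total.map t (ComplexShape.up ℤ)
  have h3 : e m ≫ e (projBicx f P A') = e (projBicx f P A) ≫ e
      ((((Scheme.Modules.pushforward f).mapHomologicalComplex (ComplexShape.up ℤ)).mapHomologicalComplex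
        (ComplexShape.up ℤ)).map m') :=
    (HomologicalComplex₂.total.map_comp _ _ _).symm.trans
      ((congrArg e hm).trans (HomologicalComplex₂.total.map_comp _ _ _))
  rw [h1, h2]
  exact (Category.assoc _ _ _).symm.trans ((congrArg (· ≫ _) h3).trans ((Category.assoc _ _ _).trans
    ((congrArg (_ ≫ ·) (TotalMap.totalMap_natural (Scheme.Modules.pushforward f) m')).trans
      (Category.assoc _ _ _).symm)))

theorem projD_natural₂ (P : CochainComplex Y.Modules ℤ) {A A' : CochainComplex X.Modules ℤ} (a : A ⟶ A') :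
    DerivedCategory.Qh.map ((HomotopyCategory.quotient _ _).map
        (((DCoh.tensorCx (X := Y)).obj P).map ((pushCxF f).map a))) ≫ projD f P A' =
      projD f P A ≫ (SiteDer.Rres (rmor f)).map (DerivedCategory.Qh.map ((HomotopyCategory.quotient _ _).map
        (((DCoh.tensorCx (X := X)).obj ((pullCxF f).obj P)).map a))) := by
  have h := congrArg (fun t => DerivedCategory.Qh.map ((HomotopyCategory.quotient Y.Modules (ComplexShape.up ℤ)).map t))
    (projCx_natural₂ f P a)
  simp only [Functor.map_comp] at h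
  rw [projD, projD, ← Category.assoc, h, Category.assoc, Category.assoc]
  exact congrArg (_ ≫ ·) (pushUnit_naturality f _)

/-- K-injective complexes with injective terms and quasi-coherent cohomology. -/
abbrev kiq (X : Scheme.{u}) : ObjectProperty (CochainComplex X.Modules ℤ) := fun A =>
  InjK A ∧ DCoh.IsQCohD (DerivedCategory.Q.obj A)

variable [QuasiCompact f] [QuasiSeparated f]

/-- The projection formula on K-injective complexes. -/
theorem nonempty_proj_kiq (P : CochainComplex Y.Modules ℤ) (hP : DCoh.IsKFlat P)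
    (hq : DCoh.IsQCohD (DerivedCategory.Q.obj P)) [DCoh.HasLTensorCx P] [DCoh.HasLTensorCx ((pullCxF f).obj P)] :
    Nonempty ((kiq X).ι ⋙ DerivedCategory.Q ⋙ RR f ⋙ DCoh.LTensorCx P ≅
      (kiq X).ι ⋙ DerivedCategory.Q ⋙ DCoh.LTensorCx ((pullCxF f).obj P) ⋙ RR f) := by
  let q := DerivedCategory.quotientCompQhIso Y.Modules
  let q' := DerivedCategory.quotientCompQhIso X.Modules
  have c₁ : (kiq X).ι ⋙ pushCxF f ⋙ DerivedCategory.Q ≅ (kiq X).ι ⋙ DerivedCategory.Q ⋙ RR f :=
    NatIso.ofComponents (fun A =>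
      haveI := A.property.1.kInj
      have hu : IsIso (pushUnit f A.obj) := map_isIso_of (DCoh.pushKh f)
        (KInj.isIso_unit_of_rightOrthogonal (CochainComplex.IsKInjective.rightOrthogonal A.obj))
      (q.app _).symm ≪≫ @asIso _ _ _ _ (pushUnit f A.obj) hu ≪≫ (SiteDer.Rres (rmor f)).mapIso (q'.app A.obj))
      (fun {A A'} a => by
        simp only [Functor.comp_map, Iso.trans_hom, Iso.symm_hom, Iso.app_inv, asIso_hom, Functor.mapIso_hom,
          Iso.app_hom]
        have e1 : q.inv.app ((pushCxF f).obj A.obj) ≫ DerivedCategory.Qh.map ((HomotopyCategory.quotient _ _).map ((pushCxF f).map a.hom)) =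
            DerivedCategory.Q.map ((pushCxF f).map a.hom) ≫ q.inv.app ((pushCxF f).obj A'.obj) :=
          (q.inv.naturality _).symm
        have e2 := pushUnit_naturality f a.hom
        have e3 : (SiteDer.Rres (rmor f)).map (DerivedCategory.Qh.map ((HomotopyCategory.quotient _ _).map a.hom)) ≫
            (SiteDer.Rres (rmor f)).map (q'.hom.app A'.obj) =
            (SiteDer.Rres (rmor f)).map (q'.hom.app A.obj) ≫ (SiteDer.Rres (rmor f)).map (DerivedCategory.Q.map a.hom) := by
          rw [← Functor.map_comp, ← Functor.map_comp]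
          exact congrArg _ (q'.hom.naturality a.hom)
        refine (Category.assoc _ _ _).symm.trans ((congrArg (· ≫ _) e1.symm).trans ((Category.assoc _ _ _).trans ?_))
        refine ((congrArg (q.inv.app ((pushCxF f).obj A.obj) ≫ ·) ((Category.assoc _ _ _).symm.trans
          ((congrArg (· ≫ _) e2).trans ((Category.assoc _ _ _).trans (congrArg (_ ≫ ·) e3))))).trans ?_)
        simp only [Category.assoc]
        rfl)
  have c₂ : (kiq X).ι ⋙ pushCxF f ⋙ (DCoh.tensorCx (X := Y)).obj P ⋙ HomotopyCategory.quotient _ _ ⋙ DerivedCategory.Qh ≅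
      (kiq X).ι ⋙ (DCoh.tensorCx (X := X)).obj ((pullCxF f).obj P) ⋙ HomotopyCategory.quotient _ _ ⋙
        DerivedCategory.Qh ⋙ RR f :=
    NatIso.ofComponents (fun A =>
      @asIso _ _ _ _ (projD f P A.obj) (isIso_projD_of_isQCohD f A.obj A.property.1 A.property.2 P hP hq))
      (fun {A A'} a => projD_natural₂ f P a.hom)
  let t := ltensorFac P hP ≪≫ Functor.isoWhiskerRight (tensorFlipIso P) DerivedCategory.Q
  let t' := ltensorFac _ (isKFlat_pullback f hP) ≪≫
    Functor.isoWhiskerRight (tensorFlipIso ((pullCxF f).obj P)) DerivedCategory.Q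
  exact ⟨(Functor.isoWhiskerRight c₁ (DCoh.LTensorCx P)).symm ≪≫
    Functor.isoWhiskerLeft ((kiq X).ι ⋙ pushCxF f) t ≪≫
    Functor.isoWhiskerLeft ((kiq X).ι ⋙ pushCxF f ⋙ (DCoh.tensorCx (X := Y)).obj P) q.symm ≪≫ c₂ ≪≫
    Functor.isoWhiskerLeft ((kiq X).ι ⋙ (DCoh.tensorCx (X := X)).obj ((pullCxF f).obj P))
      (Functor.isoWhiskerRight q' (RR f)) ≪≫
    Functor.isoWhiskerLeft (kiq X).ι (Functor.isoWhiskerRight t' (RR f)).symm⟩

/-- **The projection formula, natural in the object.** -/
theorem nonempty_proj_nat (P : CochainComplex Y.Modules ℤ) (hP : DCoh.IsKFlat P)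
    (hq : DCoh.IsQCohD (DerivedCategory.Q.obj P)) [DCoh.HasLTensorCx P] [DCoh.HasLTensorCx ((pullCxF f).obj P)] :
    Nonempty ((DCoh.IsQCohD (X := X)).ι ⋙ RR f ⋙ DCoh.LTensorCx P ≅
      (DCoh.IsQCohD (X := X)).ι ⋙ DCoh.LTensorCx ((pullCxF f).obj P) ⋙ RR f) := by
  obtain ⟨τ⟩ := nonempty_proj_kiq f P hP hq
  have hrep : ∀ K : (DCoh.IsQCohD (X := X)).FullSubcategory,
      ∃ A : (kiq X).FullSubcategory, Nonempty (DerivedCategory.Q.obj A.obj ≅ K.obj) := fun K => by
    obtain ⟨I, i, hi, hK, hI⟩ := KInj.exists_kInjective_resolution (A := X.Modules) (DerivedCategory.Q.objPreimage K.obj)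
    let e : DerivedCategory.Q.obj I ≅ K.obj :=
      (asIso (DerivedCategory.Q.map i)).symm ≪≫ DerivedCategory.Q.objObjPreimageIso K.obj
    exact ⟨⟨I, ⟨hI, hK⟩, fun n => isQCoh_of_iso ((DerivedCategory.homologyFunctor _ n).mapIso e.symm) (K.property n)⟩, ⟨e⟩⟩
  choose A hA using hrep
  let a := fun K => (hA K).some
  refine ⟨NatIso.ofComponents (fun K => (RR f ⋙ DCoh.LTensorCx P).mapIso (a K).symm ≪≫ τ.app (A K) ≪≫
    (DCoh.LTensorCx ((pullCxF f).obj P) ⋙ RR f).mapIso (a K)) ?_⟩
  intro K L g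
  haveI := (A L).property.1.kInj
  obtain ⟨φ, hφ⟩ : ∃ φ : (A K).obj ⟶ (A L).obj, DerivedCategory.Q.map φ = (a K).hom ≫ g.hom ≫ (a L).inv := by
    let q' := DerivedCategory.quotientCompQhIso X.Modules
    obtain ⟨ψ, hψ⟩ := (CochainComplex.IsKInjective.Qh_map_bijective ((HomotopyCategory.quotient _ _).obj (A K).obj)
      (A L).obj).2 (q'.hom.app _ ≫ ((a K).hom ≫ g.hom ≫ (a L).inv) ≫ q'.inv.app _)
    obtain ⟨φ, rfl⟩ := (HomotopyCategory.quotient X.Modules (ComplexShape.up ℤ)).map_surjective ψ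
    refine ⟨φ, ?_⟩
    rw [← cancel_epi (q'.hom.app (A K).obj)]
    refine ((q'.hom.naturality φ).symm.trans ((congrArg (· ≫ _) hψ).trans ?_))
    simp
  have n₁ := τ.hom.naturality (ObjectProperty.homMk φ : A K ⟶ A L)
  let H₁ := RR f ⋙ DCoh.LTensorCx P
  let H₂ := DCoh.LTensorCx ((pullCxF f).obj P) ⋙ RR f
  have n₂ : H₁.map ((a K).hom ≫ g.hom ≫ (a L).inv) ≫ τ.hom.app (A L) =
      τ.hom.app (A K) ≫ H₂.map ((a K).hom ≫ g.hom ≫ (a L).inv) := by
    rw [← hφ]
    exact n₁
  change H₁.map g.hom ≫ H₁.map (a L).inv ≫ τ.hom.app (A L) ≫ H₂.map (a L).hom =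
    (H₁.map (a K).inv ≫ τ.hom.app (A K) ≫ H₂.map (a K).hom) ≫ H₂.map g.hom
  have e1 : H₁.map g.hom ≫ H₁.map (a L).inv = H₁.map (a K).inv ≫ H₁.map ((a K).hom ≫ g.hom ≫ (a L).inv) := by
    rw [← Functor.map_comp, ← Functor.map_comp, Iso.inv_hom_id_assoc]
  rw [reassoc_of% e1, reassoc_of% n₂, Category.assoc, Category.assoc, ← Functor.map_comp, ← Functor.map_comp,
    Category.assoc, Category.assoc, Iso.inv_hom_id, Category.comp_id]

end GrothLib.RightAdj22
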