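import Groth.Agent.Lib.OX.DQCohBrown
import Groth.Agent.Lib.Detect22.PerfectDetect
import Groth.Prelude.Def_DDual2

/-! # Right adjoints of functors preserving compact objects commute with direct sums -/

set_option autoImplicit false
set_option maxHeartbeats 1000000
set_option linter.style.haveILetI false
universe u v v' w w' z

open CategoryTheory CategoryTheory.Limits AlgebraicGeometry

noncomputable section

namespace GrothLib.RightAdj22

section Abstract

variable {D : Type w} [Category.{v} D] [Preadditive D] {D' : Type w'} [Category.{v'} D'] [Preadditive D']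
  {F : D ⥤ D'} {a : D' ⥤ D} (adj : F ⊣ a) {ι : Type z} (K : ι → D')
  [HasCoproduct K] [HasCoproduct fun i => a.obj (K i)]

include adj in
/-- Maps from a compact object with compact image see the comparison of direct sums as a bijection. -/
theorem bijective_comp_sigmaDesc [a.Additive] {P : D} (h₁ : TriCat.FinHom (fun i => a.obj (K i)) P)
    (h₂ : TriCat.FinHom K (F.obj P)) :
    Function.Bijective fun x : P ⟶ ∐ (fun i => a.obj (K i)) => x ≫ Sigma.desc fun i => a.map (Sigma.ι K i) := by
  classical
  let φ := Sigma.desc fun i => a.map (Sigma.ι K i)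
  refine ⟨fun x y hxy => sub_eq_zero.1 ?_, fun b => ?_⟩
  · have h0 : (x - y) ≫ φ = 0 := by rw [Preadditive.sub_comp]; exact sub_eq_zero.2 hxy
    obtain ⟨c, hc⟩ := h₁ (x - y)
    let π : ∀ j, (∐ K) ⟶ K j := fun j => Sigma.desc fun i => if h : i = j then eqToHom (congrArg K h) else 0
    have key : ∀ c j, PerfAux.homSumToHomCoprod P (fun i => a.obj (K i)) c ≫ φ ≫ a.map (π j) = c j := by
      intro c j
      induction c using DirectSum.induction_on with
      | zero => rw [map_zero, zero_comp]; rfl
      | of i z =>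
        rw [TriCat.homSum_of, Category.assoc, ← Category.assoc (Sigma.ι _ i), Sigma.ι_desc, ← a.map_comp,
          Sigma.ι_desc]
        by_cases h : i = j
        · subst h
          rw [dif_pos rfl, eqToHom_refl, a.map_id, Category.comp_id, DirectSum.of_eq_same]
        · rw [dif_neg h, a.map_zero, comp_zero, DirectSum.of_eq_of_ne _ _ _ (Ne.symm h)]
      | add c d hc hd => rw [map_add, Preadditive.add_comp, hc, hd, DirectSum.add_apply]
    have hc0 : c = 0 := DFinsupp.ext fun j => by
      show c j = (0 : DirectSum ι fun i => P ⟶ a.obj (K i)) j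
      rw [← key c j, hc, ← Category.assoc, h0, zero_comp]
      rfl
    rw [← hc, hc0, map_zero]
  · obtain ⟨c, hc⟩ := h₂ ((adj.homEquiv _ _).symm b)
    suffices h : ∀ c, ∃ x, x ≫ φ = adj.homEquiv _ _ (PerfAux.homSumToHomCoprod (F.obj P) K c) by
      obtain ⟨x, hx⟩ := h c
      exact ⟨x, hx.trans (by rw [hc, Equiv.apply_symm_apply])⟩
    intro c
    induction c using DirectSum.induction_on with
    | zero => exact ⟨0, by rw [map_zero, zero_comp, Adjunction.homEquiv_unit, a.map_zero, comp_zero]⟩
    | of i z =>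
      refine ⟨adj.homEquiv _ _ z ≫ Sigma.ι (fun i => a.obj (K i)) i, ?_⟩
      rw [TriCat.homSum_of, Category.assoc, Sigma.ι_desc, Adjunction.homEquiv_naturality_right]
    | add c d hc hd =>
      obtain ⟨x, hx⟩ := hc
      obtain ⟨y, hy⟩ := hd
      exact ⟨x + y, by rw [Preadditive.add_comp, hx, hy, map_add, Adjunction.homEquiv_unit,
        Adjunction.homEquiv_unit, Adjunction.homEquiv_unit, a.map_add, Preadditive.comp_add]⟩

end Abstract

attribute [local instance] HasDerivedCategory.standard

variable {X Y : Scheme.{u}}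

/-- A right adjoint between the categories `D_qc` is additive. -/
theorem additive_of_adj {F : DCoh.DQCoh X ⥤ DCoh.DQCoh Y} {a : DCoh.DQCoh Y ⥤ DCoh.DQCoh X} (adj : F ⊣ a) :
    a.Additive := by
  haveI : PreservesLimitsOfSize.{0, 0} a := adj.rightAdjoint_preservesLimits
  exact Functor.additive_of_preserves_binary_products a

/-- The comparison map for direct sums. -/
theorem isIso_sigmaDesc [CompactSpace X] [QuasiSeparatedSpace X] [CompactSpace Y] [QuasiSeparatedSpace Y]
    {F : DCoh.DQCoh X ⥤ DCoh.DQCoh Y} {a : DCoh.DQCoh Y ⥤ DCoh.DQCoh X} (adj : F ⊣ a)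
    (hF : ∀ P : DCoh.DQCoh X, DCoh.IsPerfect P.obj → DCoh.IsPerfect (F.obj P).obj)
    {ι : Type u} (K : ι → DCoh.DQCoh Y) [HasCoproduct K] [HasCoproduct fun i => a.obj (K i)] :
    IsIso (Sigma.desc fun i => a.map (Sigma.ι K i)) := by
  haveI := additive_of_adj adj
  let φ := Sigma.desc fun i => a.map (Sigma.ι K i)
  let ι' := (DCoh.IsQCohD (X := X)).ι
  have : IsIso (ι'.map φ) := Detect22.isIso_of_perfect_hom (∐ fun i => a.obj (K i)).property
      (a.obj (∐ K)).property _ fun P hP => by
    let P' : DCoh.DQCoh X := ⟨P, OX.isQCohD_of_isPerfect hP⟩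
    have h := bijective_comp_sigmaDesc adj K (OX.finHom_DQCoh (P := P') hP _) (OX.finHom_DQCoh (hF P' hP) K)
    refine ⟨fun x y hxy => ?_, fun b => ?_⟩
    · have := h.1 (a₁ := ObjectProperty.homMk x) (a₂ := ObjectProperty.homMk y) (ObjectProperty.hom_ext _ hxy)
      exact congrArg (fun g : P' ⟶ _ => g.hom) this
    · obtain ⟨x, hx⟩ := h.2 (ObjectProperty.homMk b)
      exact ⟨x.hom, congrArg (fun g : P' ⟶ _ => g.hom) hx⟩
  exact isIso_of_fully_faithful ι' φ

/-- **The right adjoint commutes with direct sums.** -/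
theorem preservesColimitsOfShape [CompactSpace X] [QuasiSeparatedSpace X] [CompactSpace Y] [QuasiSeparatedSpace Y]
    {F : DCoh.DQCoh X ⥤ DCoh.DQCoh Y} {a : DCoh.DQCoh Y ⥤ DCoh.DQCoh X} (adj : F ⊣ a)
    (hF : ∀ P : DCoh.DQCoh X, DCoh.IsPerfect P.obj → DCoh.IsPerfect (F.obj P).obj) (J : Type u) :
    PreservesColimitsOfShape (Discrete J) a := by
  refine ⟨fun {K} => ?_⟩
  have : IsIso (sigmaComparison a (K.obj ∘ Discrete.mk)) := isIso_sigmaDesc adj hF _
  have h : PreservesColimit (Discrete.functor (K.obj ∘ Discrete.mk)) a := PreservesCoproduct.of_iso_comparison _ _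
  exact preservesColimit_of_iso_diagram a (Discrete.natIsoFunctor (F := K)).symm

end GrothLib.RightAdj22
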