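import Groth.Agent.Lib.FCoh7.RpushFF
import Groth.Agent.Lib.Snapper.PushEuler
import Groth.Agent.Lib.Cohom.Compare

/-! # Cohomology over an affine base as global sections of higher direct images, naturally -/

set_option autoImplicit false
set_option backward.isDefEq.respectTransparency false
set_option linter.style.haveILetI false
set_option maxHeartbeats 1000000
universe u

open CategoryTheory CategoryTheory.Limits AlgebraicGeometry TopologicalSpace Opposite
open CategoryTheory.Abelian (Ext)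

noncomputable section

namespace GrothLib.RightAdj22

open GrothLib.Cohom GrothLib.BCCoh

variable {X : Scheme.{u}}

/-- Restriction of cohomology along a surjective open embedding, naturally. -/
theorem exists_H_restrFun {T T' : TopCat.{u}} {j : T' ⟶ T}
    (hj : Topology.IsOpenEmbedding j) (h : hj.isOpenMap.functor.obj ⊤ = ⊤) (p : ℕ) :
    ∃ r : ∀ F : AbSheaf T, Sheaf.H F p ≃+ Sheaf.H ((restrFun hj).obj F) p,
      ∀ {F G : AbSheaf T} (φ : F ⟶ G) x, r G (Sheaf.H.map φ p x) = Sheaf.H.map ((restrFun hj).map φ) p (r F x) := by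
  obtain ⟨c⟩ := nonempty_comparison_restrFun hj (⊤ : Opens T') p
  let i : freeFun.obj (hj.isOpenMap.functor.obj ⊤) ≅ (freeFun.obj (⊤ : Opens T) : AbSheaf T) :=
    freeFun.mapIso (eqToIso h)
  let ρ : ∀ F : AbSheaf T, Ext.{u} (freeFun.obj (⊤ : Opens T)) F p ≃+
      Ext.{u} (freeFun.obj (hj.isOpenMap.functor.obj ⊤)) F p := fun F =>
    { toFun := fun x => (Ext.mk₀ i.hom).comp x (zero_add p)
      invFun := fun x => (Ext.mk₀ i.inv).comp x (zero_add p)
      left_inv := fun x => by simp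
      right_inv := fun x => by simp
      map_add' := fun x y => Ext.comp_add _ _ _ _ }
  let r : ∀ F : AbSheaf T, Sheaf.H F p ≃+ Sheaf.H ((restrFun hj).obj F) p := fun F =>
    (HEquivTop F p).trans ((ρ F).trans ((c.equiv F trivial).trans (HEquivTop ((restrFun hj).obj F) p).symm))
  have hr : ∀ F x, HEquivTop ((restrFun hj).obj F) p (r F x) = c.equiv F trivial (ρ F (HEquivTop F p x)) := fun F x =>
    (HEquivTop ((restrFun hj).obj F) p).apply_symm_apply _
  refine ⟨r, fun {F G} φ x => ?_⟩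
  apply (HEquivTop ((restrFun hj).obj G) p).injective
  refine (hr _ _).trans (Eq.trans ?_ (Snapper.HEquivTop_map _ p (r F x)).symm)
  rw [hr, Snapper.HEquivTop_map]
  refine Eq.trans (congrArg (c.equiv _ trivial)
    (Ext.comp_assoc_of_third_deg_zero _ _ _ (zero_add p)).symm) ?_
  exact c.naturality φ trivial trivial _

theorem smulAb_restrict (U : X.Opens) (M : X.Modules) (g : Coh.Γtop X) :
    (restrFun (Scheme.Hom.isOpenEmbedding U.ι)).map (Coh.smulAb M g) =
      Coh.smulAb (M.restrict U.ι) (U.ι.appTop g) := by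
  ext V m
  show (X.presheaf.map (homOfLE (le_top : U.ι ''ᵁ V.unop ≤ ⊤)).op g) • (show Γ(M, U.ι ''ᵁ V.unop) from m) =
    ((U.ι.appIso V.unop).inv ((U : Scheme.{u}).presheaf.map (homOfLE (le_top : V.unop ≤ ⊤)).op (U.ι.appTop g))) •
      (show Γ(M, U.ι ''ᵁ V.unop) from m)
  congr 1
  simp only [Scheme.Hom.appTop, Scheme.Opens.ι_app, Scheme.Opens.ι_appIso]
  simp only [← ConcreteCategory.comp_apply, Scheme.Opens.toScheme_presheaf_map, ← Functor.map_comp]
  rfl

/-- Restriction to an open equal to the whole space. -/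
theorem exists_HH_restrict_top (U : X.Opens) (hU : U = ⊤) (p : ℕ) :
    ∃ r : ∀ M : X.Modules, Coh.HH X M p ≃+ Coh.HH (U : Scheme.{u}) (M.restrict U.ι) p,
      (∀ {M N : X.Modules} (φ : M ⟶ N) x, r N (Sheaf.H.map ((SheafOfModules.toSheaf _).map φ) p x) =
          Sheaf.H.map ((SheafOfModules.toSheaf _).map ((Scheme.Modules.restrictFunctor U.ι).map φ)) p (r M x)) ∧
      ∀ (M : X.Modules) (g : Coh.Γtop X) x, r M (Sheaf.H.map (Coh.smulAb M g) p x) =
          Sheaf.H.map (Coh.smulAb (M.restrict U.ι) (U.ι.appTop g)) p (r M x) := by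
  obtain ⟨r, hr⟩ := exists_H_restrFun (Scheme.Hom.isOpenEmbedding U.ι)
    (show U.ι ''ᵁ ⊤ = ⊤ by rw [Scheme.Opens.ι_image_top, hU]) p
  refine ⟨fun M => r (Coh.toAb M), fun φ x => hr _ x, fun M g x => ?_⟩
  refine (hr _ x).trans ?_
  rw [smulAb_restrict]
  rfl

/-- **`H^p(X, M) = Γ(S, R^p f_* M)` over an affine base `S`, linearly and naturally.** -/
theorem exists_HH_Rpush {A : Type u} [CommRing A] (f : X ⟶ Spec (CommRingCat.of A)) [QuasiCompact f]
    [QuasiSeparated f] [HasInjectiveResolutions X.Modules] (p : ℕ) :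
    ∃ e : ∀ M : X.Modules, M.IsQuasicoherent → (Coh.HH X M p ≃+ Γ((Coh.Rpush f p).obj M, ⊤)),
      (∀ (M : X.Modules) hM (a : A) x, letI := modHH f M p
        e M hM (a • x) = (Scheme.ΓSpecIso (CommRingCat.of A)).inv a • e M hM x) ∧
      ∀ {M N : X.Modules} (φ : M ⟶ N) hM hN x,
        e N hN (Sheaf.H.map ((SheafOfModules.toSheaf _).map φ) p x) =
          ((Coh.Rpush f p).map φ).app ⊤ (e M hM x) := by
  obtain ⟨r, hr, hrs⟩ := exists_HH_restrict_top (f ⁻¹ᵁ ⊤) rfl p
  obtain ⟨e, he, hen⟩ := FCoh7.exists_Rpush_equiv_natural f (isAffineOpen_top (Spec (CommRingCat.of A))) p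
  refine ⟨fun M hM => (r M).trans (e M hM), fun M hM a x => ?_, fun {M N} φ hM hN x => ?_⟩
  · letI := modHH f M p
    letI := modHH (A := Γ(Spec (CommRingCat.of A), ⊤)) (affBase f (isAffineOpen_top _)) (M.restrict (f ⁻¹ᵁ ⊤).ι) p
    show e M hM (r M (Sheaf.H.map (Coh.smulAb M (Coh.toGlobal f a)) p x)) = _
    rw [hrs]
    refine Eq.trans ?_ (he M hM _ (r M x))
    refine congrArg (e M hM) ?_
    show _ = Sheaf.H.map (Coh.smulAb _ (Coh.toGlobal (affBase f _) _)) p (r M x)
    congr 2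
    refine congrArg _ ?_
    let U := f ⁻¹ᵁ (⊤ : (Spec (CommRingCat.of A)).Opens)
    have h1 := toGlobal_affBase f (isAffineOpen_top (Spec (CommRingCat.of A))) ((Scheme.ΓSpecIso (CommRingCat.of A)).inv a)
    apply (ConcreteCategory.bijective_of_isIso (U.ι.appIso ⊤).inv).1
    refine Eq.trans ?_ h1.symm
    show (U.ι.appIso ⊤).inv (U.ι.appTop (f.appTop ((Scheme.ΓSpecIso (CommRingCat.of A)).inv a))) = _
    simp only [U, Scheme.Hom.appTop, Scheme.Opens.ι_app, Scheme.Opens.ι_appIso]
    simp only [← ConcreteCategory.comp_apply]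
    rfl
  · show e N hN (r N _) = _
    rw [hr, hen]
    rfl

end GrothLib.RightAdj22
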