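import Groth.Agent.Lib.RightAdj22.Main
import Groth.Agent.Lib.DualRing.Biduality

/-! # The right adjoint preserves supports when it commutes with direct sums -/

set_option autoImplicit false
set_option maxHeartbeats 1000000
set_option linter.style.haveILetI false
universe u

open CategoryTheory CategoryTheory.Limits AlgebraicGeometry

attribute [local instance] HasDerivedCategory.standard

namespace GrothLib.RightAdj22

open GrothLib.OX

variable {X Y : Scheme.{u}}

theorem isZero_HD_restrict_adjoint [CompactSpace X] [QuasiSeparatedSpace X] [CompactSpace Y] [QuasiSeparatedSpace Y]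
    (f : X ⟶ Y) [DCoh.HasRpush f] (hf : DCoh.RpushPreservesQCoh f)
    {a : DCoh.DQCoh Y ⥤ DCoh.DQCoh X} (adj : DCoh.RpushQ f hf ⊣ a)
    (hcop : ∀ J : Type u, PreservesColimitsOfShape (Discrete J) a) (V : Y.Opens) (Q : DCoh.DQCoh Y)
    (hQV : ∀ i : ℤ, IsZero ((DCoh.HD Q.obj i).restrict V.ι)) (i : ℤ) :
    IsZero ((DCoh.HD (a.obj Q).obj i).restrict (f ⁻¹ᵁ V).ι) := by
  haveI := hasLpull f
  let O : DCoh.DQCoh Y := ⟨DCoh.inD Y (Coh.structureModule Y),
    isQCohD_of_isPerfect (TorBC25.isPerfect_inD_structure Y)⟩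
  let E := DerivedCategory.Q.objPreimage (a.obj O).obj
  haveI := hasLTensorCx E
  obtain ⟨e⟩ := nonempty_iso f hf adj hcop O ⟨Iso.refl _⟩ E ⟨DerivedCategory.Q.objObjPreimageIso _⟩
  have hz : IsZero ((resD V.ι).obj Q.obj) :=
    (isZero_resD_iff_support V.ι Q.obj).2 fun q => support_subset_of_isZero_restrict V.ι (hQV q)
  have h := ((isZero_resD_ltensor (f ⁻¹ᵁ V).ι E (isZero_resD_lpull f V hz)).of_iso ((resD _).mapIso (e.app Q)))
  exact ((DerivedCategory.homologyFunctor _ i).map_isZero h).of_iso (HDResIso _ _ i).symm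

end GrothLib.RightAdj22
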