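import Groth.Agent.Lib.SuppTens22.Basic
import Groth.Agent.Lib.RightAdj22.Tri
import Groth.Agent.Lib.TorBC25.Class

/-! # Exactness, and isomorphisms of exact functors -/

set_option autoImplicit false
set_option maxHeartbeats 1000000
set_option linter.style.haveILetI false
universe u v v' w w'

open CategoryTheory CategoryTheory.Limits AlgebraicGeometry HomologicalComplex CategoryTheory.Pretriangulated

attribute [local instance] HasDerivedCategory.standard

noncomputable section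

namespace GrothLib.RightAdj22

open GrothLib.OX GrothLib.SuppTens22

variable {X : Scheme.{u}}

/-- **Tensoring a distinguished triangle.** -/
theorem exists_triangle_ltensor' (E : CochainComplex X.Modules ℤ) [DCoh.HasLTensorCx E] {T : Triangle (DCoh.D X)}
    (hT : T ∈ distTriang _) :
    ∃ d : (DCoh.LTensorCx E).obj T.obj₃ ⟶ ((DCoh.LTensorCx E).obj T.obj₁)⟦(1 : ℤ)⟧,
      Triangle.mk ((DCoh.LTensorCx E).map T.mor₁) ((DCoh.LTensorCx E).map T.mor₂) d ∈ distTriang (DCoh.D X) := by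
  obtain ⟨P, -, -, ⟨γ⟩⟩ := nonempty_ltensor_fac E
  let G := DCoh.LTensorCx E
  let eA := DerivedCategory.Q.objObjPreimageIso T.obj₁
  let eB := DerivedCategory.Q.objObjPreimageIso T.obj₂
  let B := DerivedCategory.Q.objPreimage T.obj₂
  obtain ⟨A, s, hs, g, hα⟩ := DerivedCategory.right_fac (eA.hom ≫ T.mor₁ ≫ eB.inv)
  haveI := hs
  let e₁ : DerivedCategory.Q.obj A ≅ T.obj₁ := asIso (DerivedCategory.Q.map s) ≪≫ eA
  have comm : DerivedCategory.Q.map g ≫ eB.hom = e₁.hom ≫ T.mor₁ := by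
    rw [← cancel_mono eB.inv, Category.assoc, Category.assoc, eB.hom_inv_id, Category.comp_id]
    show _ = (DerivedCategory.Q.map s ≫ eA.hom) ≫ _
    rw [Category.assoc, hα, IsIso.hom_inv_id_assoc]
  let M := CochainComplex.mappingCone (𝟙 A)
  have hM : M.Acyclic := (DerCat.quasiIso_iff_acyclic_mappingCone (𝟙 A)).1 inferInstance
  let j : A ⟶ B ⊞ M := biprod.lift g (CochainComplex.mappingCone.inr (𝟙 A))
  let σ : (ShortComplex.mk (biprod.inr : M ⟶ B ⊞ M) biprod.fst biprod.inr_fst).Splitting :=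
    { r := biprod.snd, s := biprod.inl, f_r := biprod.inr_snd, s_g := biprod.inl_fst
      id := (add_comm _ _).trans biprod.total }
  haveI hfst : QuasiIso (biprod.fst : B ⊞ M ⟶ B) := DerCat.quasiIso_g_of_acyclic σ.shortExact hM
  have hr : ∀ n, j.f n ≫ (biprod.snd : B ⊞ M ⟶ _).f n ≫
      (CochainComplex.mappingCone.snd (𝟙 A)).v n n (add_zero n) = 𝟙 (A.X n) := fun n => by
    rw [← Category.assoc, ← HomologicalComplex.comp_f, biprod.lift_snd, CochainComplex.mappingCone.inr_f_snd_v]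
  have : Mono j := HomologicalComplex.mono_of_mono_f j fun n => (SplitMono.mk _ (hr n)).mono
  let S : ShortComplex (CochainComplex X.Modules ℤ) := ShortComplex.mk j (cokernel.π j) (cokernel.condition j)
  have hS : S.ShortExact := { exact := ShortComplex.exact_of_g_is_cokernel _ (cokernelIsCokernel j) }
  have hsp : ∀ n, (S.map (HomologicalComplex.eval X.Modules (ComplexShape.up ℤ) n)).Splitting := fun n =>
    have := (hS.map_of_exact (HomologicalComplex.eval X.Modules (ComplexShape.up ℤ) n)).epi_g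
    ShortComplex.Splitting.ofExactOfRetraction _
      (hS.map_of_exact (HomologicalComplex.eval X.Modules (ComplexShape.up ℤ) n)).exact _ (hr n) this
  have hFS := tensorCx_shortExact_of_splitting hsp P
  let e₂ : DerivedCategory.Q.obj (B ⊞ M) ≅ T.obj₂ :=
    asIso (DerivedCategory.Q.map (biprod.fst : B ⊞ M ⟶ B)) ≪≫ eB
  have comm₂ : DerivedCategory.Q.map j ≫ e₂.hom = e₁.hom ≫ T.mor₁ := by
    rw [← comm]
    show DerivedCategory.Q.map j ≫ DerivedCategory.Q.map biprod.fst ≫ eB.hom = _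
    rw [← Category.assoc, ← Functor.map_comp, biprod.lift_fst]
  let eT := isoTriangleOfIso₁₂ _ _ (DerivedCategory.triangleOfSES_distinguished hS) hT e₁ e₂ comm₂
  let e₃ : DerivedCategory.Q.obj S.X₃ ≅ T.obj₃ := Triangle.π₃.mapIso eT
  have eTh₂ : eT.hom.hom₂ = e₂.hom := by simp [eT]
  let Φ := (DCoh.tensorCx (X := X)).obj P
  let f₁ : DerivedCategory.Q.obj (Φ.obj A) ≅ G.obj T.obj₁ := (γ.app A).symm ≪≫ G.mapIso e₁
  let f₂ : DerivedCategory.Q.obj (Φ.obj (B ⊞ M)) ≅ G.obj T.obj₂ := (γ.app _).symm ≪≫ G.mapIso e₂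
  let f₃ : DerivedCategory.Q.obj (Φ.obj S.X₃) ≅ G.obj T.obj₃ := (γ.app _).symm ≪≫ G.mapIso e₃
  let T₀ := DerivedCategory.triangleOfSES hFS
  let g₁ : T₀.obj₁ ≅ G.obj T.obj₁ := f₁
  let g₂ : T₀.obj₂ ≅ G.obj T.obj₂ := f₂
  let g₃ : T₀.obj₃ ≅ G.obj T.obj₃ := f₃
  let d := g₃.inv ≫ T₀.mor₃ ≫ g₁.hom⟦(1 : ℤ)⟧'
  refine ⟨d, isomorphic_distinguished _ (DerivedCategory.triangleOfSES_distinguished hFS) _
      (Triangle.isoMk T₀ (Triangle.mk (G.map T.mor₁) (G.map T.mor₂) d) g₁ g₂ g₃ ?_ ?_ ?_).symm⟩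
  · show DerivedCategory.Q.map (Φ.map j) ≫ γ.inv.app _ ≫ G.map e₂.hom =
      (γ.inv.app _ ≫ G.map e₁.hom) ≫ G.map T.mor₁
    rw [Category.assoc, ← G.map_comp, ← comm₂, G.map_comp]
    exact (Category.assoc _ _ _).symm.trans ((congrArg (· ≫ G.map e₂.hom) (γ.inv.naturality j)).trans
      (Category.assoc _ _ _))
  · show DerivedCategory.Q.map (Φ.map S.g) ≫ γ.inv.app _ ≫ G.map e₃.hom =
      (γ.inv.app _ ≫ G.map e₂.hom) ≫ G.map T.mor₂
    rw [Category.assoc, ← G.map_comp, show e₂.hom ≫ T.mor₂ = DerivedCategory.Q.map S.g ≫ e₃.hom from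
      eT.hom.comm₂.symm |> fun h => (congrArg (· ≫ T.mor₂) eTh₂).symm.trans h, G.map_comp]
    exact (Category.assoc _ _ _).symm.trans ((congrArg (· ≫ G.map e₃.hom) (γ.inv.naturality S.g)).trans
      (Category.assoc _ _ _))
  · exact (Iso.hom_inv_id_assoc g₃ _).symm

section Abstract

variable {D : Type w} [Category.{v} D] [Preadditive D] [HasZeroObject D] [HasShift D ℤ]
  [∀ n : ℤ, (shiftFunctor D n).Additive] [Pretriangulated D]
  {E : Type w'} [Category.{v'} E] [Preadditive E] [HasZeroObject E] [HasShift E ℤ]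
  [∀ n : ℤ, (shiftFunctor E n).Additive] [Pretriangulated E]
  (F : D ⥤ E) [F.Additive] (G : D ⥤ E) [G.Additive]
  (α : F ⟶ G)

/-- An additive functor sending distinguished triangles to exact sequences. -/
def Ex (F : D ⥤ E) : Prop :=
  ∀ T ∈ distTriang D, ∃ d : F.obj T.obj₃ ⟶ (F.obj T.obj₁)⟦(1 : ℤ)⟧,
    Triangle.mk (F.map T.mor₁) (F.map T.mor₂) d ∈ distTriang E

omit [F.Additive] in
theorem exact_map (hF : Ex F) {T : Triangle D} (hT : T ∈ distTriang D) {W : E} (h : W ⟶ F.obj T.obj₂)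
    (hh : h ≫ F.map T.mor₂ = 0) : ∃ k : W ⟶ F.obj T.obj₁, h = k ≫ F.map T.mor₁ := by
  obtain ⟨d, hd⟩ := hF T hT
  exact Triangle.coyoneda_exact₂ _ hd h hh

/-- Five lemma for a natural transformation of exact functors. -/
theorem isIso_app_obj₃ (hF : Ex F) (hG : Ex G) {T : Triangle D} (hT : T ∈ distTriang D) (h₁ : IsIso (α.app T.obj₁))
    (h₂ : IsIso (α.app T.obj₂)) (h₁' : IsIso (α.app (T.obj₁⟦(1 : ℤ)⟧)))
    (h₂' : IsIso (α.app (T.obj₂⟦(1 : ℤ)⟧))) : IsIso (α.app T.obj₃) := by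
  have hR := rot_of_distTriang _ hT
  have hRR := rot_of_distTriang _ hR
  have hmono : ∀ {W : E} (x : W ⟶ F.obj T.obj₃), x ≫ α.app T.obj₃ = 0 → x = 0 := by
    intro W x hx
    have h3 : x ≫ F.map T.mor₃ = 0 := by
      rw [← cancel_mono (α.app (T.obj₁⟦(1 : ℤ)⟧)), Category.assoc, α.naturality, reassoc_of% hx, zero_comp, zero_comp]
    obtain ⟨y, rfl⟩ : ∃ y : W ⟶ F.obj T.obj₂, x = y ≫ F.map T.mor₂ := exact_map F hF hR x h3
    have hy : (y ≫ α.app T.obj₂) ≫ G.map T.mor₂ = 0 := by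
      rw [Category.assoc, ← α.naturality]
      exact (Category.assoc _ _ _).symm.trans hx
    obtain ⟨z, hz⟩ := exact_map G hG hT (y ≫ α.app T.obj₂) hy
    have hy' : y = (z ≫ inv (α.app T.obj₁)) ≫ F.map T.mor₁ := by
      rw [← cancel_mono (α.app T.obj₂), Category.assoc, α.naturality, hz, Category.assoc, IsIso.inv_hom_id_assoc]
    rw [hy']
    show (_ ≫ F.map T.mor₁) ≫ F.map T.mor₂ = 0
    rw [Category.assoc, ← F.map_comp, comp_distTriang_mor_zero₁₂ T hT, F.map_zero, comp_zero]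
  have hepi : ∀ {W : E} (y : W ⟶ G.obj T.obj₃), ∃ x : W ⟶ F.obj T.obj₃, x ≫ α.app T.obj₃ = y := by
    intro W y
    let v : W ⟶ F.obj (T.obj₁⟦(1 : ℤ)⟧) := y ≫ G.map T.mor₃ ≫ inv (α.app (T.obj₁⟦(1 : ℤ)⟧))
    have hv : v ≫ F.map (-(T.mor₁⟦(1 : ℤ)⟧')) = 0 := by
      rw [← cancel_mono (α.app (T.obj₂⟦(1 : ℤ)⟧))]
      simp only [v, Category.assoc, zero_comp, α.naturality, IsIso.inv_hom_id_assoc]
      have h0 : T.mor₃ ≫ (-(T.mor₁⟦(1 : ℤ)⟧')) = 0 := comp_distTriang_mor_zero₂₃ _ hR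
      rw [← G.map_comp, h0, G.map_zero, comp_zero]
    obtain ⟨x, hx⟩ : ∃ x : W ⟶ F.obj T.obj₃, v = x ≫ F.map T.mor₃ := exact_map F hF hRR v hv
    have hw : (y - x ≫ α.app T.obj₃) ≫ G.map T.mor₃ = 0 := by
      rw [Preadditive.sub_comp, Category.assoc, ← α.naturality, ← Category.assoc]
      have hx' : v = x ≫ F.map T.mor₃ := hx
      rw [← hx', sub_eq_zero]
      simp [v]
    obtain ⟨z, hz⟩ : ∃ z : W ⟶ G.obj T.obj₂, y - x ≫ α.app T.obj₃ = z ≫ G.map T.mor₂ := exact_map G hG hR _ hw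
    refine ⟨x + (z ≫ inv (α.app T.obj₂)) ≫ F.map T.mor₂, ?_⟩
    rw [Preadditive.add_comp, Category.assoc _ (F.map T.mor₂), α.naturality, Category.assoc,
      IsIso.inv_hom_id_assoc]
    exact (congrArg (_ + ·) hz.symm).trans (add_sub_cancel _ _)
  obtain ⟨s, hs⟩ := hepi (𝟙 (G.obj T.obj₃))
  refine ⟨s, ?_, hs⟩
  have := hmono (α.app T.obj₃ ≫ s - 𝟙 _) (by rw [Preadditive.sub_comp, Category.assoc, hs]; simp)
  exact sub_eq_zero.1 this


end Abstract

end GrothLib.RightAdj22
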