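import Groth.Agent.Lib.RightAdj22.Adjoint
import Groth.Agent.Lib.DualPerf22.Main
import Groth.Agent.Lib.SuppTens22.Local
import Groth.Agent.Lib.TorBC25.Splits
import Groth.Agent.Lib.OX.RHomRestrict

/-! # Supports -/

set_option autoImplicit false
set_option maxHeartbeats 1000000
set_option linter.style.haveILetI false
universe u

open CategoryTheory CategoryTheory.Limits AlgebraicGeometry HomologicalComplex CategoryTheory.Pretriangulated

attribute [local instance] HasDerivedCategory.standard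

noncomputable section

namespace GrothLib.RightAdj22

open GrothLib.OX

variable {X Y : Scheme.{u}}

/-- Tensoring with a zero object gives zero. -/
theorem isZero_ltensor_of_isZero (E : CochainComplex X.Modules ℤ) [DCoh.HasLTensorCx E]
    (hE : IsZero (DerivedCategory.Q.obj E)) (A : DCoh.D X) : IsZero ((DCoh.LTensorCx E).obj A) := by
  let Z₀ : CochainComplex X.Modules ℤ := HomologicalComplex.zero
  have hZ₀ : IsZero Z₀ := HomologicalComplex.isZero_zero
  haveI := hasLTensorCx Z₀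
  obtain ⟨c⟩ := nonempty_ltensorCx_congr_of_iso (E := E) (E' := Z₀)
    (hE.iso (DerivedCategory.Q.map_isZero hZ₀))
  obtain ⟨R, hR, ⟨e⟩⟩ := exists_kflat_rep A
  obtain ⟨v⟩ := ltensorCx_value Z₀ R hR
  refine IsZero.of_iso ?_ (c.app A ≪≫ (DCoh.LTensorCx _).mapIso e.symm ≪≫ v)
  exact DerivedCategory.Q.map_isZero (((DCoh.tensorCx (X := X)).obj R).map_isZero hZ₀)

/-- Maps out of a zero object are zero. -/
theorem isZero_RSheafHom_of_isZero (E : CochainComplex X.Modules ℤ) [DCoh.HasLTensorCx E] [DCoh.HasRSheafHom E]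
    (hE : IsZero (DerivedCategory.Q.obj E)) (L : DCoh.D X) : IsZero ((DCoh.RSheafHom E).obj L) :=
  (IsZero.iff_id_eq_zero _).2 (((DCoh.RSheafHomAdj E).homEquiv _ L).symm.injective
    ((isZero_ltensor_of_isZero E hE _).eq_of_src _ _))

theorem isZero_Q_resCx {U : Scheme.{u}} (j : U ⟶ X) [IsOpenImmersion j] (K : CochainComplex X.Modules ℤ) :
    IsZero (DerivedCategory.Q.obj ((resCx j).obj K)) ↔ IsZero ((resD j).obj (DerivedCategory.Q.obj K)) :=
  ⟨fun h => h.of_iso ((resDFac j).app K), fun h => h.of_iso ((resDFac j).app K).symm⟩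

/-- `RHom` restricts to zero where its first argument is zero. -/
theorem isZero_resD_RSheafHom {U : Scheme.{u}} (j : U ⟶ X) [IsOpenImmersion j] (K : CochainComplex X.Modules ℤ)
    [DCoh.HasLTensorCx K] [DCoh.HasRSheafHom K]
    (h : IsZero ((resD j).obj (DerivedCategory.Q.obj K))) (L : DCoh.D X) :
    IsZero ((resD j).obj ((DCoh.RSheafHom K).obj L)) := by
  haveI := hasLTensorCx ((resCx j).obj K)
  haveI := hasRSheafHom ((resCx j).obj K)
  obtain ⟨e⟩ := nonempty_resD_RSheafHom j (K := K)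
  exact (isZero_RSheafHom_of_isZero _ ((isZero_Q_resCx j K).2 h) _).of_iso (e.app L)

/-- The derived pullback vanishes over the preimage of where the object vanishes. -/
theorem isZero_resD_lpull (f : X ⟶ Y) [DCoh.HasLpull f] (W : Y.Opens) {K : DCoh.D Y}
    (h : IsZero ((resD W.ι).obj K)) : IsZero ((resD (f ⁻¹ᵁ W).ι).obj ((DCoh.Lpull f).obj K)) := by
  haveI := hasLpull (f.resLE W (f ⁻¹ᵁ W) le_rfl)
  obtain ⟨l⟩ := SuppTens22.nonempty_resD_lpull_resLE f W (f ⁻¹ᵁ W) le_rfl K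
  haveI : DCoh.HasRpush (f.resLE W (f ⁻¹ᵁ W) le_rfl) := KInj.hasRightDerivedFunctor _
  obtain ⟨adj⟩ := nonempty_lpullAdj (f.resLE W (f ⁻¹ᵁ W) le_rfl)
  haveI : (DCoh.Lpull (f.resLE W (f ⁻¹ᵁ W) le_rfl)).IsLeftAdjoint := adj.isLeftAdjoint
  exact (IsZero.iff_id_eq_zero _).2 ((adj.homEquiv _ _).injective (h.eq_of_src _ _)) |>.of_iso l

/-- Tensor products vanish where a factor vanishes. -/
theorem isZero_resD_ltensor {U : Scheme.{u}} (j : U ⟶ X) [IsOpenImmersion j] (E : CochainComplex X.Modules ℤ)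
    [DCoh.HasLTensorCx E] {A : DCoh.D X} (h : IsZero ((resD j).obj A)) :
    IsZero ((resD j).obj ((DCoh.LTensorCx E).obj A)) := by
  haveI := hasLTensorCx ((resCx j).obj E)
  obtain ⟨e⟩ := Dual22.nonempty_resD_ltensorCx j E A
  exact (SuppTens22.isZero_ltensor _ h).of_iso e

/-- **The dual of a perfect complex.** -/
theorem exists_dual (K : CochainComplex X.Modules ℤ) (hK : DCoh.IsKFlat K)
    (hKp : DCoh.IsPerfect (DerivedCategory.Q.obj K)) :
    ∃ (D : CochainComplex X.Modules ℤ) (_ : DCoh.IsKFlat D) (_ : DCoh.HasLTensorCx D) (_ : DCoh.HasRSheafHom D),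
      DCoh.IsPerfect (DerivedCategory.Q.obj D) ∧
      Nonempty (DerivedCategory.Q.obj K ≅
        (DCoh.RSheafHom D).obj ((DerivedCategory.singleFunctor X.Modules 0).obj (Coh.structureModule X))) ∧
      ∀ {U : Scheme.{u}} (j : U ⟶ X) [IsOpenImmersion j], IsZero ((resD j).obj (DerivedCategory.Q.obj K)) →
        IsZero ((resD j).obj (DerivedCategory.Q.obj D)) := by
  haveI := hasLTensorCx K
  haveI := hasRSheafHom K
  obtain ⟨J, i₀, hi₀, hJ, hJi⟩ := KInj.exists_kInjective_resolution (A := X.Modules) (unitCx X)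
  haveI := hi₀
  haveI := hJ
  obtain ⟨Dk, q, hDk, -, hq, -⟩ := exists_kflat_resolution ((homCx K).obj J)
  haveI := hq
  haveI := hasLTensorCx Dk
  haveI := hasRSheafHom Dk
  obtain ⟨vJ⟩ := nonempty_RSheafHom_value K hK J
  let iD : DerivedCategory.Q.obj Dk ≅
      (DCoh.RSheafHom K).obj ((DerivedCategory.singleFunctor X.Modules 0).obj (Coh.structureModule X)) :=
    asIso (DerivedCategory.Q.map q) ≪≫ vJ.symm ≪≫
      (DCoh.RSheafHom K).mapIso ((asIso (DerivedCategory.Q.map i₀)).symm ≪≫ unitCxQIso X)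
  have hDkp : DCoh.IsPerfect (DerivedCategory.Q.obj Dk) :=
    isPerfect_of_iso (isPerfect_RSheafHom_of_perfect K hKp (isPerfect_unit X)) iD.symm
  obtain ⟨vD⟩ := nonempty_RSheafHom_value Dk hDk J
  have h1 : IsIso (DerivedCategory.Q.map (DualPerf22.evC J K)) := DualPerf22.isIso_Q_evC hJi i₀ K hKp
  have h2 : IsIso (DerivedCategory.Q.map (homMap q J)) := DualPerf22.isIso_Q_homMap q hq J hJi
  exact ⟨Dk, hDk, inferInstance, inferInstance, hDkp,
    ⟨asIso (DerivedCategory.Q.map (DualPerf22.evC J K)) ≪≫ asIso (DerivedCategory.Q.map (homMap q J)) ≪≫ vD.symm ≪≫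
      (DCoh.RSheafHom Dk).mapIso ((asIso (DerivedCategory.Q.map i₀)).symm ≪≫ unitCxQIso X)⟩,
    fun {U} j _ h => (isZero_resD_RSheafHom j K h _).of_iso ((resD j).mapIso iD)⟩

/-- **The right adjoint of a supported perfect object is supported.** -/
theorem isZero_resD_adjoint_of_perfect (f : X ⟶ Y) [QuasiCompact f] [QuasiSeparated f] [DCoh.HasRpush f]
    (hf : DCoh.RpushPreservesQCoh f) {a : DCoh.DQCoh Y ⥤ DCoh.DQCoh X} (adj : DCoh.RpushQ f hf ⊣ a)
    (V : Y.Opens) (P : DCoh.DQCoh Y) (hP : DCoh.IsPerfect P.obj) (hV : IsZero ((resD V.ι).obj P.obj)) :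
    IsZero ((resD (f ⁻¹ᵁ V).ι).obj (a.obj P).obj) := by
  obtain ⟨K, hK, ⟨eK⟩⟩ := exists_kflat_rep P.obj
  obtain ⟨D, hD, _, _, hDp, ⟨e⟩, hDz⟩ := exists_dual K hK (isPerfect_of_iso hP eK.symm)
  let D' := (pullCxF f).obj D
  haveI := hasLTensorCx D'
  haveI := hasRSheafHom D'
  let O : DCoh.DQCoh Y := ⟨(DerivedCategory.singleFunctor Y.Modules 0).obj (Coh.structureModule Y),
    isQCohD_of_isPerfect (isPerfect_unit Y)⟩
  obtain ⟨n⟩ := nonempty_adjoint_RHom f hf adj D hD hDp O P (eK.symm ≪≫ e)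
  haveI := hasLpull f
  obtain ⟨v⟩ := lpull_value f D hD
  refine (isZero_resD_RSheafHom (f ⁻¹ᵁ V).ι D' ?_ _).of_iso ((resD _).mapIso n)
  exact (isZero_resD_lpull f V (hDz V.ι (hV.of_iso ((resD V.ι).mapIso eK)))).of_iso ((resD _).mapIso v.symm)

end GrothLib.RightAdj22
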