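import Groth.Agent.Lib.RightAdj22.Theta
import Groth.Agent.Lib.RightAdj22.Supp
import Groth.Agent.Lib.RightAdj22.Coprod
import Groth.Agent.Lib.RightAdj22.Exact
import Groth.Agent.Lib.TorBC25.Localizing
import Groth.Agent.Lib.KSix19.ProjPush.Detect
import Groth.Agent.Lib.KSix19.ProjPush.Serre

/-! # `a = Lf^*(-) ⊗^L a(O)` when `a` commutes with direct sums -/

set_option autoImplicit false
set_option maxHeartbeats 1000000
set_option linter.style.haveILetI false
universe u v v' w w'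

open CategoryTheory CategoryTheory.Limits AlgebraicGeometry HomologicalComplex CategoryTheory.Pretriangulated

attribute [local instance] HasDerivedCategory.standard

noncomputable section

namespace GrothLib.RightAdj22

open GrothLib.OX

variable {X Y : Scheme.{u}}

theorem isIso_app_coproduct {C : Type w} [Category.{v} C] {D : Type w'} [Category.{v'} D] {F G : C ⥤ D} (α : F ⟶ G)
    {J : Type*} [HasCoproductsOfShape J D] (Z : J → C) [HasCoproduct Z] [PreservesColimit (Discrete.functor Z) F]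
    [PreservesColimit (Discrete.functor Z) G] [HasCoproduct fun j => F.obj (Z j)] [HasCoproduct fun j => G.obj (Z j)]
    (h : ∀ j, IsIso (α.app (Z j))) : IsIso (α.app (∐ Z)) := by
  have hc : sigmaComparison F Z ≫ α.app (∐ Z) = Limits.Sigma.map (fun j => α.app (Z j)) ≫ sigmaComparison G Z :=
    Sigma.hom_ext _ _ fun j => by simp
  haveI : ∀ j, IsIso (α.app (Z j)) := h
  haveI : IsIso (sigmaComparison F Z ≫ α.app (∐ Z)) := by
    rw [hc]
    exact IsIso.comp_isIso' (Limits.Sigma.mapIso fun j => asIso (α.app (Z j))).isIso_hom inferInstance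
  exact IsIso.of_isIso_comp_left (sigmaComparison F Z) _

theorem additive_of_isLeftAdjoint {C : Type w} [Category.{v} C] [Preadditive C] [HasBinaryBiproducts C]
    {D : Type w'} [Category.{v'} D] [Preadditive D] (F : C ⥤ D) [F.IsLeftAdjoint] : F.Additive := by
  haveI : PreservesColimitsOfSize.{0, 0} F := (Adjunction.ofIsLeftAdjoint F).leftAdjoint_preservesColimits
  haveI := preservesBinaryBiproducts_of_preservesBinaryCoproducts F
  exact Functor.additive_of_preservesBinaryBiproducts F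

/-- Objects without maps from the generators on an affine open and on its complement are zero. -/
theorem isZero_of_hom_generators [CompactSpace Y] [QuasiSeparatedSpace Y] (V : Y.Opens) (hV : IsAffineOpen V)
    {P : DCoh.D Y}
    (hgen : ∀ K : DCoh.D Y, DCoh.IsQCohD K → IsZero ((resD V.ι).obj K) →
      (∀ (n : ℤ) (φ : P⟦n⟧ ⟶ K), φ = 0) → IsZero K)
    (hPV : IsZero ((resD V.ι).obj P)) {K : DCoh.D Y} (hK : DCoh.IsQCohD K)
    (h₁ : ∀ (n : ℤ) (φ : P⟦n⟧ ⟶ K), φ = 0)
    (h₂ : ∀ (n : ℤ) (φ : DerivedCategory.Q.obj ((unitCx Y)⟦n⟧) ⟶ K), φ = 0) : IsZero K := by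
  let j := hV.fromSpec
  have hr : Set.range j = (V : Set Y) := hV.range_fromSpec
  haveI : QuasiCompact j := quasiCompact_of_isCompact_range j (by rw [hr]; exact hV.isCompact)
  have hj : ∀ {L : DCoh.D Y}, IsZero ((resD j).obj L) ↔ IsZero ((resD V.ι).obj L) := fun {L} =>
    ⟨isZero_resD_of_le _ _ (by rw [hr, Scheme.Opens.range_ι]), isZero_resD_of_le _ _ (by rw [hr, Scheme.Opens.range_ι])⟩
  obtain ⟨C, c, d, hT⟩ := distinguished_cocone_triangle ((resDAdj j).unit.app K)
  have hCz : IsZero ((resD j).obj C) :=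
    (Triangle.isZero₃_iff_isIso₁ _ ((resD j).map_distinguished _ hT)).2 (isIso_resD_unit j K)
  have hC0 : IsZero C := by
    refine hgen C (isQCohD_obj₃ hT hK (isQCohD_Rres j _ (isQCohD_resD j hK))) (hj.1 hCz) fun n φ => ?_
    have hd : φ ≫ d = 0 := by
      let e : (P⟦n - 1⟧)⟦(1 : ℤ)⟧ ≅ P⟦n⟧ := ((shiftFunctorAdd' (DCoh.D Y) (n - 1) 1 n (by omega)).app P).symm
      obtain ⟨y, hy⟩ := (shiftFunctor (DCoh.D Y) (1 : ℤ)).map_surjective (X := P⟦n - 1⟧) (Y := K) (e.hom ≫ φ ≫ d)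
      rw [h₁ _ y, Functor.map_zero] at hy
      rw [← cancel_epi e.hom, comp_zero]
      exact hy.symm
    obtain ⟨ψ, rfl⟩ := Triangle.coyoneda_exact₃ _ hT φ hd
    have hz : IsZero ((resD j).obj (P⟦n⟧)) :=
      ((shiftFunctor _ n).map_isZero (hj.2 hPV)).of_iso (((resD j).commShiftIso n).app P)
    have : ψ = 0 := ((resDAdj j).homEquiv _ _).symm.injective (hz.eq_of_src _ _)
    rw [this]
    exact zero_comp
  have hu : IsIso ((resDAdj j).unit.app K) := (Triangle.isZero₃_iff_isIso₁ _ hT).1 hC0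
  suffices hz : IsZero ((resD j).obj K) from ((RR j).map_isZero hz).of_iso (@asIso _ _ _ _ _ hu)
  refine KSix19.ProjPush.isZero_of_hom_structure (isQCohD_resD j hK) fun m φ => ?_
  haveI := hasLpull j
  obtain ⟨l⟩ := SuppTens22.nonempty_lpull_openImmersion j
  obtain ⟨s⟩ := KSix19.ProjPush.nonempty_lpull_structure j m
  let i : DerivedCategory.Q.obj ((unitCx Y)⟦-m⟧) ≅ (DerivedCategory.singleFunctor Y.Modules m).obj (Coh.structureModule Y) :=
    (DerivedCategory.Q.commShiftIso (-m)).app _ ≪≫ (shiftFunctor (DCoh.D Y) (-m)).mapIso (unitCxQIso Y) ≪≫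
      ((DerivedCategory.singleFunctors Y.Modules).shiftIso (-m) m 0 (by omega)).app _
  let t : (resD j).obj (DerivedCategory.Q.obj ((unitCx Y)⟦-m⟧)) ≅
      (DerivedCategory.singleFunctor _ m).obj (Coh.structureModule (Spec Γ(Y, V))) :=
    (resD j).mapIso i ≪≫ (l.app _).symm ≪≫ s
  rw [← cancel_epi t.hom, comp_zero]
  apply ((resDAdj j).homEquiv _ _).injective
  rw [← cancel_mono (inv ((resDAdj j).unit.app K))]
  exact (h₂ (-m) _).trans (h₂ (-m) _).symm

/-- The comparison map is invertible. -/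
theorem nonempty_iso [CompactSpace X] [QuasiSeparatedSpace X] [CompactSpace Y] [QuasiSeparatedSpace Y]
    (f : X ⟶ Y) [DCoh.HasRpush f] (hf : DCoh.RpushPreservesQCoh f)
    {a : DCoh.DQCoh Y ⥤ DCoh.DQCoh X} (adj : DCoh.RpushQ f hf ⊣ a)
    (hcop : ∀ J : Type u, PreservesColimitsOfShape (Discrete J) a) (O : DCoh.DQCoh Y)
    (hO : Nonempty (O.obj ≅ DCoh.inD Y (Coh.structureModule Y))) [DCoh.HasLpull f]
    (E : CochainComplex X.Modules ℤ) (hE : Nonempty (DCoh.toD X E ≅ (a.obj O).obj)) [DCoh.HasLTensorCx E] :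
    Nonempty (a ⋙ ObjectProperty.ι _ ≅ ObjectProperty.ι _ ⋙ DCoh.Lpull f ⋙ DCoh.LTensorCx E) := by
  haveI : QuasiSeparated f := QuasiSeparated.of_quasiSeparatedSpace f
  haveI : QuasiCompact f := inferInstance
  obtain ⟨θ, hθ⟩ := exists_theta f hf adj O hO E hE
  suffices h : ∀ K, IsIso (θ.app K) from ⟨(@asIso _ _ _ _ θ (@NatIso.isIso_of_isIso_app _ _ _ _ _ _ _ h)).symm⟩
  intro K
  obtain ⟨C, c, d, hT⟩ := distinguished_cocone_triangle (θ.app K)
  suffices hC : IsZero C from (Triangle.isZero₃_iff_isIso₁ _ hT).1 hC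
  refine isZero_of_support_empty fun q => Set.eq_empty_iff_forall_notMem.2 fun x hx => ?_
  obtain ⟨V, hV, hxV, -⟩ := exists_isAffineOpen_mem_and_subset (x := f x) (U := ⊤) trivial
  let j := (f ⁻¹ᵁ V).ι
  refine (isZero_resD_iff_support j C).1 ((Triangle.isZero₃_iff_isIso₁ _ ((resD j).map_distinguished _ hT)).2 ?_) q hx
    ⟨⟨x, hxV⟩, rfl⟩
  show IsIso ((resD j).map (θ.app K))
  haveI := hasRSheafHom E
  haveI : DCoh.HasRpush f := inferInstance
  obtain ⟨ladj⟩ := nonempty_lpullAdj f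
  haveI : (DCoh.Lpull f).IsLeftAdjoint := ladj.isLeftAdjoint
  haveI : (DCoh.LTensorCx E).IsLeftAdjoint := (DCoh.RSheafHomAdj E).isLeftAdjoint
  haveI : (resD j).IsLeftAdjoint := (resDAdj j).isLeftAdjoint
  haveI : (DCoh.Lpull f).Additive := additive_of_isLeftAdjoint _
  haveI : (DCoh.LTensorCx E).Additive := additive_of_isLeftAdjoint _
  haveI := additive_of_adj adj
  let F := (ObjectProperty.ι (DCoh.IsQCohD (X := Y)) ⋙ DCoh.Lpull f ⋙ DCoh.LTensorCx E) ⋙ resD j
  let G := (a ⋙ ObjectProperty.ι (DCoh.IsQCohD (X := X))) ⋙ resD j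
  let α : F ⟶ G := Functor.whiskerRight θ (resD j)
  have hF : Ex F := fun T hT => by
    let radj := ladj.ofNatIsoRight (rpushIsoRres f)
    letI := TorBC25.lpullCommShift f radj
    haveI := TorBC25.isTriangulated_lpull f radj
    obtain ⟨d, hd⟩ := exists_triangle_ltensor' E
      ((DCoh.Lpull f).map_distinguished _ ((DCoh.IsQCohD (X := Y)).ι.map_distinguished T hT))
    exact ⟨_, (resD j).map_distinguished _ hd⟩
  have hG : Ex G := fun T hT => by
    obtain ⟨d, hd⟩ := exists_map_triangle f hf adj hT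
    exact ⟨_, (resD j).map_distinguished _ hd⟩
  -- the generators
  obtain ⟨P, hP, hPV, hgen⟩ := hasGen_of_qcqs Y V hV.isCompact
  have hUq : ∀ n : ℤ, DCoh.IsQCohD (DerivedCategory.Q.obj ((unitCx Y)⟦n⟧)) := fun n =>
    KSix19.BettiExact.isQCohD_of_iso' ((DerivedCategory.Q.commShiftIso n).app (unitCx Y) ≪≫
      (shiftFunctor _ n).mapIso (unitCxQIso Y)).symm (isQCohD_shift (isQCohD_of_isPerfect (isPerfect_unit Y)) n)
  let E' : ULift.{u} ℤ ⊕ ULift.{u} ℤ → DCoh.DQCoh Y := Sum.elim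
    (fun k => ⟨_, hUq k.down⟩) (fun k => ⟨P⟦k.down⟧, isQCohD_shift (isQCohD_of_isPerfect hP) _⟩)
  have hsh : ∀ k (m : ℤ), Nonempty ((E' k)⟦m⟧ ≅ E' (Sum.map (fun t => ⟨t.down + m⟩) (fun t => ⟨t.down + m⟩) k)) := by
    rintro (k | k) m
    · exact ⟨(DCoh.IsQCohD (X := Y)).isoMk ((((DCoh.IsQCohD (X := Y)).ι.commShiftIso m).app (E' (.inl k))) ≪≫
        ((DerivedCategory.Q.commShiftIso m).app ((unitCx Y)⟦k.down⟧)).symm ≪≫
        DerivedCategory.Q.mapIso ((shiftFunctorAdd (CochainComplex Y.Modules ℤ) k.down m).app (unitCx Y)).symm)⟩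
    · exact ⟨(DCoh.IsQCohD (X := Y)).isoMk ((((DCoh.IsQCohD (X := Y)).ι.commShiftIso m).app (E' (.inr k))) ≪≫
        ((shiftFunctorAdd (DCoh.D Y) k.down m).app P).symm)⟩
  have hperf : ∀ k, DCoh.IsPerfect (E' k).obj := by
    rintro (k | k)
    · exact isPerfect_of_iso (isPerfect_shift (isPerfect_unit Y) k.down)
        ((DerivedCategory.Q.commShiftIso k.down).app (unitCx Y) ≪≫ (shiftFunctor _ k.down).mapIso (unitCxQIso Y)).symm
    · exact isPerfect_shift hP k.down
  have hbase : ∀ k, IsIso (α.app (E' k)) := by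
    rintro (k | k)
    · exact @Functor.map_isIso _ _ _ _ _ _ (resD j) _ (hθ k.down (hUq k.down))
    · have hz : IsZero ((resD V.ι).obj (P⟦k.down⟧)) :=
        ((shiftFunctor _ k.down).map_isZero hPV).of_iso (((resD V.ι).commShiftIso k.down).app P)
      exact ⟨0, (isZero_resD_ltensor j E (isZero_resD_lpull f V hz)).eq_of_src _ _,
        (isZero_resD_adjoint_of_perfect f hf adj V (E' (.inr k)) (hperf _) hz).eq_of_src _ _⟩
  have key : ∀ n : ℤ, IsIso (α.app (K⟦n⟧)) := by
    refine TriCatS.prop_of_generators.{u, u + 1} (E := E') (fun k m => ⟨_, hsh k m⟩)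
      (TriCatS.isPerfectFamily_of_finHom.{u, u + 1} fun M k => finHom_DQCoh (hperf k) M)
      (fun L hL => ?_) (fun L => ∀ n : ℤ, IsIso (α.app (L⟦n⟧))) (fun {A B} e h n =>
        (NatTrans.isIso_app_iff_of_iso α ((shiftFunctor _ n).mapIso e)).1 (h n)) (fun k n => ?_) (fun J Z hZ n => ?_)
      (fun T hT h₁ h₂ n => ?_) K
    · have hz := isZero_of_hom_generators V hV hgen hPV L.property
        (fun n φ => congrArg (fun g : E' (.inr ⟨n⟩) ⟶ L => g.hom) (hL (.inr ⟨n⟩) (ObjectProperty.homMk φ)))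
        (fun n φ => congrArg (fun g : E' (.inl ⟨n⟩) ⟶ L => g.hom) (hL (.inl ⟨n⟩) (ObjectProperty.homMk φ)))
      exact (IsZero.iff_id_eq_zero L).2 (ObjectProperty.hom_ext _ (hz.eq_of_src _ _))
    · exact (NatTrans.isIso_app_iff_of_iso α (hsh k n).some).2 (hbase _)
    · haveI := hcop J
      haveI := preservesColimitOfShape_of_createsColimitsOfShape_and_hasColimitsOfShape
        (F := (DCoh.IsQCohD (X := Y)).ι) (J := Discrete J)
      haveI := preservesColimitOfShape_of_createsColimitsOfShape_and_hasColimitsOfShape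
        (F := (DCoh.IsQCohD (X := X)).ι) (J := Discrete J)
      exact (NatTrans.isIso_app_iff_of_iso α (PreservesCoproduct.iso (shiftFunctor (DCoh.DQCoh Y) n) Z)).2
        (isIso_app_coproduct α (fun i => (Z i)⟦n⟧) fun i => hZ i n)
    · exact isIso_app_obj₃ F G α hF hG (Triangle.shift_distinguished T hT n) (h₁ n) (h₂ n)
        ((NatTrans.isIso_app_iff_of_iso α ((shiftFunctorAdd _ n (1 : ℤ)).app _)).1 (h₁ (n + 1)))
        ((NatTrans.isIso_app_iff_of_iso α ((shiftFunctorAdd _ n (1 : ℤ)).app _)).1 (h₂ (n + 1)))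
  exact (NatTrans.isIso_app_iff_of_iso α ((shiftFunctorZero (DCoh.DQCoh Y) ℤ).app K)).1 (key 0)

end GrothLib.RightAdj22
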