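import Groth.Agent.Lib.RightAdj22.Factor
import Groth.Agent.Lib.RightAdj22.Exact
import Groth.Agent.Lib.RightAdj22.Supp
import Groth.Agent.Lib.KSix19.BettiExact.Proj
import Groth.Agent.Lib.KSix19.RelNoeth.Perf
import Groth.Agent.Lib.KSix19.ProjPush.PCoh
import Groth.Agent.Lib.Detect22.PerfectDetect
import Groth.Agent.Lib.OX.CohRHom
import Groth.Agent.Lib.RpushSupp20.Main

/-! # The right adjoint of a proper push-forward and supports, bounded below -/

set_option autoImplicit false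
set_option maxHeartbeats 1000000
set_option linter.style.haveILetI false
universe u

open CategoryTheory CategoryTheory.Limits AlgebraicGeometry CategoryTheory.Pretriangulated

attribute [local instance] HasDerivedCategory.standard

noncomputable section

namespace GrothLib.RightAdj22

open GrothLib.OX GrothLib.KSix19

variable {X Y : Scheme.{u}}

/-- An object is zero on `U` when every map into it from a perfect object is killed without changing `U`. -/
theorem isZero_resD_of_kill [CompactSpace X] [QuasiSeparatedSpace X] (U : X.Opens) (hU : IsCompact (U : Set X))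
    {W : DCoh.D X} (hW : DCoh.IsQCohD W)
    (h : ∀ (M : DCoh.D X), DCoh.IsPerfect M → ∀ φ : M ⟶ W,
      ∃ (M' : DCoh.D X) (u : M' ⟶ M), DCoh.IsPerfect M' ∧ IsIso ((resD U.ι).map u) ∧ u ≫ φ = 0) :
    IsZero ((resD U.ι).obj W) := by
  haveI : QuasiCompact U.ι := quasiCompact_of_isCompact_range U.ι (by rwa [Scheme.Opens.range_ι])
  let L := (RR U.ι).obj ((resD U.ι).obj W)
  have hL : DCoh.IsQCohD L := isQCohD_Rres U.ι _ (isQCohD_resD U.ι hW)
  obtain ⟨C, c, d, hT⟩ := distinguished_cocone_triangle ((resDAdj U.ι).unit.app W)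
  have hC : IsZero ((resD U.ι).obj C) :=
    (Triangle.isZero₃_iff_isIso₁ _ ((resD U.ι).map_distinguished _ hT)).2 (isIso_resD_unit U.ι W)
  have hLz : IsZero L := by
    obtain ⟨G, hG, -, hgen⟩ := hasGen_of_qcqs X ⊥ isCompact_empty
    refine hgen L hL (isZero_of_support_empty fun q => Set.eq_empty_of_forall_notMem fun x _ => x.2.elim) fun n y => ?_
    obtain ⟨M', u, hM', hu, h0⟩ := exists_kill U hU (isQCohD_obj₃ hT hW hL) hC (isPerfect_shift hG n) (y ≫ c)
    obtain ⟨φ, hφ⟩ := Triangle.coyoneda_exact₂ _ hT (u ≫ y) ((Category.assoc _ _ _).trans h0)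
    obtain ⟨M'', u', -, hu', h0'⟩ := h M' hM' φ
    have h1 : (u' ≫ u) ≫ y = 0 := by
      refine ((Category.assoc _ _ _).trans (congrArg (u' ≫ ·) hφ)).trans ?_
      exact (Category.assoc _ _ _).symm.trans ((congrArg (· ≫ _) h0').trans zero_comp)
    haveI : IsIso ((resD U.ι).map (u' ≫ u)) := by rw [Functor.map_comp]; exact IsIso.comp_isIso' hu' hu
    have h2 : (resD U.ι).map (u' ≫ u) ≫ ((resDAdj U.ι).homEquiv _ _).symm y = 0 := by
      rw [← Adjunction.homEquiv_naturality_left_symm, h1, Adjunction.homEquiv_counit, Functor.map_zero, zero_comp]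
    apply ((resDAdj U.ι).homEquiv _ _).symm.injective
    rw [(cancel_epi ((resD U.ι).map (u' ≫ u))).1 (h2.trans comp_zero.symm), Adjunction.homEquiv_counit,
      Functor.map_zero, zero_comp]
  haveI : CxOX.HasRgammaZ U.ι := KInj.hasRightDerivedFunctor _
  exact ((resD U.ι).map_isZero hLz).of_iso ((asIso (resDAdj U.ι).counit).app ((resD U.ι).obj W)).symm

/-- **The right adjoint of a proper push-forward preserves supports of bounded below objects.** -/
theorem isZero_resD_adjoint_of_isGE [IsNoetherian Y] (f : X ⟶ Y) [IsProper f] [DCoh.HasRpush f]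
    (hf : DCoh.RpushPreservesQCoh f) {a : DCoh.DQCoh Y ⥤ DCoh.DQCoh X} (adj : DCoh.RpushQ f hf ⊣ a)
    (V : Y.Opens) (hV : IsCompact (V : Set Y)) (Q : DCoh.DQCoh Y) (c : ℤ) [Q.obj.IsGE c]
    (hQ : IsZero ((resD V.ι).obj Q.obj)) : IsZero ((resD (f ⁻¹ᵁ V).ι).obj (a.obj Q).obj) := by
  haveI : CompactSpace X := QuasiCompact.compactSpace_of_compactSpace f
  haveI : IsLocallyNoetherian X := LocallyOfFiniteType.isLocallyNoetherian f
  haveI : QuasiSeparatedSpace X := quasiSeparatedSpace_of_quasiSeparated f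
  haveI := hasLpull f
  refine isZero_resD_of_kill (f ⁻¹ᵁ V) (f.isCompact_preimage hV) (a.obj Q).property fun M hM φ => ?_
  obtain ⟨l₀, hl₀⟩ := ProjPush.exists_isGE_of_isPerfect hM
  obtain ⟨b₀, hb₀⟩ := exists_isLE_of_isPerfect hM
  have hMc : DCoh.IsCohD M := fun i =>
    BettiExact.isCoh_HD_of_pseudoCoherent (isPseudoCoherentD_of_isPerfect hM (i - 1)) (by omega)
  have hprop : WSerre.cohIn (RpushSupp20.properP f) M := fun i =>
    ⟨hMc i, QCoh.isClosed_support_of_isCoh (hMc i), inferInstance⟩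
  obtain ⟨hRc, -⟩ := RpushSupp20.isCohD_Rpush f M l₀ hprop
  obtain ⟨b', hb'⟩ := RpushSupp20.exists_isLE_Rpush f M l₀ b₀ hprop
  -- the projection formula around `M`
  obtain ⟨A, α, hα, hA, hA'⟩ := KInj.exists_kInjective_resolution _ (DerivedCategory.Q.objPreimage M)
  let eA : DerivedCategory.Q.obj A ≅ M :=
    (asIso (DerivedCategory.Q.map α)).symm ≪≫ DerivedCategory.Q.objObjPreimageIso M
  have hMq : DCoh.IsQCohD M := isQCohD_of_isPerfect hM
  have hAq : DCoh.IsQCohD (DerivedCategory.Q.obj A) := BettiExact.isQCohD_of_iso' eA.symm hMq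
  haveI := hasLTensorCx A
  let B := (pushCxF f).obj A
  haveI := hasLTensorCx B
  haveI := hasRSheafHom B
  obtain ⟨τ⟩ := BettiExact.nonempty_proj_iso f A ⟨hA', hA⟩ hAq
  obtain ⟨T⟩ := BettiExact.nonempty_iso_of_kflat (DCoh.LTensorCx B) (DCoh.Lpull f ⋙ DCoh.LTensorCx A ⋙ DCoh.Rpush f) τ
  let O : DCoh.DQCoh Y := ⟨DerivedCategory.Q.obj (unitCx Y),
    BettiExact.isQCohD_of_iso' (unitCxQIso Y).symm (isQCohD_of_isPerfect (isPerfect_unit Y))⟩
  obtain ⟨l⟩ := Detect22.nonempty_lpull_unit f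
  obtain ⟨t⟩ := Detect22.nonempty_ltensor_unit A
  let ψ : (DCoh.LTensorCx A).obj ((DCoh.Lpull f).obj O.obj) ≅ M := (DCoh.LTensorCx A).mapIso l ≪≫ t.symm ≪≫ eA
  let M₁ : DCoh.DQCoh X := ⟨M, hMq⟩
  let φ₁ : M₁ ⟶ a.obj Q := ObjectProperty.homMk φ
  let φ' : (DCoh.Rpush f).obj M ⟶ Q.obj := ((adj.homEquiv M₁ Q).symm φ₁).hom
  let o : O.obj ⟶ (DCoh.RSheafHom B).obj Q.obj :=
    (DCoh.RSheafHomAdj B).homEquiv _ _ (T.hom.app O ≫ (DCoh.Rpush f).map ψ.hom ≫ φ')
  -- the target of `o` is supported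
  obtain ⟨t'⟩ := Detect22.nonempty_ltensor_unit B
  let eB : DerivedCategory.Q.obj B ≅ (DCoh.Rpush f).obj M := t' ≪≫ T.app O ≪≫ (DCoh.Rpush f).mapIso ψ
  haveI : (DerivedCategory.Q.obj B).IsLE b' := DerivedCategory.TStructure.t.isLE_of_iso eB.symm b'
  have hBc : DCoh.IsCohD (DerivedCategory.Q.obj B) := fun i =>
    QCoh.isCoh_of_iso ((DerivedCategory.homologyFunctor _ i).mapIso eB).symm (hRc i)
  have hSq : DCoh.IsQCohD ((DCoh.RSheafHom B).obj Q.obj) := fun j =>
    isQCoh_HD_RSheafHom_of_pseudo B (c - j - 1) (isPseudoCoherentD_of_isCohD hBc b' _) Q.property c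
      (fun m hm => DerivedCategory.isZero_of_isGE Q.obj c m hm) j (by omega)
  have hS : IsZero ((resD V.ι).obj ((DCoh.RSheafHom B).obj Q.obj)) := by
    haveI := hasLTensorCx ((resCx V.ι).obj B)
    haveI := hasRSheafHom ((resCx V.ι).obj B)
    obtain ⟨e⟩ := nonempty_resD_RSheafHom V.ι (K := B)
    haveI : (DCoh.RSheafHom ((resCx V.ι).obj B)).IsRightAdjoint := (DCoh.RSheafHomAdj _).isRightAdjoint
    refine IsZero.of_iso ?_ (e.app Q.obj)
    exact (IsZero.iff_id_eq_zero _).2 (((DCoh.RSheafHomAdj _).homEquiv _ _).symm.injective (hQ.eq_of_tgt _ _))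
  obtain ⟨K, u, hK, hu, h0⟩ := exists_kill V hV hSq hS
    (isPerfect_of_iso (isPerfect_unit Y) (unitCxQIso Y).symm) o
  let K₁ : DCoh.DQCoh Y := ⟨K, isQCohD_of_isPerfect hK⟩
  let u₁ : K₁ ⟶ O := ObjectProperty.homMk u
  let F := DCoh.Lpull f ⋙ DCoh.LTensorCx A
  refine ⟨F.obj K, F.map u ≫ ψ.hom, ?_, ?_, ?_⟩
  · obtain ⟨P, hP, ⟨e⟩⟩ := exists_kflat_rep (DerivedCategory.Q.obj A)
    haveI := hasLTensorCx P
    obtain ⟨c'⟩ := nonempty_ltensorCx_congr_of_iso e.symm
    exact isPerfect_of_iso (isPerfect_ltensor P hP (isPerfect_of_iso hM (e ≪≫ eA).symm) (isPerfect_lpull f hK))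
      (c'.app _).symm
  · let j := (f ⁻¹ᵁ V).ι
    obtain ⟨C, g, d, hT⟩ := distinguished_cocone_triangle u
    haveI : DCoh.HasRpush f := inferInstance
    obtain ⟨ladj⟩ := nonempty_lpullAdj f
    let radj := ladj.ofNatIsoRight (rpushIsoRres f)
    letI := TorBC25.lpullCommShift f radj
    haveI := TorBC25.isTriangulated_lpull f radj
    obtain ⟨d', hd'⟩ := exists_triangle_ltensor' A ((DCoh.Lpull f).map_distinguished _ hT)
    have hz : IsZero ((resD V.ι).obj C) :=
      (Triangle.isZero₃_iff_isIso₁ _ ((resD V.ι).map_distinguished _ hT)).2 hu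
    haveI : IsIso ((resD j).map (F.map u)) := (Triangle.isZero₃_iff_isIso₁ _ ((resD j).map_distinguished _ hd')).1
      (isZero_resD_ltensor j A (isZero_resD_lpull f V hz))
    rw [Functor.map_comp]
    infer_instance
  · have h1 : (DCoh.LTensorCx B).map u ≫ T.hom.app O ≫ (DCoh.Rpush f).map ψ.hom ≫ φ' = 0 := by
      apply ((DCoh.RSheafHomAdj B).homEquiv _ _).injective
      rw [Adjunction.homEquiv_naturality_left]
      exact h0.trans (((DCoh.RSheafHomAdj B).homEquiv_unit _ _ _).trans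
        (by rw [Functor.map_zero, comp_zero])).symm
    have h2 : (DCoh.LTensorCx B).map u ≫ T.hom.app O = T.hom.app K₁ ≫ (DCoh.Rpush f).map (F.map u) :=
      T.hom.naturality u₁
    have h3 : (DCoh.Rpush f).map (F.map u ≫ ψ.hom) ≫ φ' = 0 := by
      rw [reassoc_of% h2, ← Functor.map_comp_assoc] at h1
      exact (cancel_epi (T.hom.app K₁)).1 (h1.trans comp_zero.symm)
    let M₂ : DCoh.DQCoh X := ⟨F.obj K, BettiExact.isQCohD_of_iso' (Iso.refl _)
      (isQCohD_ltensor A hAq (SuppTens22.isQCohD_lpull f K₁.property))⟩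
    haveI : (DCoh.RpushQ f hf).IsLeftAdjoint := adj.isLeftAdjoint
    have h4 : (ObjectProperty.homMk (F.map u ≫ ψ.hom) : M₂ ⟶ M₁) ≫ φ₁ = 0 := by
      apply (adj.homEquiv M₂ Q).symm.injective
      rw [Adjunction.homEquiv_naturality_left_symm, Adjunction.homEquiv_counit adj (g := (0 : M₂ ⟶ a.obj Q)),
        Functor.map_zero, zero_comp]
      exact ObjectProperty.hom_ext _ h3
    exact congrArg (fun t : M₂ ⟶ a.obj Q => t.hom) h4

end GrothLib.RightAdj22
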