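import Groth.Agent.Lib.RightAdj22.RHomPush
import Groth.Agent.Lib.RightAdj22.Shriek
import Groth.Agent.Lib.KSix19.ProjPush.PCTwists
import Groth.Agent.Lib.KSix19.ProjPush.Closed
import Groth.Agent.Lib.TorCoh22.Main
import Groth.Agent.Lib.OX.LocFreeHomVanish
import Groth.Agent.Lib.CMReg.StructureMain

/-! # The right adjoint of a proper direct image preserves coherence, bounded below -/

set_option autoImplicit false
set_option maxHeartbeats 2000000
set_option linter.style.haveILetI false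
universe u

open CategoryTheory CategoryTheory.Limits AlgebraicGeometry CategoryTheory.Pretriangulated HomologicalComplex

attribute [local instance] HasDerivedCategory.standard

noncomputable section

namespace GrothLib.RightAdj22

open GrothLib.OX GrothLib.KSix19

variable {X Y : Scheme.{u}}

theorem isCohD_of_iso {K L : DCoh.D X} (e : K ≅ L) (h : DCoh.IsCohD K) : DCoh.IsCohD L := fun i =>
  QCoh.isCoh_of_iso ((DerivedCategory.homologyFunctor _ i).mapIso e) (h i)

theorem nonempty_RSheafHom_unit (E : DCoh.D X) [DCoh.HasLTensorCx (unitCx X)] [DCoh.HasRSheafHom (unitCx X)] :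
    Nonempty ((DCoh.RSheafHom (unitCx X)).obj E ≅ E) := by
  obtain ⟨I, α, hα, hI, -⟩ := KInj.exists_kInjective_resolution _ (DerivedCategory.Q.objPreimage E)
  haveI := hI
  let e : DerivedCategory.Q.obj I ≅ E :=
    (asIso (DerivedCategory.Q.map α)).symm ≪≫ DerivedCategory.Q.objObjPreimageIso E
  obtain ⟨v⟩ := nonempty_RSheafHom_value (unitCx X) (isKFlat_single _ (flat_structureModule _) 0) I
  exact ⟨(DCoh.RSheafHom (unitCx X)).mapIso e.symm ≪≫ v ≪≫ DerivedCategory.Q.mapIso (homCxUnitIso.app I) ≪≫ e⟩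

/-- **Coherence for a closed immersion.** -/
theorem isCohD_aQ_closedImmersion [AlgebraicGeometry.IsNoetherian Y] (i : X ⟶ Y) [IsClosedImmersion i]
    (K : DCoh.DQCoh Y) (c : ℤ) [K.obj.IsGE c] (hK : DCoh.IsCohD K.obj) :
    DCoh.IsCohD ((aQ i).obj K).obj := by
  haveI := isNoetherian_of_proper i
  haveI := hasLTensorCx (unitCx X)
  haveI := hasRSheafHom (unitCx X)
  have hO : DCoh.IsPerfect (DerivedCategory.Q.obj (unitCx X)) :=
    isPerfect_of_iso (isPerfect_unit X) (unitCxQIso X).symm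
  obtain ⟨B, _, _, ⟨eB⟩, h⟩ := nonempty_RR_RSheafHom i (unitCx X) hO
  have hOc : DCoh.IsCohD (DerivedCategory.Q.obj (unitCx X)) := fun j =>
    BettiExact.isCoh_HD_of_pseudoCoherent (isPseudoCoherentD_of_isPerfect hO (j - 1)) (by omega)
  have hBc : DCoh.IsCohD (DerivedCategory.Q.obj B) := fun j =>
    QCoh.isCoh_of_iso (((DerivedCategory.homologyFunctor _ j).mapIso (eB ≪≫ ProjPush.rresPushDIso i _)).trans
      ((DerTrunc.homologyMapIso (Scheme.Modules.pushforward i) j).app _)).symm (haveI := (hOc j).1; ⟨QCoh.isQuasicoherent_pushforward i _, QCoh.isFiniteType_pushforward i _ (hOc j).2⟩)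
  obtain ⟨b, hb⟩ := exists_isLE_of_isPerfect hO
  haveI : (DerivedCategory.Q.obj B).IsLE b := (DerivedCategory.isLE_iff _ _).2 fun j hj =>
    ((Scheme.Modules.pushforward i).map_isZero (DerivedCategory.isZero_of_isLE _ b j hj)).of_iso
      (((DerivedCategory.homologyFunctor _ j).mapIso (eB ≪≫ ProjPush.rresPushDIso i _)).trans
        ((DerTrunc.homologyMapIso (Scheme.Modules.pushforward i) j).app _))
  have hR := isCohD_RSheafHom B b hBc c hK (L := K.obj)
  obtain ⟨e⟩ := h K (fun j => (hR j).1)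
  obtain ⟨u⟩ := nonempty_RSheafHom_unit ((aQ i).obj K).obj
  have h2 := isCohD_of_iso (e.symm ≪≫ (RR i).mapIso u ≪≫ ProjPush.rresPushDIso i _) hR
  exact fun j => QCoh.isCoh_of_pushforward i _ (QCoh.isCoh_of_iso
    ((DerTrunc.homologyMapIso (Scheme.Modules.pushforward i) j).app _) (h2 j))

theorem nonempty_ltensor_single (L : X.Modules) [PreservesFiniteLimits (ProjPush.TT L)]
    [DCoh.HasLTensorCx ((single X.Modules (ComplexShape.up ℤ) 0).obj L)] (E : DCoh.D X) :
    Nonempty ((DCoh.LTensorCx ((single X.Modules (ComplexShape.up ℤ) 0).obj L)).obj E ≅ (ProjPush.TD L).obj E) := by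
  obtain ⟨P, hP, ⟨e⟩⟩ := exists_kflat_rep E
  obtain ⟨v⟩ := ltensorCx_value ((single X.Modules (ComplexShape.up ℤ) 0).obj L) P hP
  exact ⟨(DCoh.LTensorCx _).mapIso e.symm ≪≫ v ≪≫ DerivedCategory.Q.mapIso (singleIso P L).symm ≪≫
    DerivedCategory.Q.mapIso
      ((NatIso.mapHomologicalComplex ((tensorBraiding (X := X)).app L) (ComplexShape.up ℤ)).app P) ≪≫
    ((ProjPush.TT L).mapDerivedCategoryFactors.app P).symm ≪≫ (ProjPush.TD L).mapIso e⟩

/-- **Coherence for a projective space, bounded objects.** -/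
theorem isCohD_aQ_projSpace_bounded (n : ℕ) (A : Type u) [CommRing A] [IsNoetherianRing A]
    [IsProper (CohB1.ProjSpace.toSpec n A)] (K : DCoh.DQCoh (Spec (CommRingCat.of A))) (c b : ℤ) [K.obj.IsGE c]
    [K.obj.IsLE b] (hK : DCoh.IsCohD K.obj) :
    DCoh.IsCohD ((aQ (CohB1.ProjSpace.toSpec n A)).obj K).obj := by
  let π := CohB1.ProjSpace.toSpec n A
  haveI := isNoetherian_of_proper π
  suffices h : ∀ m : ℤ, DCoh.IsPseudoCoherentD m ((aQ π).obj K).obj from fun i =>
    BettiExact.isCoh_HD_of_pseudoCoherent (h (i - 1)) (by omega)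
  refine (ProjPush.pseudoCoherent_iff_MM n A _ ((aQ π).obj K).property).2 fun d _ m => ?_
  let L := ProjPush.OO n A (d : ℤ)
  have hL : FlatMod.IsFinLocFree L :=
    Euler.isFinLocFree_of_isInvertible (ProjPic26.isInvertible_twistProjSpace n A (d : ℤ))
  let S := (single (CohB1.ProjSpace n A).Modules (ComplexShape.up ℤ) 0).obj L
  have hS : DCoh.IsKFlat S := isKFlat_single _ (flat_of_isFinLocFree hL) 0
  have hSp : DCoh.IsPerfect (DerivedCategory.Q.obj S) := isPerfect_single_of_finLocFree hL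
  obtain ⟨D, hD, _, _, hDp, ⟨iS⟩, -⟩ := exists_dual S hS hSp
  haveI := hasLTensorCx S
  haveI := hasRSheafHom S
  obtain ⟨d₁⟩ := nonempty_tensor_dual_iso D S hD hDp iS ((aQ π).obj K).obj
  obtain ⟨d₂⟩ := nonempty_ltensor_single L ((aQ π).obj K).obj
  obtain ⟨B, _, _, ⟨eB⟩, hB⟩ := nonempty_RR_RSheafHom π D hDp
  have hBp : DCoh.IsPerfect (DerivedCategory.Q.obj B) :=
    isPerfect_of_iso (ProjPush.isPerfect_Rres_of_perfect n A hDp) eB.symm
  have hBc : DCoh.IsCohD (DerivedCategory.Q.obj B) := fun j =>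
    BettiExact.isCoh_HD_of_pseudoCoherent (isPseudoCoherentD_of_isPerfect hBp (j - 1)) (by omega)
  obtain ⟨b', hb'⟩ := exists_isLE_of_isPerfect hBp
  have hR := isCohD_RSheafHom B b' hBc c hK (L := K.obj)
  obtain ⟨e⟩ := hB K (fun j => (hR j).1)
  obtain ⟨B', hB', ⟨eB'⟩⟩ := exists_kflat_rep (DerivedCategory.Q.obj B)
  haveI := hasLTensorCx B'
  haveI := hasRSheafHom B'
  obtain ⟨cB⟩ := nonempty_RSheafHom_congr eB'.symm
  obtain ⟨D', hD', ⟨iD'⟩⟩ :=
    exists_kflat_rep ((DCoh.RSheafHom B').obj ((DerivedCategory.singleFunctor _ 0).obj (Coh.structureModule _)))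
  haveI := hasLTensorCx D'
  have hB'p : DCoh.IsPerfect (DerivedCategory.Q.obj B') := isPerfect_of_iso hBp eB'.symm
  obtain ⟨d₃⟩ := nonempty_tensor_dual_iso B' D' hB' hB'p iD' K.obj
  have hD'p : DCoh.IsPerfect (DerivedCategory.Q.obj D') :=
    isPerfect_of_iso (isPerfect_RSheafHom_of_perfect B' hB'p (isPerfect_unit _)) iD'.symm
  obtain ⟨q, hq⟩ := exists_isLE_of_isPerfect hD'p
  haveI : ((DCoh.LTensorCx D').obj K.obj).IsLE (b + q) := isLE_ltensorCx D' (fun i hi =>
    (DerivedCategory.isZero_of_isLE (DerivedCategory.Q.obj D') q i hi).of_iso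
      ((DerivedCategory.homologyFunctorFactors _ i).app D').symm) K.obj b
  haveI : ((DCoh.RSheafHom B).obj K.obj).IsLE (b + q) :=
    DerivedCategory.TStructure.t.isLE_of_iso (d₃ ≪≫ (cB.app K.obj).symm) (b + q)
  exact isPseudoCoherentD_of_iso (isPseudoCoherentD_of_isCohD hR (b + q) m)
    (e.symm ≪≫ (RR π).mapIso (d₁.symm ≪≫ d₂))

/-- A bounded object has the same right adjoint in low degrees. -/
theorem isCohD_aQ_of_bounded [AlgebraicGeometry.IsNoetherian Y] (f : X ⟶ Y) [IsProper f]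
    (h : ∀ (L : DCoh.DQCoh Y) (c b : ℤ), L.obj.IsGE c → L.obj.IsLE b → DCoh.IsCohD L.obj →
      DCoh.IsCohD ((aQ f).obj L).obj)
    (K : DCoh.DQCoh Y) (c : ℤ) [K.obj.IsGE c] (hK : DCoh.IsCohD K.obj) :
    DCoh.IsCohD ((aQ f).obj K).obj := fun i => by
  obtain ⟨N, hN⟩ := exists_isGE_aQ f
  let m : ℤ := i + N + 2
  let L : DCoh.DQCoh Y := ⟨(DerivedCategory.TStructure.t.truncLT m).obj K.obj, isQCohD_truncLT K.property m⟩
  let t : L ⟶ K := ObjectProperty.homMk ((DerivedCategory.TStructure.t.truncLTι m).app K.obj)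
  haveI hle : L.obj.IsLE (m - 1) :=
    inferInstanceAs (((DerivedCategory.TStructure.t.truncLT m).obj K.obj).IsLE (m - 1))
  haveI : L.obj.IsGE c := (DerivedCategory.isGE_iff _ _).2 fun k hk => by
    by_cases hkm : k < m
    · haveI := DerTrunc.isIso_homology_truncLTι K.obj m k hkm
      exact (DerivedCategory.isZero_of_isGE K.obj c k hk).of_iso
        (asIso ((DerivedCategory.homologyFunctor _ k).map ((DerivedCategory.TStructure.t.truncLTι m).app K.obj)))
    · exact DerivedCategory.isZero_of_isLE L.obj (m - 1) k (by omega)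
  have hLc : DCoh.IsCohD L.obj := fun k => by
    by_cases hkm : k < m
    · haveI := DerTrunc.isIso_homology_truncLTι K.obj m k hkm
      exact QCoh.isCoh_of_iso
        (asIso ((DerivedCategory.homologyFunctor _ k).map ((DerivedCategory.TStructure.t.truncLTι m).app K.obj))).symm
        (hK k)
    · exact OX.isCoh_of_isZero (DerivedCategory.isZero_of_isLE L.obj (m - 1) k (by omega))
  obtain ⟨C, g, d, hT⟩ := distinguished_cocone_triangle t
  have hT' := (DCoh.IsQCohD (X := Y)).ι.map_distinguished _ hT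
  let eT := isoTriangleOfIso₁₂ _ _ hT' (DerivedCategory.TStructure.t.triangleLTGE_distinguished m K.obj)
    (Iso.refl _) (Iso.refl _) ((Category.comp_id _).trans (Category.id_comp _).symm)
  haveI hge : ((DerivedCategory.TStructure.t.truncGE m).obj K.obj).IsGE m :=
    inferInstanceAs (DerivedCategory.TStructure.t.IsGE ((DerivedCategory.TStructure.t.truncGE m).obj K.obj) m)
  have hC : C.obj.IsGE m :=
    @Triangulated.TStructure.isGE_of_iso _ _ _ _ _ _ _ DerivedCategory.TStructure.t _ _ (Triangle.π₃.mapIso eT).symm m hge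
  have hC' := hN C m hC
  obtain ⟨d', hd'⟩ := exists_triangle_aQ f hT
  let H := DerivedCategory.homologyFunctor X.Modules 0
  haveI : Epi ((DerivedCategory.homologyFunctor X.Modules i).map ((aQ f).map t).hom) :=
    (H.homologySequence_epi_shift_map_mor₁_iff _ hd' i).2
      ((haveI := hC'; DerivedCategory.isZero_of_isGE ((aQ f).obj C).obj (m - N) i (by omega)).eq_of_tgt _ _)
  haveI : Mono ((DerivedCategory.homologyFunctor X.Modules i).map ((aQ f).map t).hom) :=
    (H.homologySequence_mono_shift_map_mor₁_iff _ hd' (i - 1) i (by omega)).2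
      ((haveI := hC'; DerivedCategory.isZero_of_isGE ((aQ f).obj C).obj (m - N) (i - 1) (by omega)).eq_of_src _ _)
  haveI := isIso_of_mono_of_epi ((DerivedCategory.homologyFunctor X.Modules i).map ((aQ f).map t).hom)
  exact QCoh.isCoh_of_iso (asIso ((DerivedCategory.homologyFunctor X.Modules i).map ((aQ f).map t).hom))
    (h L c (m - 1) inferInstance hle hLc i)

end GrothLib.RightAdj22
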