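import Groth.Agent.Lib.RightAdj22.Proj
import Groth.Agent.Lib.SuppTens22.Basic
import Groth.Agent.Lib.OX.HomQCoh
import Groth.Agent.Lib.OX.QCohTensor
import Groth.Agent.Lib.OX.PerfectLemmas
import Groth.Prelude.Def_DDual2
import Mathlib.CategoryTheory.Yoneda

/-! # The right adjoint and internal `Hom` out of perfect complexes -/

set_option autoImplicit false
set_option maxHeartbeats 1000000
set_option linter.style.haveILetI false
universe u

open CategoryTheory CategoryTheory.Limits AlgebraicGeometry HomologicalComplex Opposite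

attribute [local instance] HasDerivedCategory.standard

noncomputable section

namespace GrothLib.RightAdj22

open GrothLib.OX

variable {X Y : Scheme.{u}}

theorem isQCohD_ltensor (E : CochainComplex X.Modules ℤ) [DCoh.HasLTensorCx E]
    (hE : DCoh.IsQCohD (DerivedCategory.Q.obj E)) {A : DCoh.D X} (hA : DCoh.IsQCohD A) :
    DCoh.IsQCohD ((DCoh.LTensorCx E).obj A) := by
  obtain ⟨P, hP, ⟨eP⟩⟩ := exists_kflat_rep (DerivedCategory.Q.obj E)
  obtain ⟨R, hR, ⟨e⟩⟩ := exists_kflat_rep A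
  haveI := OX.hasLTensorCx P
  obtain ⟨c⟩ := nonempty_ltensorCx_congr_of_iso eP
  obtain ⟨v⟩ := ltensorCx_value P R hR
  have hq : ∀ {B : CochainComplex X.Modules ℤ}, DCoh.IsQCohD (DerivedCategory.Q.obj B) → ∀ i, Coh.IsQCoh (B.homology i) :=
    fun {B} h i => isQCoh_of_iso (hdIso B i) (h i)
  exact fun i => isQCoh_of_iso ((DerivedCategory.homologyFunctor _ i).mapIso
      ((DCoh.LTensorCx E).mapIso e.symm ≪≫ c.symm.app _ ≪≫ v) ≪≫ hdIso _ i).symm
    (isQCoh_homology_tensorCx hR hP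
      (hq fun j => isQCoh_of_iso ((DerivedCategory.homologyFunctor _ j).mapIso e.symm) (hA j))
      (hq fun j => isQCoh_of_iso ((DerivedCategory.homologyFunctor _ j).mapIso eP.symm) (hE j)) i)

theorem isPerfect_pull {P : CochainComplex Y.Modules ℤ} (f : X ⟶ Y) (hP : DCoh.IsKFlat P)
    (hperf : DCoh.IsPerfect (DerivedCategory.Q.obj P)) : DCoh.IsPerfect (DerivedCategory.Q.obj ((pullCxF f).obj P)) := by
  haveI := hasLpull f
  obtain ⟨v⟩ := lpull_value f P hP
  exact isPerfect_of_iso (isPerfect_lpull f hperf) v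

/-- **`a RHom(P, L) = RHom(f^* P, a L)`.** -/
theorem nonempty_adjoint_RHom (f : X ⟶ Y) [QuasiCompact f] [QuasiSeparated f] [DCoh.HasRpush f]
    (hf : DCoh.RpushPreservesQCoh f) {a : DCoh.DQCoh Y ⥤ DCoh.DQCoh X} (adj : DCoh.RpushQ f hf ⊣ a)
    (P : CochainComplex Y.Modules ℤ) (hP : DCoh.IsKFlat P) (hperf : DCoh.IsPerfect (DerivedCategory.Q.obj P))
    [DCoh.HasLTensorCx P] [DCoh.HasRSheafHom P] [DCoh.HasLTensorCx ((pullCxF f).obj P)]
    [DCoh.HasRSheafHom ((pullCxF f).obj P)] (L W : DCoh.DQCoh Y)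
    (e : W.obj ≅ (DCoh.RSheafHom P).obj L.obj) :
    Nonempty ((a.obj W).obj ≅ (DCoh.RSheafHom ((pullCxF f).obj P)).obj (a.obj L).obj) := by
  let P' := (pullCxF f).obj P
  have hP' := isPerfect_pull f hP hperf
  obtain ⟨τ⟩ := nonempty_proj_nat f P hP (isQCohD_of_isPerfect hperf)
  let r := rpushIsoRres f
  let N : DCoh.DQCoh X := ⟨(DCoh.RSheafHom P').obj (a.obj L).obj,
    isQCohD_RSheafHom_of_perfect P' hP' (a.obj L).property⟩
  let T : DCoh.DQCoh X → DCoh.DQCoh X := fun M =>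
    ⟨(DCoh.LTensorCx P').obj M.obj, isQCohD_ltensor P' (isQCohD_of_isPerfect hP') M.property⟩
  let π : ∀ M : DCoh.DQCoh X, (DCoh.LTensorCx P).obj ((DCoh.Rpush f).obj M.obj) ≅ (DCoh.Rpush f).obj (T M).obj :=
    fun M => (DCoh.LTensorCx P).mapIso (r.app _) ≪≫ τ.app M ≪≫ (r.app _).symm
  have hπ : ∀ {M M' : DCoh.DQCoh X} (g : M ⟶ M'),
      (DCoh.LTensorCx P).map ((DCoh.Rpush f).map g.hom) ≫ (π M').hom =
        (π M).hom ≫ (DCoh.Rpush f).map ((DCoh.LTensorCx P').map g.hom) := fun {M M'} g => by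
    have n₁ : (DCoh.LTensorCx P).map ((DCoh.Rpush f).map g.hom) ≫ (DCoh.LTensorCx P).map (r.hom.app M'.obj) =
        (DCoh.LTensorCx P).map (r.hom.app M.obj) ≫ (DCoh.LTensorCx P).map ((RR f).map g.hom) := by
      rw [← Functor.map_comp, ← Functor.map_comp]
      exact congrArg _ (r.hom.naturality g.hom)
    have n₂ : (DCoh.LTensorCx P).map ((RR f).map g.hom) ≫ τ.hom.app M' =
        τ.hom.app M ≫ (RR f).map ((DCoh.LTensorCx P').map g.hom) := τ.hom.naturality g
    have n₃ : (RR f).map ((DCoh.LTensorCx P').map g.hom) ≫ r.inv.app _ =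
        r.inv.app _ ≫ (DCoh.Rpush f).map ((DCoh.LTensorCx P').map g.hom) := r.inv.naturality _
    simp only [π, Iso.trans_hom, Functor.mapIso_hom, Iso.app_hom, Iso.symm_hom, Iso.app_inv, Category.assoc]
    refine (Category.assoc _ _ _).symm.trans ((congrArg (· ≫ _) n₁).trans ((Category.assoc _ _ _).trans
      (congrArg (_ ≫ ·) ((Category.assoc _ _ _).symm.trans ((congrArg (· ≫ _) n₂).trans
        ((Category.assoc _ _ _).trans (congrArg (_ ≫ ·) n₃)))))))
  let h₁ := DCoh.RSheafHomAdj P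
  let h₂ := DCoh.RSheafHomAdj P'
  let full : ∀ {Z : Scheme.{u}} (A B : DCoh.DQCoh Z), (A ⟶ B) ≃ (A.obj ⟶ B.obj) := fun A B =>
    { toFun := fun g => g.hom, invFun := fun g => ObjectProperty.homMk g }
  let E : ∀ M : DCoh.DQCoh X, (M ⟶ a.obj W) ≃ (M ⟶ N) := fun M =>
    (adj.homEquiv M W).symm.trans <| (full _ _).trans <| (e.homToEquiv).trans <|
    (h₁.homEquiv _ _).symm.trans <| ((π M).homFromEquiv).trans <|
    (full ((DCoh.RpushQ f hf).obj (T M)) L).symm.trans <| (adj.homEquiv (T M) L).trans <|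
    (full _ _).trans <| (h₂.homEquiv _ _).trans (full M N).symm
  have hE : ∀ {M M' : DCoh.DQCoh X} (g : M ⟶ M') (x : M' ⟶ a.obj W), E M (g ≫ x) = g ≫ E M' x := fun {M M'} g x => by
    refine ObjectProperty.hom_ext _ ?_
    let Tg : T M ⟶ T M' := ObjectProperty.homMk ((DCoh.LTensorCx P').map g.hom)
    let v := (adj.homEquiv M' W).symm x
    let s := (h₁.homEquiv ((DCoh.Rpush f).obj M'.obj) L.obj).symm (v.hom ≫ e.hom)
    show h₂.homEquiv M.obj _ ((adj.homEquiv (T M) L (ObjectProperty.homMk ((π M).inv ≫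
        (h₁.homEquiv _ _).symm (((adj.homEquiv M W).symm (g ≫ x)).hom ≫ e.hom)))).hom) =
      g.hom ≫ h₂.homEquiv M'.obj _ ((adj.homEquiv (T M') L (ObjectProperty.homMk ((π M').inv ≫ s))).hom)
    rw [adj.homEquiv_naturality_left_symm g x, ← h₂.homEquiv_naturality_left]
    refine congrArg (h₂.homEquiv M.obj _) ?_
    show _ = (Tg ≫ adj.homEquiv (T M') L (ObjectProperty.homMk ((π M').inv ≫ s))).hom
    rw [← adj.homEquiv_naturality_left]
    refine congrArg (fun t => ((adj.homEquiv (T M) L) t).hom) (ObjectProperty.hom_ext _ ?_)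
    show (π M).inv ≫ (h₁.homEquiv _ _).symm (((DCoh.Rpush f).map g.hom ≫ v.hom) ≫ e.hom) =
      (DCoh.Rpush f).map ((DCoh.LTensorCx P').map g.hom) ≫ (π M').inv ≫ s
    rw [Category.assoc, h₁.homEquiv_naturality_left_symm, Iso.inv_comp_eq, ← Category.assoc (π M).hom, ← hπ g,
      Category.assoc, Iso.hom_inv_id_assoc]
  let n : a.obj W ≅ N := Yoneda.fullyFaithful.preimageIso
    (NatIso.ofComponents (fun M => (E M.unop).toIso) (fun {M M'} g => by
      ext x
      exact hE g.unop x))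
  exact ⟨(DCoh.IsQCohD (X := X)).ι.mapIso n⟩

end GrothLib.RightAdj22
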