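import Mathlib.CategoryTheory.Adjunction.Basic
import Mathlib.CategoryTheory.Functor.FullyFaithful
import Mathlib.CategoryTheory.Yoneda

/-! # Comparing two functors through a chain of adjunctions -/

set_option autoImplicit false

open CategoryTheory

universe v₁ v₂ v₃ v₄ v₅ u₁ u₂ u₃ u₄ u₅

namespace GrothLib.RightAdj22

/-- Natural bijections of maps into two functors give an isomorphism. -/
noncomputable def isoOfHomEquiv {C : Type u₁} [Category.{v₁} C] {D : Type u₂} [Category.{v₂} D] (G₁ G₂ : D ⥤ C)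
    (E : ∀ (K : D) (M : C), (M ⟶ G₁.obj K) ≃ (M ⟶ G₂.obj K))
    (hl : ∀ (K : D) {M M' : C} (g : M ⟶ M') (x : M' ⟶ G₁.obj K), E K M (g ≫ x) = g ≫ E K M' x)
    (hr : ∀ {K K' : D} (φ : K ⟶ K') (M : C) (x : M ⟶ G₁.obj K), E K' M (x ≫ G₁.map φ) = E K M x ≫ G₂.map φ) :
    G₁ ≅ G₂ :=
  NatIso.ofComponents
    (fun K =>
      { hom := E K _ (𝟙 _)
        inv := (E K _).symm (𝟙 _)
        hom_inv_id := by
          apply (E K _).injective
          rw [hl, Equiv.apply_symm_apply, Category.comp_id]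
        inv_hom_id := by rw [← hl, Category.comp_id, Equiv.apply_symm_apply] })
    (fun {K K'} φ => by
      show G₁.map φ ≫ E K' _ (𝟙 _) = E K _ (𝟙 _) ≫ G₂.map φ
      rw [← hl, ← hr, Category.comp_id, Category.id_comp])

variable {C : Type u₁} [Category.{v₁} C] {CY : Type u₂} [Category.{v₂} CY] {CX : Type u₃} [Category.{v₃} CX]
  {C' : Type u₄} [Category.{v₄} C'] {D : Type u₅} [Category.{v₅} D]

/-- `R H a = H' ` when `T' = R T L` on the left adjoints. -/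
theorem nonempty_iso_of_chain {ιY : C ⥤ CY} (hY : ιY.FullyFaithful) {ιX : C' ⥤ CX} (hX : ιX.FullyFaithful)
    {L : CY ⥤ CX} {R : CX ⥤ CY} (adjL : L ⊣ R) {T : CX ⥤ CX} {H : CX ⥤ CX} (adjT : T ⊣ H)
    {T' : CY ⥤ CY} {H' : CY ⥤ CY} (adjT' : T' ⊣ H')
    {F : C' ⥤ C} {a : C ⥤ C'} (adjF : F ⊣ a) (r : F ⋙ ιY ≅ ιX ⋙ R)
    {Φ : C ⥤ C'} (e : Φ ⋙ ιX ≅ ιY ⋙ L ⋙ T) (c : ιY ⋙ T' ≅ ιY ⋙ L ⋙ T ⋙ R)
    (S : D ⥤ C) (G₁ G₂ : D ⥤ C) (g₁ : G₁ ⋙ ιY ≅ S ⋙ a ⋙ ιX ⋙ H ⋙ R) (g₂ : G₂ ⋙ ιY ≅ S ⋙ ιY ⋙ H') :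
    Nonempty (S ⋙ a ⋙ ιX ⋙ H ⋙ R ≅ S ⋙ ιY ⋙ H') := by
  let d : ∀ M : C, T'.obj (ιY.obj M) ≅ ιY.obj (F.obj (Φ.obj M)) := fun M =>
    c.app M ≪≫ R.mapIso (e.app M).symm ≪≫ (r.app _).symm
  have hd : ∀ {M M' : C} (g : M ⟶ M'), T'.map (ιY.map g) ≫ (d M').hom = (d M).hom ≫ ιY.map (F.map (Φ.map g)) :=
    fun {M M'} g => by
      have n₁ : T'.map (ιY.map g) ≫ c.hom.app M' = c.hom.app M ≫ R.map (T.map (L.map (ιY.map g))) :=
        c.hom.naturality g
      have n₂ : R.map (T.map (L.map (ιY.map g))) ≫ R.map (e.inv.app M') = R.map (e.inv.app M) ≫ R.map (ιX.map (Φ.map g)) := by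
        rw [← Functor.map_comp, ← Functor.map_comp]
        exact congrArg _ (e.inv.naturality g)
      have n₃ : R.map (ιX.map (Φ.map g)) ≫ r.inv.app (Φ.obj M') = r.inv.app (Φ.obj M) ≫ ιY.map (F.map (Φ.map g)) :=
        r.inv.naturality _
      simp only [d, Iso.trans_hom, Iso.app_hom, Iso.app_inv, Iso.symm_hom, Functor.mapIso_hom, Category.assoc]
      rw [reassoc_of% n₁, reassoc_of% n₂, n₃]
  let E : ∀ (K : D) (M : C), (M ⟶ G₁.obj K) ≃ (M ⟶ G₂.obj K) := fun K M =>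
    hY.homEquiv.trans <| (g₁.app K).homToEquiv.trans <| (adjL.homEquiv _ _).symm.trans <|
    (adjT.homEquiv _ _).symm.trans <| (e.app M).symm.homFromEquiv.trans <| hX.homEquiv.symm.trans <|
    (adjF.homEquiv _ _).symm.trans <| hY.homEquiv.trans <| (d M).symm.homFromEquiv.trans <|
    (adjT'.homEquiv _ _).trans <| (g₂.app K).symm.homToEquiv.trans hY.homEquiv.symm
  have hl : ∀ (K : D) {M M' : C} (g : M ⟶ M') (x : M' ⟶ G₁.obj K), E K M (g ≫ x) = g ≫ E K M' x :=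
    fun K {M M'} g x => by
      apply hY.map_injective
      have n : e.hom.app M ≫ T.map (L.map (ιY.map g)) = ιX.map (Φ.map g) ≫ e.hom.app M' :=
        (e.hom.naturality g).symm
      have hp : ∀ {A B : C'} {Z : C'} (u : A ⟶ B) (v : ιX.obj B ⟶ ιX.obj Z),
          hX.preimage (ιX.map u ≫ v) = u ≫ hX.preimage v := fun u v => hX.map_injective (by simp)
      simp [E, Functor.FullyFaithful.homEquiv, Adjunction.homEquiv_naturality_left_symm, Category.assoc]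
      rw [reassoc_of% n, hp, Adjunction.homEquiv_naturality_left_symm, Functor.map_comp, ← reassoc_of% (hd g),
        Adjunction.homEquiv_naturality_left, Category.assoc]
  have hr : ∀ {K K' : D} (φ : K ⟶ K') (M : C) (x : M ⟶ G₁.obj K), E K' M (x ≫ G₁.map φ) = E K M x ≫ G₂.map φ :=
    fun {K K'} φ M x => by
      apply hY.map_injective
      have n₁ : ιY.map (G₁.map φ) ≫ g₁.hom.app K' = g₁.hom.app K ≫ R.map (H.map (ιX.map (a.map (S.map φ)))) :=
        g₁.hom.naturality φ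
      have n₂ : H'.map (ιY.map (S.map φ)) ≫ g₂.inv.app K' = g₂.inv.app K ≫ ιY.map (G₂.map φ) :=
        g₂.inv.naturality φ
      have hp : ∀ {A : CX} {B Z : C'} (u : ιX.obj B ⟶ A) (v : A ⟶ ιX.obj Z) {W : C'} (w : Z ⟶ W),
          hX.preimage (u ≫ v ≫ ιX.map w) = hX.preimage (u ≫ v) ≫ w := fun u v _ w => hX.map_injective (by simp)
      simp [E, Functor.FullyFaithful.homEquiv, Category.assoc]
      rw [n₁, ← Category.assoc (ιY.map x), Adjunction.homEquiv_naturality_right_symm,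
        Adjunction.homEquiv_naturality_right_symm, hp, Adjunction.homEquiv_naturality_right_symm, Functor.map_comp,
        ← Category.assoc (d M).hom, Adjunction.homEquiv_naturality_right, Category.assoc, n₂]
  exact ⟨g₁.symm ≪≫ Functor.isoWhiskerRight (isoOfHomEquiv G₁ G₂ E hl hr) ιY ≪≫ g₂⟩

end GrothLib.RightAdj22
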