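import Groth.Agent.Lib.RightAdj22.QFun
import Groth.Agent.Lib.OX.Adjunction
import Groth.Agent.Lib.RightAdj22.Represent

/-! # `Rf_* RHom(A, a K) = RHom(Rf_* A, K)` -/

set_option autoImplicit false
set_option maxHeartbeats 1000000
set_option linter.style.haveILetI false
universe u

open CategoryTheory CategoryTheory.Limits AlgebraicGeometry CategoryTheory.Pretriangulated

attribute [local instance] HasDerivedCategory.standard

noncomputable section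

namespace GrothLib.RightAdj22

open GrothLib.OX GrothLib.KSix19

variable {X Y : Scheme.{u}}

/-- **`Rf_* RHom(A, a K) = RHom(Rf_* A, K)`.** -/
theorem nonempty_RR_RSheafHom_natural [AlgebraicGeometry.IsNoetherian Y] (f : X ⟶ Y) [IsProper f]
    (A : CochainComplex X.Modules ℤ) (hA : DCoh.IsPerfect (DerivedCategory.Q.obj A))
    [DCoh.HasLTensorCx A] [DCoh.HasRSheafHom A] :
    ∃ (B : CochainComplex Y.Modules ℤ) (_ : DCoh.HasLTensorCx B) (_ : DCoh.HasRSheafHom B),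
      Nonempty (DerivedCategory.Q.obj B ≅ (RR f).obj (DerivedCategory.Q.obj A)) ∧
      ∀ P : ObjectProperty (DCoh.DQCoh Y), (∀ K, P K → DCoh.IsQCohD ((DCoh.RSheafHom B).obj K.obj)) →
        Nonempty (P.ι ⋙ aQ f ⋙ ObjectProperty.ι _ ⋙ DCoh.RSheafHom A ⋙ RR f ≅
          P.ι ⋙ ObjectProperty.ι _ ⋙ DCoh.RSheafHom B) := by
  haveI : CompactSpace X := QuasiCompact.compactSpace_of_compactSpace f
  haveI : QuasiSeparatedSpace X := quasiSeparatedSpace_of_quasiSeparated f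
  haveI : DCoh.HasRpush f := KInj.hasRightDerivedFunctor _
  haveI := hasLpull f
  let r := rpushIsoRres f
  obtain ⟨A', α, hα, hA₁, hA₂⟩ := KInj.exists_kInjective_resolution _ A
  let eA : DerivedCategory.Q.obj A' ≅ DerivedCategory.Q.obj A := (asIso (DerivedCategory.Q.map α)).symm
  haveI := hasLTensorCx A'
  haveI := hasRSheafHom A'
  obtain ⟨cA⟩ := nonempty_RSheafHom_congr eA
  have hA'q : DCoh.IsQCohD (DerivedCategory.Q.obj A') :=
    BettiExact.isQCohD_of_iso' eA.symm (isQCohD_of_isPerfect hA)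
  let B := (pushCxF f).obj A'
  haveI := hasLTensorCx B
  haveI := hasRSheafHom B
  obtain ⟨τ⟩ := BettiExact.nonempty_proj_iso f A' ⟨hA₂, hA₁⟩ hA'q
  obtain ⟨T⟩ := BettiExact.nonempty_iso_of_kflat (DCoh.LTensorCx B) (DCoh.Lpull f ⋙ DCoh.LTensorCx A' ⋙ DCoh.Rpush f) τ
  let O : DCoh.DQCoh Y := ⟨DerivedCategory.Q.obj (unitCx Y),
    BettiExact.isQCohD_of_iso' (unitCxQIso Y).symm (isQCohD_of_isPerfect (isPerfect_unit Y))⟩
  obtain ⟨l⟩ := Detect22.nonempty_lpull_unit f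
  obtain ⟨t⟩ := Detect22.nonempty_ltensor_unit A'
  obtain ⟨t'⟩ := Detect22.nonempty_ltensor_unit B
  let eB : DerivedCategory.Q.obj B ≅ (RR f).obj (DerivedCategory.Q.obj A) :=
    t' ≪≫ T.app O ≪≫ r.app _ ≪≫ (RR f).mapIso ((DCoh.LTensorCx A').mapIso l ≪≫ t.symm ≪≫ eA)
  refine ⟨B, inferInstance, inferInstance, ⟨eB⟩, fun P hP => ?_⟩
  obtain ⟨ladj₀⟩ := nonempty_lpullAdj f
  let ladj := ladj₀.ofNatIsoRight r
  let G₁ : P.FullSubcategory ⥤ DCoh.DQCoh Y := ObjectProperty.lift DCoh.IsQCohD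
    (P.ι ⋙ aQ f ⋙ ObjectProperty.ι _ ⋙ DCoh.RSheafHom A' ⋙ RR f)
    (fun K => isQCohD_Rres f _ (isQCohD_RSheafHom_of_perfect A' (isPerfect_of_iso hA eA.symm)
      ((aQ f).obj K.obj).property))
  let G₂ : P.FullSubcategory ⥤ DCoh.DQCoh Y := ObjectProperty.lift DCoh.IsQCohD
    (P.ι ⋙ ObjectProperty.ι _ ⋙ DCoh.RSheafHom B) (fun K => hP K.obj K.property)
  let Φ : DCoh.DQCoh Y ⥤ DCoh.DQCoh X := ObjectProperty.lift DCoh.IsQCohD
    (ObjectProperty.ι _ ⋙ DCoh.Lpull f ⋙ DCoh.LTensorCx A')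
    (fun M => isQCohD_ltensor A' hA'q (SuppTens22.isQCohD_lpull f M.property))
  obtain ⟨n⟩ := nonempty_iso_of_chain (DCoh.IsQCohD (X := Y)).fullyFaithfulι (DCoh.IsQCohD (X := X)).fullyFaithfulι
    ladj (DCoh.RSheafHomAdj A') (DCoh.RSheafHomAdj B) (aQAdj f) (Iso.refl _) (Φ := Φ) (Iso.refl _)
    (T ≪≫ Functor.isoWhiskerLeft (ObjectProperty.ι _ ⋙ DCoh.Lpull f ⋙ DCoh.LTensorCx A') r)
    P.ι G₁ G₂ (Iso.refl _) (Iso.refl _)
  exact ⟨Functor.isoWhiskerLeft (P.ι ⋙ aQ f ⋙ ObjectProperty.ι _) (Functor.isoWhiskerRight cA.symm (RR f)) ≪≫ n⟩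

/-- The objectwise form. -/
theorem nonempty_RR_RSheafHom [AlgebraicGeometry.IsNoetherian Y] (f : X ⟶ Y) [IsProper f]
    (A : CochainComplex X.Modules ℤ) (hA : DCoh.IsPerfect (DerivedCategory.Q.obj A))
    [DCoh.HasLTensorCx A] [DCoh.HasRSheafHom A] :
    ∃ (B : CochainComplex Y.Modules ℤ) (_ : DCoh.HasLTensorCx B) (_ : DCoh.HasRSheafHom B),
      Nonempty (DerivedCategory.Q.obj B ≅ (RR f).obj (DerivedCategory.Q.obj A)) ∧
      ∀ K : DCoh.DQCoh Y, DCoh.IsQCohD ((DCoh.RSheafHom B).obj K.obj) →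
        Nonempty ((RR f).obj ((DCoh.RSheafHom A).obj ((aQ f).obj K).obj) ≅ (DCoh.RSheafHom B).obj K.obj) := by
  obtain ⟨B, i₁, i₂, eB, h⟩ := nonempty_RR_RSheafHom_natural f A hA
  refine ⟨B, i₁, i₂, eB, fun K hK => ?_⟩
  obtain ⟨e⟩ := h (fun L => DCoh.IsQCohD ((DCoh.RSheafHom B).obj L.obj)) fun L hL => hL
  exact ⟨e.app ⟨K, hK⟩⟩

end GrothLib.RightAdj22
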