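import Groth.Agent.Lib.SiteDer.PushCoh

/-! # Cohomology of derived direct images of modules, naturally -/

set_option autoImplicit false
set_option backward.isDefEq.respectTransparency false
universe u

open CategoryTheory CategoryTheory.Limits Opposite

namespace GrothLib.RightAdj22

open GrothLib.SiteDer

attribute [local instance] HasDerivedCategory.standard

variable {C : Type u} [SmallCategory C] {J : GrothendieckTopology C}
  {O_C : Sheaf J CommRingCat.{u}} {D : Type u} [SmallCategory D] {K : GrothendieckTopology D}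
  {O_D : Sheaf K CommRingCat.{u}}

noncomputable section

/-- Naturality of the comparison of an extended resolution with the derived functor. -/
theorem rightDerivedExtendIso_naturality {A B : Type*} [Category A] [Category B] [Abelian A] [Abelian B]
    [HasInjectiveResolutions A] (F : A ⥤ B) [F.Additive] {X Y : A} (R : InjectiveResolution X)
    (R' : InjectiveResolution Y) (g : X ⟶ Y) (φ : InjectiveResolution.Hom R R' g) (p : ℕ) :
    (HomologicalComplex.homologyMap ((F.mapHomologicalComplex (ComplexShape.up ℤ)).map φ.hom') (p : ℤ)) ≫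
        (DerTrunc.rightDerivedExtendIso F R' p).hom =
      (DerTrunc.rightDerivedExtendIso F R p).hom ≫ (F.rightDerived p).map g := by
  have h1 : (F.mapHomologicalComplex (ComplexShape.up ℤ)).map φ.hom' ≫ (DerTrunc.mapExtendIso F R'.cocomplex).hom =
      (DerTrunc.mapExtendIso F R.cocomplex).hom ≫
        HomologicalComplex.extendMap ((F.mapHomologicalComplex (ComplexShape.up ℕ)).map φ.hom)
          ComplexShape.embeddingUpNat := by
    ext n
    by_cases hn : 0 ≤ n
    · simp only [HomologicalComplex.comp_f, DerTrunc.mapExtendIso, HomologicalComplex.Hom.isoOfComponents_hom_f,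
        dif_pos hn]
      rw [HomologicalComplex.extendMap_f _ ComplexShape.embeddingUpNat (i := n.toNat) (by simp; omega)]
      simp [InjectiveResolution.Hom.hom'_f φ n n.toNat (by omega), InjectiveResolution.cochainComplexXIso]
    · exact (F.map_isZero (R.cocomplex.isZero_extend_X _ n (fun k hk => by simp at hk; omega))).eq_of_src _ _
  have h2 : (F.rightDerived p).map g ≫ (R'.isoRightDerivedObj F p).hom =
      (R.isoRightDerivedObj F p).hom ≫ HomologicalComplex.homologyMap
        ((F.mapHomologicalComplex (ComplexShape.up ℕ)).map φ.hom) p :=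
    InjectiveResolution.isoRightDerivedObj_hom_naturality g R R' φ.hom (by simp) F p
  have h2' : HomologicalComplex.homologyMap ((F.mapHomologicalComplex (ComplexShape.up ℕ)).map φ.hom) p ≫
      (R'.isoRightDerivedObj F p).inv = (R.isoRightDerivedObj F p).inv ≫ (F.rightDerived p).map g := by
    rw [Iso.eq_inv_comp, ← Category.assoc, ← h2, Category.assoc, Iso.hom_inv_id, Category.comp_id]
  simp only [DerTrunc.rightDerivedExtendIso, Iso.trans_hom, Functor.mapIso_hom, Iso.symm_hom,
    HomologicalComplex.homologyFunctor_map]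
  rw [← HomologicalComplex.homologyMap_comp_assoc, h1, HomologicalComplex.homologyMap_comp_assoc,
    HomologicalComplex.extendHomologyIso_hom_naturality_assoc, h2']
  simp

variable (f : ModSite.RMor O_C O_D)

/-- The cohomology of `Rf_*` of modules is `R^p f_*`, naturally. -/
theorem nonempty_homology_Rres_single_natural [HasInjectiveResolutions (ModSite.Mod O_C)] (p : ℕ) :
    Nonempty (DerivedCategory.singleFunctor (ModSite.Mod O_C) 0 ⋙ Rres f ⋙
      DerivedCategory.homologyFunctor (ModSite.Mod O_D) (p : ℤ) ≅ f.Rpush p) := by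
  let R := fun M : ModSite.Mod O_C => InjectiveResolution.of M
  let I := fun M => (HomotopyCategory.quotient (ModSite.Mod O_C) (ComplexShape.up ℤ)).obj (R M).cochainComplex
  haveI : ∀ M, IsIso ((KInj.resAdj (ModSite.Mod O_C)).unit.app (I M)) := fun M =>
    KInj.isIso_unit_of_rightOrthogonal (CochainComplex.IsKInjective.rightOrthogonal (R M).cochainComplex)
  haveI : ∀ M, IsIso (DerivedCategory.Q.map (R M).ι') := fun M => by
    rw [DerivedCategory.isIso_Q_map_iff_quasiIso]; infer_instance
  let e : ∀ M, (DerivedCategory.singleFunctor (ModSite.Mod O_C) 0).obj M ≅ DerivedCategory.Qh.obj (I M) := fun M =>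
    asIso (DerivedCategory.Q.map (R M).ι') ≪≫ ((DerivedCategory.quotientCompQhIso _).app (R M).cochainComplex).symm
  let Kf := fun M => (f.push.mapHomologicalComplex (ComplexShape.up ℤ)).obj (R M).cochainComplex
  refine ⟨NatIso.ofComponents (fun M => (DerivedCategory.homologyFunctor _ (p : ℤ)).mapIso ((Rres f).mapIso (e M) ≪≫
      (SiteCmp.pushKh f).mapIso (asIso ((KInj.resAdj _).unit.app (I M))).symm ≪≫
      (DerivedCategory.quotientCompQhIso _).app (Kf M)) ≪≫
    (DerivedCategory.homologyFunctorFactors _ (p : ℤ)).app (Kf M) ≪≫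
    DerTrunc.rightDerivedExtendIso f.push (R M) p) fun {M N} g => ?_⟩
  let ψ := InjectiveResolution.desc g (R N) (R M)
  let φ : InjectiveResolution.Hom (R M) (R N) g :=
    ⟨ψ, (InjectiveResolution.desc_commutes_zero g (R N) (R M)).trans (by simp)⟩
  let qφ := (HomotopyCategory.quotient (ModSite.Mod O_C) (ComplexShape.up ℤ)).map φ.hom'
  let Kφ := (f.push.mapHomologicalComplex (ComplexShape.up ℤ)).map φ.hom'
  have he : (DerivedCategory.singleFunctor (ModSite.Mod O_C) 0).map g ≫ (e N).hom =
      (e M).hom ≫ DerivedCategory.Qh.map qφ := by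
    have h0 := congrArg DerivedCategory.Q.map (InjectiveResolution.Hom.ι'_comp_hom' φ)
    simp only [Functor.map_comp] at h0
    have hn := (DerivedCategory.quotientCompQhIso (ModSite.Mod O_C)).inv.naturality φ.hom'
    simp only [e, Iso.trans_hom, asIso_hom, Iso.symm_hom, Iso.app_inv, Category.assoc]
    refine ((Category.assoc _ _ _).symm.trans (congrArg (· ≫ _) h0.symm)).trans ?_
    rw [Category.assoc]
    exact congrArg (DerivedCategory.Q.map (R M).ι' ≫ ·) hn
  have hu : (SiteCmp.pushKh f).map ((KInj.res _).map (DerivedCategory.Qh.map qφ)) ≫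
      (SiteCmp.pushKh f).map (inv ((KInj.resAdj _).unit.app (I N))) =
      (SiteCmp.pushKh f).map (inv ((KInj.resAdj _).unit.app (I M))) ≫ (SiteCmp.pushKh f).map qφ := by
    rw [← Functor.map_comp, ← Functor.map_comp]
    refine congrArg _ ?_
    rw [IsIso.comp_inv_eq, Category.assoc, IsIso.eq_inv_comp]
    exact ((KInj.resAdj _).unit.naturality qφ).symm
  have hq : (SiteCmp.pushKh f).map qφ ≫ (DerivedCategory.quotientCompQhIso _).hom.app (Kf N) =
      (DerivedCategory.quotientCompQhIso _).hom.app (Kf M) ≫ DerivedCategory.Q.map Kφ :=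
    (DerivedCategory.quotientCompQhIso (ModSite.Mod O_D)).hom.naturality Kφ
  have hF := (DerivedCategory.homologyFunctorFactors (ModSite.Mod O_D) (p : ℤ)).hom.naturality Kφ
  have hR := rightDerivedExtendIso_naturality f.push (R M) (R N) g φ p
  have h3 : (Rres f).map ((DerivedCategory.singleFunctor _ 0).map g) ≫ (Rres f).map (e N).hom ≫
      (SiteCmp.pushKh f).map (inv ((KInj.resAdj _).unit.app (I N))) ≫
        (DerivedCategory.quotientCompQhIso _).hom.app (Kf N) =
      ((Rres f).map (e M).hom ≫ (SiteCmp.pushKh f).map (inv ((KInj.resAdj _).unit.app (I M))) ≫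
        (DerivedCategory.quotientCompQhIso _).hom.app (Kf M)) ≫ DerivedCategory.Q.map Kφ := by
    rw [← Functor.map_comp_assoc, he, Functor.map_comp, Category.assoc, Category.assoc, Category.assoc]
    refine congrArg ((Rres f).map (e M).hom ≫ ·) ?_
    refine ((reassoc_of% hu) _).trans ?_
    exact congrArg (_ ≫ ·) hq
  let H := DerivedCategory.homologyFunctor (ModSite.Mod O_D) (p : ℤ)
  show H.map ((Rres f).map ((DerivedCategory.singleFunctor _ 0).map g)) ≫
      (H.map ((Rres f).map (e N).hom ≫ (SiteCmp.pushKh f).map (inv ((KInj.resAdj _).unit.app (I N))) ≫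
        (DerivedCategory.quotientCompQhIso _).hom.app (Kf N)) ≫
      (DerivedCategory.homologyFunctorFactors _ (p : ℤ)).hom.app (Kf N) ≫
        (DerTrunc.rightDerivedExtendIso f.push (R N) p).hom) =
    (H.map ((Rres f).map (e M).hom ≫ (SiteCmp.pushKh f).map (inv ((KInj.resAdj _).unit.app (I M))) ≫
        (DerivedCategory.quotientCompQhIso _).hom.app (Kf M)) ≫
      (DerivedCategory.homologyFunctorFactors _ (p : ℤ)).hom.app (Kf M) ≫
        (DerTrunc.rightDerivedExtendIso f.push (R M) p).hom) ≫ (f.push.rightDerived p).map g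
  refine ((Category.assoc _ _ _).symm.trans (congrArg (· ≫ _) (((H.map_comp _ _).symm.trans
    (congrArg (fun t => H.map t) h3)).trans (H.map_comp _ _)))).trans ?_
  simp only [Category.assoc]
  refine congrArg (_ ≫ ·) ?_
  refine ((reassoc_of% hF) _).trans ?_
  exact congrArg (_ ≫ ·) hR

end

end GrothLib.RightAdj22
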