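import Groth.Agent.Lib.RightAdj22.GlobalHH
import Groth.Agent.Lib.RightAdj22.NatH
import Groth.Agent.Lib.RightAdj22.QFun
import Groth.Agent.Lib.DerCat.Theta
import Groth.Agent.Lib.KSix19.RpushAmp.Main

/-! # The bottom cohomology sheaf of `a W` represents the dual of the top cohomology -/

set_option autoImplicit false
set_option backward.isDefEq.respectTransparency false
set_option linter.style.haveILetI false
set_option maxHeartbeats 1000000
universe u w₁ v₁

open CategoryTheory CategoryTheory.Limits AlgebraicGeometry CategoryTheory.Pretriangulated Opposite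
open DerivedCategory (TStructure.t)
attribute [local instance] HasDerivedCategory.standard

noncomputable section

namespace GrothLib.RightAdj22

open GrothLib.OX

theorem isoHomBij {D : Type w₁} [Category.{v₁} D] {a b c : D} (x : a ⟶ b) [IsIso x] :
    Function.Bijective fun y : b ⟶ c => x ≫ y :=
  ⟨fun y y' h => (cancel_epi x).1 h, fun z => ⟨inv x ≫ z, by simp⟩⟩

/-- Maps from objects `≤ w` to objects `≥ w` are maps of cohomology in degree `w`. -/
theorem bijective_map_homology_of_le_ge {C : Type (u + 1)} [Category.{u} C] [Abelian C] (w : ℤ)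
    (K L : DerivedCategory C) [K.IsLE w] [L.IsGE w] :
    Function.Bijective fun φ : K ⟶ L => (DerivedCategory.homologyFunctor C w).map φ := by
  let t := DerivedCategory.TStructure.t (C := C)
  let T := (t.truncGE w).obj K
  let π : K ⟶ T := (t.truncGEπ w).app K
  haveI : T.IsGE w := inferInstanceAs (t.IsGE ((t.truncGE w).obj K) w)
  haveI : T.IsLE w := inferInstanceAs (t.IsLE ((t.truncGE w).obj K) w)
  haveI := DerTrunc.isIso_homology_truncGEπ K w w le_rfl
  let U := (t.truncLT w).obj K
  haveI hU : U.IsLE (w - 1) := t.isLE_truncLT_obj K w (w - 1) (by omega)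
  have hT := t.triangleLTGE_distinguished w K
  have hπ : Function.Bijective fun g : T ⟶ L => π ≫ g := by
    refine ⟨fun g g' h => sub_eq_zero.1 ?_, fun φ => ?_⟩
    · obtain ⟨g'', hg''⟩ := Triangle.yoneda_exact₃ _ hT (g - g')
        (show π ≫ (g - g') = 0 by rw [Preadditive.comp_sub]; exact sub_eq_zero.2 h)
      have h2 : t.IsLE (U⟦(1 : ℤ)⟧) (w - 2) := t.isLE_shift U (w - 1) 1 (w - 2) (by omega)
      rw [hg'', t.zero_of_isLE_of_isGE g'' (w - 2) w (by omega) h2 inferInstance]
      exact comp_zero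
    · obtain ⟨g, hg⟩ := Triangle.yoneda_exact₂ _ hT φ
        (t.zero_of_isLE_of_isGE _ (w - 1) w (by omega) inferInstance inferInstance)
      exact ⟨g, hg.symm⟩
  obtain ⟨e⟩ := DerTrunc.nonempty_iso_single T w
  let H := DerivedCategory.homologyFunctor C w
  have h1 : Function.Bijective fun g : T ⟶ L => H.map g := by
    have hth := DerTheta.thetaBij_of_isGE (H.obj T) w L
    let c := (DerivedCategory.singleFunctorCompHomologyFunctorIso C w).inv.app (H.obj T) ≫ H.map e.inv
    have he : (fun g : T ⟶ L => H.map g) = (fun y => inv c ≫ y) ∘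
        (fun φ : (DerivedCategory.singleFunctor C w).obj (H.obj T) ⟶ L => SiteDer.theta φ) ∘
        (fun g => e.inv ≫ g) := by
      funext g
      simp only [Function.comp_apply, SiteDer.theta, Functor.map_comp]
      rw [IsIso.eq_inv_comp]
      exact Category.assoc _ _ _
    rw [he]
    exact (isoHomBij (inv c)).comp (hth.comp (isoHomBij e.inv))
  have he : (fun φ : K ⟶ L => H.map φ) ∘ (fun g : T ⟶ L => π ≫ g) = (fun y => H.map π ≫ y) ∘ fun g => H.map g :=
    funext fun g => H.map_comp π g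
  exact (Function.Bijective.of_comp_iff _ hπ).1 (he ▸ (isoHomBij (H.map π)).comp h1)

/-- Global sections detect maps out of quasi-coherent modules on affine schemes. -/
theorem bijective_gamma_map {A : CommRingCat.{u}} (G N : (Spec A).Modules) [G.IsQuasicoherent] :
    Function.Bijective fun g : G ⟶ N => (moduleSpecΓFunctor (R := A)).map g := by
  haveI : IsIso (tilde.adjunction.counit.app G) :=
    Scheme.Modules.isIso_fromTildeΓ_of_isQuasicoherent (R := A) G
  have he : (fun g : G ⟶ N => (moduleSpecΓFunctor (R := A)).map g) =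
      (tilde.adjunction.homEquiv _ N) ∘ fun g => tilde.adjunction.counit.app G ≫ g := by
    funext g
    simp only [Function.comp_apply, Adjunction.homEquiv_unit, Functor.map_comp]
    rw [← Category.assoc, tilde.adjunction.right_triangle_components]
    simp
  rw [he]
  exact (Equiv.bijective _).comp
    ⟨fun y y' h => (cancel_epi _).1 h, fun z => ⟨inv (tilde.adjunction.counit.app G) ≫ z, by simp⟩⟩

variable {A : Type u} [CommRing A] {X : Scheme.{u}} (f : X ⟶ Spec (CommRingCat.of A))

/-- The cohomology of `Rf_*` of shifted modules, naturally. -/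
theorem nonempty_homology_RR_single (d : ℕ) (w : ℤ) :
    Nonempty (DerivedCategory.singleFunctor X.Modules (w - d) ⋙ RR f ⋙
      DerivedCategory.homologyFunctor _ w ≅ Coh.Rpush f d) := by
  haveI := RpushSupp20.hasInjectiveResolutions X
  obtain ⟨n⟩ := nonempty_homology_Rres_single_natural (rmor f) d
  let s := SingleFunctors.shiftIso (DerivedCategory.singleFunctors X.Modules) ((d : ℤ) - w) (w - d) 0 (by omega)
  let H := DerivedCategory.homologyFunctor (Spec (CommRingCat.of A)).Modules w
  let H0 := DerivedCategory.homologyFunctor (Spec (CommRingCat.of A)).Modules 0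
  refine ⟨Functor.isoWhiskerRight s.symm (RR f ⋙ H) ≪≫
    Functor.isoWhiskerLeft (DerivedCategory.singleFunctor X.Modules 0)
      (Functor.isoWhiskerRight ((RR f).commShiftIso ((d : ℤ) - w)) H ≪≫
       Functor.isoWhiskerLeft (RR f) (H0.shiftIso ((d : ℤ) - w) w d (by omega))) ≪≫ n⟩

variable [IsProper f] [DCoh.HasRpush f]

/-- `a W` is bounded below by the fibre dimension. -/
theorem isGE_adjoint (hf : DCoh.RpushPreservesQCoh f)
    {a : DCoh.DQCoh (Spec (CommRingCat.of A)) ⥤ DCoh.DQCoh X} (adj : DCoh.RpushQ f hf ⊣ a)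
    (W : DCoh.DQCoh (Spec (CommRingCat.of A))) (w : ℤ) [W.obj.IsGE w] (d : ℕ)
    (hd : ∀ M : X.Modules, M.IsQuasicoherent → ∀ q : ℕ, d < q → IsZero ((Coh.Rpush f q).obj M)) :
    (a.obj W).obj.IsGE (w - d) := by
  haveI := RpushSupp20.hasInjectiveResolutions X
  haveI : CompactSpace X := QuasiCompact.compactSpace_of_compactSpace f
  haveI : QuasiSeparatedSpace X := quasiSeparatedSpace_of_quasiSeparated f
  obtain ⟨N, hN⟩ := Groth.Agent.S1767.result X _ f hf a adj
  haveI : (a.obj W).obj.IsGE (w - N) := (DerivedCategory.isGE_iff _ _).2 fun i hi =>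
    hN W (w - 1) (fun k hk => DerivedCategory.isZero_of_isGE W.obj w k (by omega)) i (by omega)
  let t := DerivedCategory.TStructure.t (C := X.Modules)
  let E := (a.obj W).obj
  let K := (t.truncLT (w - d)).obj E
  let ι : K ⟶ E := (t.truncLTι (w - d)).app E
  haveI : K.IsGE (w - N) := inferInstanceAs (t.IsGE ((t.truncLT (w - d)).obj E) (w - N))
  haveI : K.IsLE (w - d - 1) := t.isLE_truncLT_obj E (w - d) (w - d - 1) (by omega)
  have hK : DCoh.IsQCohD K := OX.isQCohD_truncLT (a.obj W).property (w - d)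
  have hz : ∀ φ : K ⟶ E, φ = 0 := fun φ => by
    let K' : DCoh.DQCoh X := ⟨K, hK⟩
    haveI : ((RR f).obj K).IsLE (w - 1) := (DerivedCategory.isLE_iff _ _).2 fun j hj =>
      KSix19.RpushAmp.isZero_Rres_of_mod' f (d : ℤ) (fun M hM i hi => by
        obtain ⟨q, rfl⟩ : ∃ q : ℕ, i = q := ⟨i.toNat, by omega⟩
        exact (hd M hM q (by omega)).of_iso (SiteDer.nonempty_homology_Rres_single (rmor f) M q).some)
        K (w - N) (w - d - 1) hK j (by omega)
    have hle : ((DCoh.Rpush f).obj K).IsLE (w - 1) :=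
      DerivedCategory.TStructure.t.isLE_of_iso ((rpushIsoRres f).app K).symm _
    have h1 : (adj.homEquiv K' W).symm (ObjectProperty.homMk φ) = (adj.homEquiv K' W).symm 0 :=
      ObjectProperty.hom_ext _ ((DerivedCategory.TStructure.t.zero_of_isLE_of_isGE _ (w - 1) w (by omega)
        hle inferInstance).trans (DerivedCategory.TStructure.t.zero_of_isLE_of_isGE _ (w - 1) w (by omega)
        hle inferInstance).symm)
    exact congrArg (fun g : K' ⟶ a.obj W => g.hom) ((adj.homEquiv K' W).symm.injective h1)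
  refine (DerivedCategory.isGE_iff _ _).2 fun i hi => ?_
  haveI := DerTrunc.isIso_homology_truncLTι E (w - d) i hi
  refine (IsZero.iff_id_eq_zero _).2 ?_
  rw [← cancel_epi ((DerivedCategory.homologyFunctor X.Modules i).map ι), Category.comp_id, comp_zero]
  show (DerivedCategory.homologyFunctor X.Modules i).map ι = 0
  rw [hz ι, Functor.map_zero]

/-- **The representing pair.** -/
theorem exists_topPair (hf : DCoh.RpushPreservesQCoh f)
    {a : DCoh.DQCoh (Spec (CommRingCat.of A)) ⥤ DCoh.DQCoh X} (adj : DCoh.RpushQ f hf ⊣ a)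
    (W : DCoh.DQCoh (Spec (CommRingCat.of A))) (w : ℤ) [W.obj.IsGE w] (d : ℕ)
    (hd : ∀ M : X.Modules, M.IsQuasicoherent → ∀ q : ℕ, d < q → IsZero ((Coh.Rpush f q).obj M))
    (N : ModuleCat.{u} A)
    (v : (moduleSpecΓFunctor (R := CommRingCat.of A)).obj (DCoh.HD W.obj w) ≅ N) :
    letI := BCCoh.modHH f (DCoh.HD (a.obj W).obj (w - d)) d
    ∃ t : Coh.HH X (DCoh.HD (a.obj W).obj (w - d)) d →ₗ[A] N, ∀ F : X.Modules, F.IsQuasicoherent →
      letI := BCCoh.modHH f F d
      ∀ ψ : Coh.HH X F d →ₗ[A] N, ∃! φ : F ⟶ DCoh.HD (a.obj W).obj (w - d),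
        ∀ x, ψ x = t (Sheaf.H.map ((SheafOfModules.toSheaf X.ringCatSheaf).map φ) d x) := by
  haveI := RpushSupp20.hasInjectiveResolutions X
  haveI : CompactSpace X := QuasiCompact.compactSpace_of_compactSpace f
  haveI : (a.obj W).obj.IsGE (w - d) := isGE_adjoint f hf adj W w d hd
  let ω := DCoh.HD (a.obj W).obj (w - d)
  have hω : ω.IsQuasicoherent := (a.obj W).property (w - d)
  obtain ⟨e, he, hen⟩ := exists_HH_Rpush f d
  obtain ⟨n⟩ := nonempty_homology_RR_single f d w
  let S := DerivedCategory.singleFunctor X.Modules (w - d)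
  let H := DerivedCategory.homologyFunctor (Spec (CommRingCat.of A)).Modules w
  let R := rpushIsoRres f
  have hS : ∀ M : X.Modules, M.IsQuasicoherent → DCoh.IsQCohD (S.obj M) := fun M hM =>
    KSix19.BettiExact.isQCohD_of_iso' (((DerivedCategory.singleFunctors X.Modules).shiftIso (-(w - d)) (w - d) 0 (by omega)).app M)
      (isQCohD_shift (KSix19.RpushAmp.isQCohD_inD M hM) _)
  let SQ : ∀ M : X.Modules, M.IsQuasicoherent → DCoh.DQCoh X := fun M hM => ⟨S.obj M, hS M hM⟩
  haveI hLE : ∀ M : X.Modules, M.IsQuasicoherent → ((RR f).obj (S.obj M)).IsLE w := fun M hM =>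
    (DerivedCategory.isLE_iff _ _).2 fun j hj => SiteDer.isZero_homology_Rres_single (rmor f) (N := d) M
      (fun q hq => hd M hM q (by omega)) j (w - d) (by omega)
  have hth := DerTheta.thetaBij_of_isGE (A := X.Modules)
  obtain ⟨τ, hτ⟩ := (hth ω (w - d) (a.obj W).obj).2 (𝟙 ω)
  -- the trace in the derived category
  let T : (RR f).obj (S.obj ω) ⟶ W.obj :=
    R.inv.app _ ≫ ((adj.homEquiv (SQ ω hω) W).symm (ObjectProperty.homMk τ)).hom
  let τ0 : (Coh.Rpush f d).obj ω ⟶ DCoh.HD W.obj w := n.inv.app ω ≫ H.map T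
  let Γ' := moduleSpecΓFunctor (R := CommRingCat.of A)
  let E : ∀ (M : X.Modules) (hM : M.IsQuasicoherent), letI := BCCoh.modHH f M d
      Coh.HH X M d ≃ₗ[A] (Γ'.obj ((Coh.Rpush f d).obj M) : ModuleCat.{u} A) := fun M hM =>
    letI := BCCoh.modHH f M d
    { e M hM with map_smul' := fun r x => he M hM r x }
  letI := BCCoh.modHH f ω d
  refine ⟨(Γ'.map τ0 ≫ v.hom).hom ∘ₗ (E ω hω).toLinearMap, fun F hF => ?_⟩
  letI := BCCoh.modHH f F d
  let Φ : (F ⟶ ω) → (Coh.HH X F d →ₗ[A] N) := fun φ =>
    (Γ'.map ((Coh.Rpush f d).map φ ≫ τ0) ≫ v.hom).hom ∘ₗ (E F hF).toLinearMap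
  have hΦ : ∀ φ x, Φ φ x =
      ((Γ'.map τ0 ≫ v.hom).hom ∘ₗ (E ω hω).toLinearMap)
        (Sheaf.H.map ((SheafOfModules.toSheaf X.ringCatSheaf).map φ) d x) := fun φ x => by
    show (Γ'.map ((Coh.Rpush f d).map φ ≫ τ0) ≫ v.hom).hom (e F hF x) =
      (Γ'.map τ0 ≫ v.hom).hom (e ω hω _)
    rw [hen φ hF hω x, Functor.map_comp]
    rfl
  have hb1 : Function.Bijective fun φ : F ⟶ ω => (Coh.Rpush f d).map φ ≫ τ0 := by
    let K := SQ F hF
    have h1 : Function.Bijective fun φ : F ⟶ ω => S.map φ ≫ τ := by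
      have : (fun x : S.obj F ⟶ (a.obj W).obj => SiteDer.theta x) ∘ (fun φ : F ⟶ ω => S.map φ ≫ τ) = id := by
        funext φ
        show SiteDer.theta (S.map φ ≫ τ) = φ
        have hn := (DerivedCategory.singleFunctorCompHomologyFunctorIso X.Modules (w - d)).inv.naturality φ
        simp only [SiteDer.theta] at hτ ⊢
        rw [Functor.map_comp]
        refine ((Category.assoc _ _ _).symm.trans ((congrArg (· ≫ _) hn.symm).trans
          ((Category.assoc _ _ _).trans ?_)))
        rw [hτ]
        exact Category.comp_id φ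
      exact (Function.Bijective.of_comp_iff' (hth F (w - d) _) _).1 (this ▸ Function.bijective_id)
    have h2 : Function.Bijective fun z : S.obj F ⟶ (a.obj W).obj =>
        H.map (R.inv.app _ ≫ ((adj.homEquiv K W).symm (ObjectProperty.homMk z)).hom) := by
      haveI := hLE F hF
      refine (bijective_map_homology_of_le_ge w ((RR f).obj (S.obj F)) W.obj).comp ?_
      refine (show Function.Bijective fun y : (DCoh.Rpush f).obj (S.obj F) ⟶ W.obj => R.inv.app _ ≫ y from
        ⟨fun y y' h => (cancel_epi _).1 h, fun y => ⟨R.hom.app _ ≫ y, by simp⟩⟩).comp ?_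
      have hh : Function.Bijective fun g : (DCoh.RpushQ f hf).obj K ⟶ W => g.hom :=
        ⟨fun g g' h => ObjectProperty.hom_ext _ h, fun g => ⟨ObjectProperty.homMk g, rfl⟩⟩
      exact hh.comp ((adj.homEquiv K W).symm.bijective.comp
        ⟨fun z z' h => congrArg (fun g : K ⟶ a.obj W => g.hom) h, fun g => ⟨g.hom, rfl⟩⟩)
    have he' : (fun φ : F ⟶ ω => (Coh.Rpush f d).map φ ≫ τ0) = (fun y => n.inv.app F ≫ y) ∘
        (fun z : S.obj F ⟶ (a.obj W).obj =>
          H.map (R.inv.app _ ≫ ((adj.homEquiv K W).symm (ObjectProperty.homMk z)).hom)) ∘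
        fun φ => S.map φ ≫ τ := by
      funext φ
      show (Coh.Rpush f d).map φ ≫ n.inv.app ω ≫ H.map T = n.inv.app F ≫ H.map _
      refine ((Category.assoc _ _ _).symm.trans ((congrArg (· ≫ _) (n.inv.naturality φ)).trans
        ((Category.assoc _ _ _).trans (congrArg (n.inv.app F ≫ ·) ?_))))
      refine (H.map_comp _ _).symm.trans (congrArg _ ?_)
      have h3 : (adj.homEquiv K W).symm (ObjectProperty.homMk (S.map φ ≫ τ)) =
          (DCoh.RpushQ f hf).map (ObjectProperty.homMk (S.map φ) : K ⟶ SQ ω hω) ≫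
            (adj.homEquiv (SQ ω hω) W).symm (ObjectProperty.homMk τ) :=
        adj.homEquiv_naturality_left_symm (ObjectProperty.homMk (S.map φ) : K ⟶ SQ ω hω) _
      rw [h3]
      exact (Category.assoc _ _ _).symm.trans ((congrArg (· ≫ _) (R.inv.naturality (S.map φ))).trans
        (Category.assoc _ _ _))
    rw [he']
    exact (show Function.Bijective fun y => n.inv.app F ≫ y from
      ⟨fun y y' h => (cancel_epi _).1 h, fun y => ⟨n.hom.app F ≫ y, by simp⟩⟩).comp (h2.comp h1)
  haveI : ((Coh.Rpush f d).obj F).IsQuasicoherent :=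
    haveI := hF
    Cohom.isQuasicoherent_Rpush f F d
  have hb : Function.Bijective Φ := by
    have hg := bijective_gamma_map (A := CommRingCat.of A) ((Coh.Rpush f d).obj F) (DCoh.HD W.obj w)
    refine ⟨fun φ φ' h => hb1.1 (hg.1 ((cancel_mono v.hom).1 (ModuleCat.hom_ext (LinearMap.ext fun y => ?_)))),
      fun ψ => ?_⟩
    · obtain ⟨x, rfl⟩ := (E F hF).surjective y
      exact LinearMap.congr_fun h x
    · obtain ⟨g, hg'⟩ := hg.2 ((E F hF).toModuleIso.inv ≫ ModuleCat.ofHom ψ ≫ v.inv)
      obtain ⟨φ, rfl⟩ := hb1.2 g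
      refine ⟨φ, LinearMap.ext fun x => ?_⟩
      show (Γ'.map ((Coh.Rpush f d).map φ ≫ τ0) ≫ v.hom).hom (E F hF x) = ψ x
      simp only [] at hg'
      rw [hg', Category.assoc, Category.assoc, Iso.inv_hom_id, Category.comp_id]
      exact congrArg ψ ((E F hF).symm_apply_apply x)
  intro ψ
  obtain ⟨φ, hφ⟩ := hb.2 ψ
  exact ⟨φ, fun x => by rw [← hφ, hΦ], fun φ' h => hb.1 (LinearMap.ext fun x => by rw [hΦ, hφ]; exact (h x).symm)⟩

end GrothLib.RightAdj22
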