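import Groth.Agent.Lib.FunMor20.Scalar
import Groth.Agent.Lib.OX.RHomDual

/-! # Endomorphisms of the structure sheaf commute; units at the structure sheaf -/

set_option autoImplicit false
set_option linter.style.haveILetI false
set_option maxHeartbeats 1000000
universe u v v' w w'

open CategoryTheory CategoryTheory.Limits AlgebraicGeometry
attribute [local instance] HasDerivedCategory.standard

noncomputable section

namespace GrothLib.RightAdj22

variable {X : Scheme.{u}}

theorem end_app_top (f g : Coh.structureModule X ⟶ Coh.structureModule X) :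
    (show Γ(X, ⊤) from (f ≫ g).app ⊤ (FinCov.one X ⊤)) =
      (show Γ(X, ⊤) from f.app ⊤ (FinCov.one X ⊤)) * (show Γ(X, ⊤) from g.app ⊤ (FinCov.one X ⊤)) := by
  let a : Γ(X, ⊤) := f.app ⊤ (FinCov.one X ⊤)
  refine (congrArg (g.app ⊤) (show f.app ⊤ (FinCov.one X ⊤) = a • FinCov.one X ⊤ from (mul_one a).symm)).trans ?_
  exact Scheme.Modules.Hom.app_smul g a _

/-- Endomorphisms of the structure module commute. -/
theorem end_comm (f g : Coh.structureModule X ⟶ Coh.structureModule X) : f ≫ g = g ≫ f :=
  FunMor20.homOfSection_unique ((end_app_top f g).trans ((mul_comm _ _).trans (end_app_top g f).symm))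

/-- Endomorphisms of an object isomorphic to the structure sheaf in degree zero commute. -/
theorem endD_comm {M : DCoh.D X} (e : M ≅ DCoh.inD X (Coh.structureModule X)) (f g : M ⟶ M) : f ≫ g = g ≫ f := by
  obtain ⟨f', hf⟩ := (DerivedCategory.singleFunctor X.Modules 0).map_surjective (e.inv ≫ f ≫ e.hom)
  obtain ⟨g', hg⟩ := (DerivedCategory.singleFunctor X.Modules 0).map_surjective (e.inv ≫ g ≫ e.hom)
  have h := congrArg ((DerivedCategory.singleFunctor X.Modules 0).map) (end_comm f' g')
  rw [Functor.map_comp, Functor.map_comp, hf, hg] at h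
  have h' := congrArg (fun t => e.hom ≫ t ≫ e.inv) h
  simpa using h'

/-- A split mono between objects isomorphic to `M`, whose endomorphisms commute, is invertible. -/
theorem isIso_of_split {C : Type w} [Category.{v} C] {A B M : C} (eA : A ≅ M) (eB : B ≅ M)
    (hc : ∀ f g : M ⟶ M, f ≫ g = g ≫ f) (i : A ⟶ B) (p : B ⟶ A) (h : i ≫ p = 𝟙 A) : IsIso i := by
  refine ⟨p, h, ?_⟩
  have h1 : (eA.inv ≫ i ≫ eB.hom) ≫ (eB.inv ≫ p ≫ eA.hom) = 𝟙 M := by simp [reassoc_of% h]
  rw [hc] at h1
  have h2 := congrArg (fun t => eB.hom ≫ t ≫ eB.inv) h1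
  simpa using h2

/-- The unit at `M` is invertible when `R N ≅ M` and `R L M ≅ M`, endomorphisms of `M` commuting. -/
theorem isIso_unit_of_comm {C : Type w} [Category.{v} C] {D : Type w'} [Category.{v'} D] {L : C ⥤ D} {R : D ⥤ C}
    (adj : L ⊣ R) {M : C} {N : D} (a : R.obj N ≅ M) (b : R.obj (L.obj M) ≅ M)
    (hc : ∀ f g : M ⟶ M, f ≫ g = g ≫ f) : IsIso (adj.unit.app M) := by
  have h : adj.unit.app M ≫ R.map (L.map a.inv ≫ adj.counit.app N) ≫ a.hom = 𝟙 M := by
    have hn := adj.unit.naturality a.inv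
    simp only [Functor.id_map, Functor.comp_map] at hn
    rw [Functor.map_comp, Category.assoc, ← reassoc_of% hn, adj.right_triangle_components_assoc, a.inv_hom_id]
  exact isIso_of_split (Iso.refl M) b hc _ _ h

/-- Maps out of `L M` are maps out of `R L M`. -/
theorem bijective_map_of_isIso_unit {C : Type w} [Category.{v} C] {D : Type w'} [Category.{v'} D] {L : C ⥤ D}
    {R : D ⥤ C} (adj : L ⊣ R) {M : C} [IsIso (adj.unit.app M)] (W : D) :
    Function.Bijective (fun x : L.obj M ⟶ W => R.map x) := by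
  refine ⟨fun x y h => (adj.homEquiv M W).injective (by
    rw [Adjunction.homEquiv_unit, Adjunction.homEquiv_unit]; exact congrArg _ h), fun y => ?_⟩
  refine ⟨(adj.homEquiv M W).symm (adj.unit.app M ≫ y), (cancel_epi (adj.unit.app M)).1 ?_⟩
  show adj.unit.app M ≫ R.map _ = _
  exact (adj.homEquiv_unit M W _).symm.trans (Equiv.apply_symm_apply _ _)

end GrothLib.RightAdj22
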