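import Groth.Agent.Lib.RightAdj22.Relative
import Groth.Agent.Lib.OX.BVdB
import Groth.Agent.Lib.OX.PCohTriangle

/-! # Maps from perfect objects into supported objects factor through supported perfect objects -/

set_option autoImplicit false
set_option maxHeartbeats 1000000
set_option linter.style.haveILetI false
universe u

open CategoryTheory CategoryTheory.Limits AlgebraicGeometry CategoryTheory.Pretriangulated

attribute [local instance] HasDerivedCategory.standard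

noncomputable section

namespace GrothLib.RightAdj22

open GrothLib.OX ZeroObject

variable {X : Scheme.{u}}

/-- Every map from a perfect object factors through a supported perfect object. -/
def Fac (W : X.Opens) (S : DCoh.D X) : Prop :=
  ∀ (M : DCoh.D X), DCoh.IsPerfect M → ∀ g : M ⟶ S, ∃ (P : DCoh.D X) (a : M ⟶ P) (b : P ⟶ S),
    DCoh.IsPerfect P ∧ IsZero ((resD W.ι).obj P) ∧ a ≫ b = g

theorem isPerfect_biprod' {A B : DCoh.D X} (hA : DCoh.IsPerfect A) (hB : DCoh.IsPerfect B) :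
    DCoh.IsPerfect (A ⊞ B) := by
  have h := binaryBiproductTriangle_distinguished (C := DCoh.D X) A B
  exact isPerfect_of_iso (isPerfect_cone (inv_rot_of_distTriang _ h)
    (isPerfect_shift hB (-1)) hA) (Iso.refl _)

theorem isZero_resD_obj₃ {U : Scheme.{u}} (j : U ⟶ X) [IsOpenImmersion j] {T : Triangle (DCoh.D X)}
    (hT : T ∈ distTriang _) (h₁ : IsZero ((resD j).obj T.obj₁)) (h₂ : IsZero ((resD j).obj T.obj₂)) :
    IsZero ((resD j).obj T.obj₃) :=
  Triangle.isZero₂_of_isZero₁₃ _ (rot_of_distTriang _ ((resD j).map_distinguished _ hT)) h₂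
    ((shiftFunctor _ (1 : ℤ)).map_isZero h₁)

theorem fac_cone (W : X.Opens) {T : Triangle (DCoh.D X)} (hT : T ∈ distTriang _) (h₁ : Fac W T.obj₁)
    (h₁' : Fac W (T.obj₁⟦(1 : ℤ)⟧)) (h₂ : Fac W T.obj₂) : Fac W T.obj₃ := by
  intro M hM g
  obtain ⟨P₁, a₁, b₁, hP₁, hW₁, hab₁⟩ := h₁' M hM (g ≫ T.mor₃)
  obtain ⟨M₀, m, r, hT₁⟩ := distinguished_cocone_triangle₁ a₁
  have hM₀ : DCoh.IsPerfect M₀ :=
    isPerfect_cone (inv_rot_of_distTriang _ (inv_rot_of_distTriang _ hT₁)) (isPerfect_shift hM _) (isPerfect_shift hP₁ _)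
  have hma : m ≫ a₁ = 0 := comp_distTriang_mor_zero₁₂ _ hT₁
  have h0 : (m ≫ g) ≫ T.mor₃ = 0 := by
    rw [Category.assoc, ← hab₁, reassoc_of% hma, zero_comp]
  obtain ⟨β, hβ⟩ := Triangle.coyoneda_exact₃ T hT (m ≫ g) h0
  obtain ⟨P₂, a₂, b₂, hP₂, hW₂, hab₂⟩ := h₂ M₀ hM₀ β
  -- push out along `a₂`
  let w : P₁⟦(-1 : ℤ)⟧ ⟶ M₀ := (Triangle.mk m a₁ r).invRotate.mor₁
  let r' : M ⟶ (P₁⟦(-1 : ℤ)⟧)⟦(1 : ℤ)⟧ := (Triangle.mk m a₁ r).invRotate.mor₃
  have hT₁' : Triangle.mk w m r' ∈ distTriang (DCoh.D X) := inv_rot_of_distTriang _ hT₁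
  have hwm : w ≫ m = 0 := comp_distTriang_mor_zero₁₂ _ hT₁'
  obtain ⟨M₁, k, d, hT₂⟩ := distinguished_cocone_triangle (w ≫ a₂)
  obtain ⟨c₀, hc₁, -⟩ := complete_distinguished_triangle_morphism _ _ hT₁' hT₂ (𝟙 (P₁⟦(-1 : ℤ)⟧)) a₂
    (show w ≫ a₂ = 𝟙 _ ≫ w ≫ a₂ from (Category.id_comp _).symm)
  let c : M ⟶ M₁ := c₀
  have hc₁' : m ≫ c = a₂ ≫ k := hc₁
  have hM₁ : DCoh.IsPerfect M₁ := isPerfect_cone hT₂ (isPerfect_shift hP₁ _) hP₂
  have hW₁' : IsZero ((resD W.ι).obj M₁) :=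
    isZero_resD_obj₃ W.ι hT₂ (((shiftFunctor _ (-1 : ℤ)).map_isZero hW₁).of_iso (((resD W.ι).commShiftIso (-1)).app P₁))
      hW₂
  have hz : (w ≫ a₂) ≫ b₂ ≫ T.mor₂ = 0 := by
    rw [Category.assoc, reassoc_of% hab₂, ← hβ, reassoc_of% hwm, zero_comp]
  obtain ⟨h, hh⟩ := Triangle.yoneda_exact₂ _ hT₂ (b₂ ≫ T.mor₂) hz
  have hh' : b₂ ≫ T.mor₂ = k ≫ h := hh
  have hd : m ≫ (g - c ≫ h) = 0 := by
    rw [Preadditive.comp_sub, hβ, reassoc_of% hc₁', ← hh', reassoc_of% hab₂, sub_self]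
  obtain ⟨e, he⟩ := Triangle.yoneda_exact₂ _ hT₁ (g - c ≫ h) hd
  refine ⟨M₁ ⊞ P₁, biprod.lift c a₁, biprod.desc h e, isPerfect_biprod' hM₁ hP₁, ?_, ?_⟩
  · haveI : (resD W.ι).Additive := inferInstance
    have hid : (resD W.ι).map (𝟙 (M₁ ⊞ P₁)) = 0 := by
      rw [← biprod.total, Functor.map_add, Functor.map_comp, Functor.map_comp,
        hW₁'.eq_of_tgt ((resD W.ι).map biprod.fst) 0, hW₁.eq_of_tgt ((resD W.ι).map biprod.snd) 0, zero_comp, zero_comp,
        add_zero]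
    exact (IsZero.iff_id_eq_zero _).2 (((resD W.ι).map_id _).symm.trans hid)
  · rw [biprod.lift_desc]
    exact (congrArg (c ≫ h + ·) he.symm).trans (add_sub_cancel _ _)

variable [CompactSpace X] [QuasiSeparatedSpace X]

theorem fac_coproduct (W : X.Opens) {J : Type u} (Z : J → DCoh.D X) [HasCoproduct Z]
    (hq : ∀ j, DCoh.IsQCohD (Z j)) (h : ∀ j, Fac W (Z j)) : Fac W (∐ Z) := by
  classical
  intro M hM g
  obtain ⟨c, rfl⟩ := finHom_of_isPerfect hM Z hq g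
  induction c using DirectSum.induction_on with
  | zero => exact ⟨0, 0, 0, isPerfect_of_isZero_obj (isZero_zero _), (resD W.ι).map_isZero (isZero_zero _), by simp⟩
  | of i z =>
    obtain ⟨P, a, b, hP, hW, hab⟩ := h i M hM z
    exact ⟨P, a, b ≫ Sigma.ι Z i, hP, hW, by rw [← Category.assoc, hab, TriCat.homSum_of]⟩
  | add c d hc hd =>
    obtain ⟨P, a, b, hP, hW, hab⟩ := hc
    obtain ⟨P', a', b', hP', hW', hab'⟩ := hd
    refine ⟨P ⊞ P', biprod.lift a a', biprod.desc b b', isPerfect_biprod' hP hP', ?_, ?_⟩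
    · haveI : (resD W.ι).Additive := inferInstance
      have hid : (resD W.ι).map (𝟙 (P ⊞ P')) = 0 := by
        rw [← biprod.total, Functor.map_add, Functor.map_comp, Functor.map_comp,
          hW.eq_of_tgt ((resD W.ι).map biprod.fst) 0, hW'.eq_of_tgt ((resD W.ι).map biprod.snd) 0, zero_comp, zero_comp,
          add_zero]
      exact (IsZero.iff_id_eq_zero _).2 (((resD W.ι).map_id _).symm.trans hid)
    · rw [biprod.lift_desc, hab, hab', map_add]

/-- **Maps into supported objects of `D_qc` factor through supported perfect objects.** -/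
theorem exists_factor (W : X.Opens) (hW : IsCompact (W : Set X)) {S : DCoh.D X} (hS : DCoh.IsQCohD S)
    (hSW : IsZero ((resD W.ι).obj S)) {M : DCoh.D X} (hM : DCoh.IsPerfect M) (g : M ⟶ S) :
    ∃ (P : DCoh.D X) (a : M ⟶ P) (b : P ⟶ S), DCoh.IsPerfect P ∧ IsZero ((resD W.ι).obj P) ∧ a ≫ b = g := by
  obtain ⟨G, hG, hGW, hgen⟩ := hasGen_of_qcqs X W hW
  let E : ULift.{u} ℤ → DCoh.DQCoh X := fun k => ⟨G⟦k.down⟧, isQCohD_shift (isQCohD_of_isPerfect hG) _⟩
  let ι' := (DCoh.IsQCohD (X := X)).ι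
  let Sp : DCoh.DQCoh X → Prop := fun A => IsZero ((resD W.ι).obj A.obj)
  have hsh : ∀ {A : DCoh.DQCoh X} (n : ℤ), Sp A → Sp (A⟦n⟧) := fun {A} n h =>
    ((shiftFunctor _ n).map_isZero h).of_iso ((resD W.ι).mapIso ((ι'.commShiftIso n).app A) ≪≫
      ((resD W.ι).commShiftIso n).app A.obj)
  have fiso : ∀ {A B : DCoh.D X}, (A ≅ B) → Fac W A → Fac W B := fun {A B} i h N hN φ => by
    obtain ⟨P, a, b, h1, h2, h3⟩ := h N hN (φ ≫ i.inv)
    exact ⟨P, a, b ≫ i.hom, h1, h2, by rw [reassoc_of% h3, i.inv_hom_id, Category.comp_id]⟩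
  refine TriCatS.prop_of_relative.{u, u + 1} (E := E)
    (fun k m => ⟨⟨k.down + m⟩, ⟨(DCoh.IsQCohD (X := X)).isoMk (((ι'.commShiftIso m).app (E k)) ≪≫
      ((shiftFunctorAdd (DCoh.D X) k.down m).app G).symm)⟩⟩)
    (TriCatS.isPerfectFamily_of_finHom.{u, u + 1} fun N k => finHom_DQCoh (isPerfect_shift hG k.down) N) Sp
    (fun e h => h.of_iso ((resD W.ι).mapIso (ι'.mapIso e).symm))
    (fun k => ((shiftFunctor _ k.down).map_isZero hGW).of_iso (((resD W.ι).commShiftIso k.down).app G))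
    (fun J Z hZ => ?_) (fun T hT h₁ h₂ => isZero_resD_obj₃ W.ι (ι'.map_distinguished T hT) h₁ h₂)
    (fun A hA h0 => ?_) (fun A => ∀ n : ℤ, Fac W (A⟦n⟧).obj) (fun e h n => ?_) (fun k n => ?_) (fun J Z hZ n => ?_)
    (fun T hT h₁ h₂ n => ?_) ⟨S, hS⟩ hSW 0 |> fun h => fiso (ι'.mapIso ((shiftFunctorZero (DCoh.DQCoh X) ℤ).app ⟨S, hS⟩)) h M hM g
  · have := preservesColimitOfShape_of_createsColimitsOfShape_and_hasColimitsOfShape
      (F := (DCoh.IsQCohD (X := X)).ι) (J := Discrete J)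
    haveI : (resD W.ι).IsLeftAdjoint := (resDAdj W.ι).isLeftAdjoint
    have hz : IsZero (∐ fun j => (resD W.ι).obj (ι'.obj (Z j))) :=
      (IsZero.iff_id_eq_zero _).2 (Sigma.hom_ext _ _ fun j => (hZ j).eq_of_src _ _)
    exact hz.of_iso (PreservesCoproduct.iso (ι' ⋙ resD W.ι) Z)
  · have hz := hgen A.obj A.property hA fun n φ =>
      congrArg (fun t : E ⟨n⟩ ⟶ A => t.hom) (h0 ⟨n⟩ (ObjectProperty.homMk φ))
    exact (IsZero.iff_id_eq_zero A).2 (ObjectProperty.hom_ext _ (hz.eq_of_src _ _))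
  · exact fiso (ι'.mapIso ((shiftFunctor _ n).mapIso e)) (h n)
  · intro N hN φ
    exact ⟨_, φ, 𝟙 _, isPerfect_of_iso (isPerfect_shift (isPerfect_shift hG k.down) n)
        ((ι'.commShiftIso n).app (E k)).symm,
      hsh n (((shiftFunctor _ k.down).map_isZero hGW).of_iso (((resD W.ι).commShiftIso k.down).app G)), Category.comp_id _⟩
  · have := preservesColimitOfShape_of_createsColimitsOfShape_and_hasColimitsOfShape
      (F := (DCoh.IsQCohD (X := X)).ι) (J := Discrete J)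
    exact fiso (PreservesCoproduct.iso (shiftFunctor (DCoh.DQCoh X) n ⋙ ι') Z).symm
      (fac_coproduct W _ (fun j => ((Z j)⟦n⟧).property) fun j => hZ j n)
  · refine fac_cone W (ι'.map_distinguished _ (Triangle.shift_distinguished T hT n)) (h₁ n) ?_ (h₂ n)
    exact fiso (ι'.mapIso ((shiftFunctorAdd (DCoh.DQCoh X) n (1 : ℤ)).app T.obj₁) ≪≫ (ι'.commShiftIso (1 : ℤ)).app _)
      (h₁ (n + 1))

/-- **Killing a map into a supported object, without changing anything on the open.** -/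
theorem exists_kill (W : X.Opens) (hW : IsCompact (W : Set X)) {S : DCoh.D X} (hS : DCoh.IsQCohD S)
    (hSW : IsZero ((resD W.ι).obj S)) {M : DCoh.D X} (hM : DCoh.IsPerfect M) (g : M ⟶ S) :
    ∃ (M' : DCoh.D X) (u : M' ⟶ M), DCoh.IsPerfect M' ∧ IsIso ((resD W.ι).map u) ∧ u ≫ g = 0 := by
  obtain ⟨P, a, b, hP, hPW, rfl⟩ := exists_factor W hW hS hSW hM g
  obtain ⟨M', u, r, hT⟩ := distinguished_cocone_triangle₁ a
  refine ⟨M', u, isPerfect_cone (inv_rot_of_distTriang _ (inv_rot_of_distTriang _ hT)) (isPerfect_shift hM _)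
      (isPerfect_shift hP _),
    (Triangle.isZero₃_iff_isIso₁ _ ((resD W.ι).map_distinguished _ hT)).1 hPW, ?_⟩
  rw [← Category.assoc, show u ≫ a = 0 from comp_distTriang_mor_zero₁₂ _ hT, zero_comp]

end GrothLib.RightAdj22
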