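import Groth.Agent.Lib.RightAdj22.ProjTrace
import Groth.Agent.Lib.RightAdj22.UnitEnd
import Groth.Agent.Lib.SuppTens22.Basic

/-! # Duality for projective space over a ring -/

set_option autoImplicit false
set_option backward.isDefEq.respectTransparency false
set_option linter.style.haveILetI false
set_option maxHeartbeats 1000000
universe u

open CategoryTheory CategoryTheory.Limits AlgebraicGeometry CategoryTheory.Pretriangulated HomologicalComplex
attribute [local instance] HasDerivedCategory.standard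

noncomputable section

namespace GrothLib.RightAdj22

open GrothLib.OX GrothLib.KSix19

variable {X Y : Scheme.{u}}

theorem endD_comm' (j : ℤ) {M : DCoh.D X}
    (e : M ≅ (DerivedCategory.singleFunctor X.Modules j).obj (Coh.structureModule X)) (f g : M ⟶ M) :
    f ≫ g = g ≫ f := by
  obtain ⟨f', hf⟩ := (DerivedCategory.singleFunctor X.Modules j).map_surjective (e.inv ≫ f ≫ e.hom)
  obtain ⟨g', hg⟩ := (DerivedCategory.singleFunctor X.Modules j).map_surjective (e.inv ≫ g ≫ e.hom)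
  have h := congrArg ((DerivedCategory.singleFunctor X.Modules j).map) (end_comm f' g')
  rw [Functor.map_comp, Functor.map_comp, hf, hg] at h
  have h' := congrArg (fun t => e.hom ≫ t ≫ e.inv) h
  simpa using h'

/-- The direct image of the shifted structure sheaves. -/
theorem nonempty_RR_single (f : X ⟶ Y)
    (t : (RR f).obj (DCoh.inD X (Coh.structureModule X)) ≅ DCoh.inD Y (Coh.structureModule Y)) (j : ℤ) :
    Nonempty ((RR f).obj ((DerivedCategory.singleFunctor X.Modules j).obj (Coh.structureModule X)) ≅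
      (DerivedCategory.singleFunctor Y.Modules j).obj (Coh.structureModule Y)) := by
  haveI := RpushSupp20.hasInjectiveResolutions X
  let u : (DCoh.inD X (Coh.structureModule X))⟦-j⟧ ≅
      (DerivedCategory.singleFunctor X.Modules j).obj (Coh.structureModule X) :=
    ((SingleFunctors.shiftIso (DerivedCategory.singleFunctors X.Modules) (-j) j 0 (by omega))).app _
  let v : (DCoh.inD Y (Coh.structureModule Y))⟦-j⟧ ≅
      (DerivedCategory.singleFunctor Y.Modules j).obj (Coh.structureModule Y) :=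
    ((SingleFunctors.shiftIso (DerivedCategory.singleFunctors Y.Modules) (-j) j 0 (by omega))).app _
  exact ⟨(RR f).mapIso u.symm ≪≫ ((RR f).commShiftIso (-j)).app _ ≪≫ (shiftFunctor _ (-j)).mapIso t ≪≫ v⟩

/-- **The map to `a O` with invertible direct image.** -/
theorem exists_theta_of_trace (f : X ⟶ Y) [QuasiCompact f] [QuasiSeparated f] [DCoh.HasRpush f]
    (hf : DCoh.RpushPreservesQCoh f) {a : DCoh.DQCoh Y ⥤ DCoh.DQCoh X} (adj : DCoh.RpushQ f hf ⊣ a)
    (O : DCoh.DQCoh Y) (ω : DCoh.DQCoh X) (t : (RR f).obj ω.obj ≅ O.obj) :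
    ∃ θ : ω ⟶ a.obj O, ∀ (M : DCoh.D X), DCoh.IsQCohD M →
      (Function.Bijective fun x : M ⟶ ω.obj => (RR f).map x) →
        Function.Bijective fun x : M ⟶ ω.obj => x ≫ θ.hom := by
  let r := rpushIsoRres f
  let s : (DCoh.RpushQ f hf).obj ω ≅ O := (DCoh.IsQCohD (X := Y)).isoMk (r.app _ ≪≫ t)
  refine ⟨adj.homEquiv ω O s.hom, fun M hM hbij => ?_⟩
  let M₁ : DCoh.DQCoh X := ⟨M, hM⟩
  have hb : Function.Bijective fun x : M₁ ⟶ ω => (adj.homEquiv M₁ O) ((DCoh.RpushQ f hf).map x ≫ s.hom) := by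
    refine (adj.homEquiv M₁ O).bijective.comp ⟨fun x y h => ?_, fun z => ?_⟩
    · refine ObjectProperty.hom_ext _ (hbij.1 ?_)
      have h0 : (DCoh.RpushQ f hf).map x = (DCoh.RpushQ f hf).map y := (cancel_mono s.hom).1 h
      have h1 : (DCoh.Rpush f).map x.hom = (DCoh.Rpush f).map y.hom :=
        congrArg (fun g : (DCoh.RpushQ f hf).obj M₁ ⟶ (DCoh.RpushQ f hf).obj ω => g.hom) h0
      show (RR f).map x.hom = (RR f).map y.hom
      refine (cancel_epi (r.hom.app M)).1 ?_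
      exact (r.hom.naturality x.hom).symm.trans ((congrArg (· ≫ _) h1).trans (r.hom.naturality y.hom))
    · obtain ⟨x, hx⟩ := hbij.2 (r.inv.app M ≫ z.hom ≫ t.inv)
      refine ⟨ObjectProperty.homMk x, ObjectProperty.hom_ext _ ?_⟩
      show (DCoh.Rpush f).map x ≫ r.hom.app ω.obj ≫ t.hom = z.hom
      refine (Category.assoc _ _ _).symm.trans ((congrArg (· ≫ t.hom) (r.hom.naturality x)).trans ?_)
      change (RR f).map x = _ at hx
      rw [hx]
      simp
  have hθ : ∀ x : M₁ ⟶ ω, adj.homEquiv M₁ O ((DCoh.RpushQ f hf).map x ≫ s.hom) = x ≫ adj.homEquiv ω O s.hom :=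
    fun x => adj.homEquiv_naturality_left x s.hom
  refine ⟨fun x y h => ?_, fun z => ?_⟩
  · have := hb.1 (show adj.homEquiv M₁ O ((DCoh.RpushQ f hf).map (ObjectProperty.homMk x) ≫ s.hom) =
      adj.homEquiv M₁ O ((DCoh.RpushQ f hf).map (ObjectProperty.homMk y) ≫ s.hom) by
        rw [hθ, hθ]; exact ObjectProperty.hom_ext _ h)
    exact congrArg (fun g => InducedCategory.Hom.hom g) this
  · obtain ⟨x, hx⟩ := hb.2 (ObjectProperty.homMk z : M₁ ⟶ a.obj O)
    refine ⟨x.hom, ?_⟩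
    simp only [hθ] at hx
    exact congrArg (fun g => InducedCategory.Hom.hom g) hx

/-- Over an affine base the direct image of that map is invertible. -/
theorem exists_theta_affine {A : CommRingCat.{u}} (f : X ⟶ Spec A) [QuasiCompact f] [QuasiSeparated f]
    [DCoh.HasRpush f] (hf : DCoh.RpushPreservesQCoh f) {a : DCoh.DQCoh (Spec A) ⥤ DCoh.DQCoh X}
    (adj : DCoh.RpushQ f hf ⊣ a) (O : DCoh.DQCoh (Spec A)) (ω : DCoh.DQCoh X) (t : (RR f).obj ω.obj ≅ O.obj)
    (tX : (RR f).obj (DCoh.inD X (Coh.structureModule X)) ≅ DCoh.inD (Spec A) (Coh.structureModule (Spec A))) :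
    ∃ θ : ω ⟶ a.obj O, IsIso ((RR f).map θ.hom) := by
  obtain ⟨θ, hθ⟩ := exists_theta_of_trace f hf adj O ω t
  haveI := hasLpull f
  obtain ⟨ladj₀⟩ := nonempty_lpullAdj f
  let ladj := ladj₀.ofNatIsoRight (rpushIsoRres f)
  let S := fun j : ℤ => (DerivedCategory.singleFunctor (Spec A).Modules j).obj (Coh.structureModule (Spec A))
  have key : ∀ j : ℤ, Function.Bijective fun z : S j ⟶ (RR f).obj ω.obj => z ≫ (RR f).map θ.hom := fun j => by
    obtain ⟨l⟩ := ProjPush.nonempty_lpull_structure f j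
    obtain ⟨b⟩ := nonempty_RR_single f tX j
    haveI : IsIso (ladj.unit.app (S j)) :=
      isIso_unit_of_comm ladj b ((RR f).mapIso l ≪≫ b) (endD_comm' j (Iso.refl _))
    have hM : DCoh.IsQCohD ((DCoh.Lpull f).obj (S j)) :=
      SuppTens22.isQCohD_lpull f (isQCohD_of_isPerfect (isPerfect_of_iso
        (isPerfect_shift (isPerfect_unit (Spec A)) (-j))
        ((SingleFunctors.shiftIso (DerivedCategory.singleFunctors (Spec A).Modules) (-j) j 0 (by omega)).app _)))
    have h1 := hθ _ hM (bijective_map_of_isIso_unit ladj ω.obj)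
    have e : (fun z : S j ⟶ (RR f).obj ω.obj => z ≫ (RR f).map θ.hom) =
        (ladj.homEquiv (S j) _) ∘ (fun x => x ≫ θ.hom) ∘ (ladj.homEquiv (S j) _).symm := by
      funext z
      show _ = ladj.homEquiv _ _ ((ladj.homEquiv _ _).symm z ≫ θ.hom)
      rw [Adjunction.homEquiv_naturality_right, Equiv.apply_symm_apply]
    rw [e]
    exact (Equiv.bijective _).comp (h1.comp (Equiv.bijective _))
  refine ⟨θ, ?_⟩
  obtain ⟨C, q, d, hT⟩ := distinguished_cocone_triangle ((RR f).map θ.hom)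
  have hC : DCoh.IsQCohD C :=
    isQCohD_obj₃ hT (isQCohD_Rres f _ ω.property) (isQCohD_Rres f _ (a.obj O).property)
  refine (Triangle.isZero₃_iff_isIso₁ _ hT).1 (DerTrunc.isZero_of_forall _ fun j => ?_)
  refine (ProjPush.isZero_HD_iff_hom hC j).2 fun φ => ?_
  have h1 : φ ≫ d = 0 := by
    let e : (S (j + 1))⟦(1 : ℤ)⟧ ≅ S j :=
      (SingleFunctors.shiftIso (DerivedCategory.singleFunctors (Spec A).Modules) 1 j (j + 1) (by omega)).app _
    obtain ⟨b, hb⟩ := (shiftFunctor (DCoh.D (Spec A)) (1 : ℤ)).map_surjective (e.hom ≫ φ ≫ d)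
    have hb0 : b = 0 := (key (j + 1)).1 (show b ≫ (RR f).map θ.hom = 0 ≫ (RR f).map θ.hom by
      apply (shiftFunctor (DCoh.D (Spec A)) (1 : ℤ)).map_injective
      rw [zero_comp, Functor.map_zero, Functor.map_comp, hb, Category.assoc, Category.assoc,
        show d ≫ ((RR f).map θ.hom)⟦(1 : ℤ)⟧' = 0 from comp_distTriang_mor_zero₃₁ _ hT, comp_zero, comp_zero])
    rw [hb0, Functor.map_zero] at hb
    exact (cancel_epi e.hom).1 (hb.symm.trans comp_zero.symm)
  obtain ⟨ψ, hψ⟩ : ∃ ψ, φ = ψ ≫ q := Triangle.coyoneda_exact₃ _ hT φ h1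
  obtain ⟨z, hz⟩ := (key j).2 ψ
  have h0 : (RR f).map θ.hom ≫ q = 0 := comp_distTriang_mor_zero₁₂ _ hT
  rw [hψ, ← hz, Category.assoc, h0, comp_zero]

section

open CohB1 GrothLib.KSix19.ProjPush

variable (n : ℕ) (A : Type u) [CommRing A]

/-- **Detecting isomorphisms on projective space by `n + 1` twists.** -/
theorem isIso_of_MM {P Q : DCoh.D (ProjSpace n A)} (hP : DCoh.IsQCohD P) (hQ : DCoh.IsQCohD Q) (θ : P ⟶ Q)
    (h0 : IsIso ((RR (ProjSpace.toSpec n A)).map θ))
    (hd : ∀ d : ℕ, 1 ≤ d → d ≤ n → IsZero ((MM n A d).obj P) ∧ IsZero ((MM n A d).obj Q)) : IsIso θ := by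
  haveI : IsProper (ProjSpace.toSpec n A) := Chow.isProper_toSpec n A
  obtain ⟨C, q, d, hT⟩ := distinguished_cocone_triangle θ
  have hC : DCoh.IsQCohD C := isQCohD_obj₃ hT hP hQ
  refine (Triangle.isZero₃_iff_isIso₁ _ hT).1 (DerTrunc.isZero_of_forall _ fun m => ?_)
  refine isLE_of_van n A hC m (van_all n A m fun k hk j _ => ?_) m le_rfl
  by_cases hk0 : k = 0
  · subst hk0
    haveI := RpushSupp20.hasInjectiveResolutions (ProjSpace n A)
    haveI : (RR (ProjSpace.toSpec n A)).IsTriangulated :=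
      SiteDer.isTriangulated_res_map (rmor (ProjSpace.toSpec n A)).push
    have hz : IsZero ((RR (ProjSpace.toSpec n A)).obj C) :=
      (Triangle.isZero₃_iff_isIso₁ _ ((RR (ProjSpace.toSpec n A)).map_distinguished _ hT)).2 h0
    have h1 := (hom_structure_eq_zero_iff (ProjSpace.toSpec n A) C j).2 fun φ => hz.eq_of_tgt φ 0
    intro φ
    obtain ⟨e⟩ : Nonempty (OO n A (-((0 : ℕ) : ℤ)) ≅ Coh.structureModule (ProjSpace n A)) := by
      have hz : ProjPic26.tw n A 0 = 1 := by rw [ProjPic26.tw_eq_zpow, zpow_zero]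
      obtain ⟨z⟩ := (Cube.clsMod_eq_one_iff _).1 hz
      exact ⟨eqToIso (by simp) ≪≫ z⟩
    rw [← cancel_epi ((DerivedCategory.singleFunctor _ j).mapIso e.symm).hom, comp_zero]
    exact h1 _
  · obtain ⟨δ, hδ⟩ := distinguished_MM n A k hT
    obtain ⟨hz₁, hz₂⟩ := hd k (by omega) hk
    have h2 : IsZero ((MM n A k).obj C) :=
      (Triangle.isZero₃_iff_isIso₁ _ hδ).2 ⟨0, hz₁.eq_of_src _ _, hz₂.eq_of_src _ _⟩
    exact (van_iff n A C hC j k).2 ((DerivedCategory.homologyFunctor _ j).map_isZero h2)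

/-- `O(-n-1)[n]`. -/
abbrev omegaP : DCoh.D (ProjSpace n A) :=
  (DCoh.inD (ProjSpace n A) (Twist.twistProjSpace n A (-((n : ℤ) + 1))))⟦(n : ℤ)⟧

theorem isQCohD_omegaP : DCoh.IsQCohD (omegaP n A) :=
  isQCohD_shift (isQCohD_of_isPerfect (isPerfect_of_iso
    (isPerfect_single_of_finLocFree
      (Euler.isFinLocFree_of_isInvertible (ProjPic26.isInvertible_twistProjSpace n A (-((n : ℤ) + 1)))))
    ((DerivedCategory.singleFunctorIsoCompQ _ 0).app _).symm)) _

theorem nonempty_RR_omegaP : Nonempty ((RR (ProjSpace.toSpec n A)).obj (omegaP n A) ≅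
    DCoh.inD (Spec (CommRingCat.of A)) (Coh.structureModule (Spec (CommRingCat.of A)))) := by
  haveI := RpushSupp20.hasInjectiveResolutions (ProjSpace n A)
  obtain ⟨e⟩ := nonempty_RR_twist A n (-((n : ℤ) + 1)) n (Or.inr ⟨rfl, rfl⟩)
  exact ⟨((RR (ProjSpace.toSpec n A)).commShiftIso (n : ℤ)).app _ ≪≫ e⟩

theorem nonempty_RR_structure : Nonempty ((RR (ProjSpace.toSpec n A)).obj
    (DCoh.inD (ProjSpace n A) (Coh.structureModule (ProjSpace n A))) ≅
      DCoh.inD (Spec (CommRingCat.of A)) (Coh.structureModule (Spec (CommRingCat.of A)))) := by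
  obtain ⟨e⟩ := nonempty_RR_twist A n 0 0 (Or.inl ⟨rfl, rfl⟩)
  have hz : ProjPic26.tw n A 0 = 1 := by rw [ProjPic26.tw_eq_zpow, zpow_zero]
  obtain ⟨z⟩ := (Cube.clsMod_eq_one_iff _).1 hz
  exact ⟨(RR (ProjSpace.toSpec n A)).mapIso ((DerivedCategory.singleFunctor _ 0).mapIso z.symm) ≪≫
    ((shiftFunctorZero' (DCoh.D (Spec (CommRingCat.of A))) ((0 : ℕ) : ℤ) (by simp)).app _).symm ≪≫ e⟩

theorem isZero_MM_omegaP (d : ℕ) (h₁ : 1 ≤ d) (h₂ : d ≤ n) : IsZero ((MM n A d).obj (omegaP n A)) := by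
  haveI := RpushSupp20.hasInjectiveResolutions (ProjSpace n A)
  obtain ⟨g⟩ := GrTilde.nonempty_twist_tensor_twist (𝒜 := polyGrading n A) (ProjPic26.h1_polyGrading n A) (d : ℤ)
    (-((n : ℤ) + 1))
  let u : (TD (OO n A (d : ℤ))).obj (DCoh.inD (ProjSpace n A) (Twist.twistProjSpace n A (-((n : ℤ) + 1)))) ≅
      DCoh.inD (ProjSpace n A) (OO n A ((d : ℤ) + -((n : ℤ) + 1))) :=
    ((TT (OO n A (d : ℤ))).mapDerivedCategorySingleFunctor 0).app _ ≪≫
      (DerivedCategory.singleFunctor _ 0).mapIso g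
  refine IsZero.of_iso ?_ ((RR (ProjSpace.toSpec n A)).mapIso
    (((TD (OO n A (d : ℤ))).commShiftIso (n : ℤ)).app _ ≪≫ (shiftFunctor _ (n : ℤ)).mapIso u) ≪≫
      ((RR (ProjSpace.toSpec n A)).commShiftIso (n : ℤ)).app _)
  exact (shiftFunctor _ (n : ℤ)).map_isZero (isZero_RR_twist A n _ (by omega) (by omega) 0)

theorem isZero_MM_adjoint [DCoh.HasRpush (ProjSpace.toSpec n A)]
    (hf : DCoh.RpushPreservesQCoh (ProjSpace.toSpec n A))
    {a : DCoh.DQCoh (Spec (CommRingCat.of A)) ⥤ DCoh.DQCoh (ProjSpace n A)}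
    (adj : DCoh.RpushQ (ProjSpace.toSpec n A) hf ⊣ a) (O : DCoh.DQCoh (Spec (CommRingCat.of A)))
    (d : ℕ) (h₁ : 1 ≤ d) (h₂ : d ≤ n) : IsZero ((MM n A d).obj (a.obj O).obj) := by
  refine DerTrunc.isZero_of_forall _ fun j => (van_iff n A _ (a.obj O).property j d).1 fun φ => ?_
  have hS : DCoh.IsQCohD ((DerivedCategory.singleFunctor (ProjSpace n A).Modules j).obj (OO n A (-(d : ℤ)))) :=
    isQCohD_of_isPerfect (isPerfect_of_iso (isPerfect_shift (isPerfect_of_iso
      (isPerfect_single_of_finLocFree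
        (Euler.isFinLocFree_of_isInvertible (ProjPic26.isInvertible_twistProjSpace n A (-(d : ℤ)))))
      ((DerivedCategory.singleFunctorIsoCompQ _ 0).app _).symm) (-j))
      ((SingleFunctors.shiftIso (DerivedCategory.singleFunctors _) (-j) j 0 (by omega)).app _))
  let S : DCoh.DQCoh (ProjSpace n A) := ⟨_, hS⟩
  have hz : IsZero ((DCoh.Rpush (ProjSpace.toSpec n A)).obj S.obj) :=
    (isZero_RR_twist A n (-(d : ℤ)) (by omega) (by omega) j).of_iso ((rpushIsoRres _).app _)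
  have h3 : (adj.homEquiv S O).symm (ObjectProperty.homMk φ) = (adj.homEquiv S O).symm 0 :=
    ObjectProperty.hom_ext _ (hz.eq_of_src _ _)
  exact congrArg (fun g => InducedCategory.Hom.hom g) ((adj.homEquiv S O).symm.injective h3)

/-- **Duality for projective space over a ring.** -/
theorem nonempty_adjoint_projSpace [DCoh.HasRpush (ProjSpace.toSpec n A)]
    (hf : DCoh.RpushPreservesQCoh (ProjSpace.toSpec n A))
    {a : DCoh.DQCoh (Spec (CommRingCat.of A)) ⥤ DCoh.DQCoh (ProjSpace n A)}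
    (adj : DCoh.RpushQ (ProjSpace.toSpec n A) hf ⊣ a) (O : DCoh.DQCoh (Spec (CommRingCat.of A)))
    (hO : Nonempty (O.obj ≅ DCoh.inD (Spec (CommRingCat.of A)) (Coh.structureModule (Spec (CommRingCat.of A))))) :
    Nonempty ((a.obj O).obj ≅ omegaP n A) := by
  haveI : IsProper (ProjSpace.toSpec n A) := Chow.isProper_toSpec n A
  obtain ⟨eO⟩ := hO
  obtain ⟨t⟩ := nonempty_RR_omegaP n A
  obtain ⟨tX⟩ := nonempty_RR_structure n A
  obtain ⟨θ, hθ⟩ := exists_theta_affine (ProjSpace.toSpec n A) hf adj O ⟨_, isQCohD_omegaP n A⟩ (t ≪≫ eO.symm) tX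
  haveI := isIso_of_MM n A (isQCohD_omegaP n A) (a.obj O).property θ.hom hθ
    fun d h₁ h₂ => ⟨isZero_MM_omegaP n A d h₁ h₂, isZero_MM_adjoint n A hf adj O d h₁ h₂⟩
  exact ⟨(asIso θ.hom).symm⟩

end

end GrothLib.RightAdj22
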