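import Groth.Agent.Lib.RightAdj22.Proj
import Mathlib.Algebra.Homology.BifunctorShift

/-! # The projection map and shifts -/

set_option autoImplicit false
set_option maxHeartbeats 1000000
set_option linter.style.haveILetI false
universe u

open CategoryTheory CategoryTheory.Limits AlgebraicGeometry HomologicalComplex

noncomputable section

namespace GrothLib.RightAdj22

open GrothLib.OX GrothLib.ProjFormula

variable {X Y : Scheme.{u}} (f : X ⟶ Y)

/-- Shifting the first variable of a tensor product of complexes. -/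
def shiftTensIso {Z : Scheme.{u}} (P L : CochainComplex Z.Modules ℤ) (n : ℤ) :
    ((DCoh.tensorCx (X := Z)).obj (P⟦n⟧)).obj L ≅ (((DCoh.tensorCx (X := Z)).obj P).obj L)⟦n⟧ :=
  CochainComplex.mapBifunctorShift₁Iso P L (DCoh.tensorBi (X := Z)) n

theorem ι_shiftTensIso {Z : Scheme.{u}} (P L : CochainComplex Z.Modules ℤ) (n p q d : ℤ) (h : p + q = d)
    (h' : (p + n) + q = d + n) :
    (tensorBicx (P⟦n⟧) L).ιTotal (ComplexShape.up ℤ) p q d h ≫ (shiftTensIso P L n).hom.f d =
      (tensorBicx P L).ιTotal (ComplexShape.up ℤ) (p + n) q (d + n) h' := by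
  refine (CochainComplex.ι_mapBifunctorShift₁Iso_hom_f P L (DCoh.tensorBi (X := Z)) n p q d h (p + n) (d + n)
    rfl rfl).trans ?_
  exact (congrArg (fun t : DCoh.tensorBi.obj (P.X (p + n)) ⟶ DCoh.tensorBi.obj (P.X (p + n)) => t.app (L.X q) ≫
      (tensorBicx P L).ιTotal (ComplexShape.up ℤ) (p + n) q (d + n) h' ≫ 𝟙 _)
    ((DCoh.tensorBi (X := Z)).map_id (P.X (p + n)))).trans ((Category.id_comp _).trans (Category.comp_id _))

theorem ι_tensorCx_map {Z : Scheme.{u}} (P : CochainComplex Z.Modules ℤ) {L L' : CochainComplex Z.Modules ℤ}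
    (g : L ⟶ L') (p q d : ℤ) (h : p + q = d) :
    (tensorBicx P L).ιTotal (ComplexShape.up ℤ) p q d h ≫ (((DCoh.tensorCx (X := Z)).obj P).map g).f d =
      ((DCoh.tensorBi (X := Z)).obj (P.X p)).map (g.f q) ≫ (tensorBicx P L').ιTotal (ComplexShape.up ℤ) p q d h := by
  refine (HomologicalComplex.ι_mapBifunctorMap (𝟙 P) g (DCoh.tensorBi (X := Z)) (ComplexShape.up ℤ) p q d h).trans ?_
  exact (congrArg (fun t : DCoh.tensorBi.obj (P.X p) ⟶ DCoh.tensorBi.obj (P.X p) => t.app (L.X q) ≫ _)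
    ((DCoh.tensorBi (X := Z)).map_id (P.X p))).trans (Category.id_comp _)

theorem ι_tensorCx_map_left {Z : Scheme.{u}} {P P' : CochainComplex Z.Modules ℤ} (g : P ⟶ P')
    (L : CochainComplex Z.Modules ℤ) (p q d : ℤ) (h : p + q = d) :
    (tensorBicx P L).ιTotal (ComplexShape.up ℤ) p q d h ≫ (((DCoh.tensorCx (X := Z)).map g).app L).f d =
      ((DCoh.tensorBi (X := Z)).map (g.f p)).app (L.X q) ≫
        (tensorBicx P' L).ιTotal (ComplexShape.up ℤ) p q d h := by
  refine (HomologicalComplex.ι_mapBifunctorMap g (𝟙 L) (DCoh.tensorBi (X := Z)) (ComplexShape.up ℤ) p q d h).trans ?_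
  exact congrArg (_ ≫ ·) ((congrArg (· ≫ _) (CategoryTheory.Functor.map_id _ _)).trans (Category.id_comp _))

theorem ι_projCx (P : CochainComplex Y.Modules ℤ) (A : CochainComplex X.Modules ℤ) (p q d : ℤ) (h : p + q = d) :
    (tensorBicx P ((pushCxF f).obj A)).ιTotal (ComplexShape.up ℤ) p q d h ≫ (projCx f P A).f d =
      projHom f (P.X p) (A.X q) ≫ (Scheme.Modules.pushforward f).map
        ((tensorBicx ((pullCxF f).obj P) A).ιTotal (ComplexShape.up ℤ) p q d h) := by
  show _ ≫ (HomologicalComplex₂.total.map (projBicx f P A) (ComplexShape.up ℤ)).f d ≫ _ = _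
  rw [HomologicalComplex₂.ιTotal_map_assoc]
  exact congrArg (_ ≫ ·) ((TotalMap.mapBicx (Scheme.Modules.pushforward f) (tensorBicx ((pullCxF f).obj P) A)).ι_totalDesc
    (fun p q h => (Scheme.Modules.pushforward f).map
      ((tensorBicx ((pullCxF f).obj P) A).ιTotal (ComplexShape.up ℤ) p q d h)) p q h)

theorem shiftTensIso_natural {Z : Scheme.{u}} (P : CochainComplex Z.Modules ℤ) {L L' : CochainComplex Z.Modules ℤ}
    (g : L ⟶ L') (n : ℤ) :
    ((DCoh.tensorCx (X := Z)).obj (P⟦n⟧)).map g ≫ (shiftTensIso P L' n).hom =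
      (shiftTensIso P L n).hom ≫ (((DCoh.tensorCx (X := Z)).obj P).map g)⟦n⟧' := by
  refine HomologicalComplex.hom_ext _ _ fun d => HomologicalComplex₂.total.hom_ext _ fun p q h => ?_
  have h' : p + q = d := h
  have h'' : (p + n) + q = d + n := by omega
  refine (reassoc_of% (ι_tensorCx_map (P⟦n⟧) g p q d h')) _ |>.trans ?_
  refine (congrArg (_ ≫ ·) (ι_shiftTensIso P L' n p q d h' h'')).trans ?_
  refine Eq.trans ?_ ((reassoc_of% (ι_shiftTensIso P L n p q d h' h'')) _).symm
  exact (ι_tensorCx_map P g (p + n) q (d + n) h'').symm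

/-- **The projection map commutes with shifts of the first variable.** -/
theorem exists_projCx_shift (P : CochainComplex Y.Modules ℤ) (A : CochainComplex X.Modules ℤ) (n : ℤ) :
    ∃ τ : ((DCoh.tensorCx (X := X)).obj ((pullCxF f).obj (P⟦n⟧))).obj A ≅
        (((DCoh.tensorCx (X := X)).obj ((pullCxF f).obj P)).obj A)⟦n⟧,
      projCx f (P⟦n⟧) A ≫ (pushCxF f).map τ.hom ≫ ((pushCxF f).commShiftIso n).hom.app _ =
        (shiftTensIso P ((pushCxF f).obj A) n).hom ≫ (projCx f P A)⟦n⟧' := by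
  let c : (pullCxF f).obj (P⟦n⟧) ≅ ((pullCxF f).obj P)⟦n⟧ := ((pullCxF f).commShiftIso n).app P
  refine ⟨((DCoh.tensorCx (X := X)).mapIso c).app A ≪≫ shiftTensIso _ A n, ?_⟩
  refine HomologicalComplex.hom_ext _ _ fun d => HomologicalComplex₂.total.hom_ext _ fun p q h => ?_
  have h' : p + q = d := h
  have h'' : (p + n) + q = d + n := by omega
  refine (reassoc_of% (ι_projCx f (P⟦n⟧) A p q d h')) _ |>.trans ?_
  refine Eq.trans ?_ ((reassoc_of% (ι_shiftTensIso P ((pushCxF f).obj A) n p q d h' h'')) _).symm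
  refine Eq.trans ?_ (ι_projCx f P A (p + n) q (d + n) h'').symm
  refine (Category.assoc _ _ _).trans (congrArg (projHom f (P.X (p + n)) (A.X q) ≫ ·) ?_)
  have e1 := ι_tensorCx_map_left c.hom A p q d h'
  have hc : c.hom.f p = 𝟙 (((pullCxF f).obj (P⟦n⟧)).X p) := rfl
  have e2 : ((DCoh.tensorBi (X := X)).map (c.hom.f p)).app (A.X q) =
      𝟙 (((DCoh.tensorBi (X := X)).obj (((pullCxF f).obj (P⟦n⟧)).X p)).obj (A.X q)) :=
    (congrArg (fun t => ((DCoh.tensorBi (X := X)).map t).app (A.X q)) hc).trans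
      (congrArg (fun t : DCoh.tensorBi.obj (((pullCxF f).obj (P⟦n⟧)).X p) ⟶ DCoh.tensorBi.obj (((pullCxF f).obj (P⟦n⟧)).X p) => t.app (A.X q))
        ((DCoh.tensorBi (X := X)).map_id _))
  have e3 : (tensorBicx ((pullCxF f).obj (P⟦n⟧)) A).ιTotal (ComplexShape.up ℤ) p q d h' ≫
      ((((DCoh.tensorCx (X := X)).mapIso c).app A).hom.f d ≫
        (shiftTensIso ((pullCxF f).obj P) A n).hom.f d) =
      (tensorBicx ((pullCxF f).obj P) A).ιTotal (ComplexShape.up ℤ) (p + n) q (d + n) h'' :=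
    ((reassoc_of% e1) _).trans ((congrArg (· ≫ _) e2).trans
      ((Category.id_comp _).trans (ι_shiftTensIso _ A n p q d h' h'')))
  have hk : ((pushCxF f).commShiftIso n).hom.app (((DCoh.tensorCx (X := X)).obj ((pullCxF f).obj P)).obj A) =
      ((Scheme.Modules.pushforward f).mapCochainComplexShiftIso n).hom.app _ := rfl
  have hk' : (((pushCxF f).commShiftIso n).hom.app
      (((DCoh.tensorCx (X := X)).obj ((pullCxF f).obj P)).obj A)).f d = 𝟙 _ := by rw [hk]; rfl
  rw [HomologicalComplex.comp_f, hk']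
  exact ((congrArg (_ ≫ ·) (Category.comp_id _)).trans ((Scheme.Modules.pushforward f).map_comp _ _).symm).trans
    (congrArg (Scheme.Modules.pushforward f).map e3)

end GrothLib.RightAdj22
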