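import Groth.Agent.Lib.KSix19.ProjPush.PCTwists
import Groth.Agent.Lib.OX.AffinePush

/-! # Direct images of the twists that matter for duality on projective space -/

set_option autoImplicit false
set_option backward.isDefEq.respectTransparency false
set_option linter.style.haveILetI false
set_option maxHeartbeats 1000000
universe u

open CategoryTheory CategoryTheory.Limits AlgebraicGeometry HomologicalComplex
open scoped TensorProduct
attribute [local instance] HasDerivedCategory.standard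

noncomputable section

namespace GrothLib.RightAdj22

open CohB1 GrothLib.OX GrothLib.KSix19 GrothLib.KSix19.ProjPush

variable (A : Type u) [CommRing A]

/-- Sections of a higher direct image on an affine base are cohomology. -/
theorem exists_linearEquiv_Rpush {P : Scheme.{u}} (π : P ⟶ Spec (CommRingCat.of A)) [IsProper π] [CompactSpace P]
    [P.IsSeparated] [HasInjectiveResolutions P.Modules] (M : P.Modules) [M.IsQuasicoherent] (q : ℕ) :
    letI := BCCoh.modHH π M q
    Nonempty (Coh.HH P M q ≃ₗ[A]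
      ((moduleSpecΓFunctor (R := CommRingCat.of A)).obj ((Coh.Rpush π q).obj M) : ModuleCat.{u} A)) := by
  let S : Scheme.{u} := Spec (CommRingCat.of A)
  let hV : IsAffineOpen (⊤ : S.Opens) := isAffineOpen_top S
  let φ : A →+* Γ(S, ⊤) := (Scheme.ΓSpecIso (CommRingCat.of A)).inv.hom
  have hbij : Function.Bijective φ := ConcreteCategory.bijective_of_isIso (Scheme.ΓSpecIso (CommRingCat.of A)).inv
  have hφ : φ.Flat := RingHom.Flat.of_bijective hbij
  let j := (π ⁻¹ᵁ (⊤ : S.Opens)).ι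
  letI := φ.toAlgebra
  obtain ⟨eb⟩ := BCCoh.exists_flatBC φ hφ π (BCCoh.affBase π hV) j (exists_affBase_square A π) M q
  obtain ⟨er, her⟩ := BCCoh.exists_Rpush_equiv π hV M q
  let N : (Spec (CommRingCat.of A)).Modules := (Coh.Rpush π q).obj M
  haveI : N.IsQuasicoherent := Cohom.isQuasicoherent_Rpush π M q
  letI : Module A (Coh.HH (P) M q) := BCCoh.modHH π M q
  letI := BCCoh.modHH (A := Γ(S, (⊤ : S.Opens))) (BCCoh.affBase π hV) (M.restrict j) q
  letI := BCCoh.modHH (A := Γ(S, (⊤ : S.Opens))) (BCCoh.affBase π hV) ((Scheme.Modules.pullback j).obj M) q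
  letI : ((π ⁻¹ᵁ (⊤ : S.Opens) : P.Opens) : Scheme.{u}).Over (Spec (CommRingCat.of Γ(S, (⊤ : S.Opens)))) :=
    ⟨BCCoh.affBase π hV⟩
  obtain ⟨eη, -⟩ := FormalFn.exists_hh_equiv (A := Γ(S, (⊤ : S.Opens))) ((Scheme.Modules.restrictFunctorIsoPullback j).app M).symm q
  let E : Γ(S, (⊤ : S.Opens)) ⊗[A] Coh.HH (P) M q ≃ₗ[Γ(S, (⊤ : S.Opens))] Γ(N, (⊤ : S.Opens)) :=
    (eb.trans eη).trans (er.toLinearEquiv her)
  let Q : ModuleCat.{u} (CommRingCat.of A) := (moduleSpecΓFunctor (R := CommRingCat.of A)).obj N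
  let L : Coh.HH (P) M q →ₗ[A] Q :=
    { toFun := fun x => E (1 ⊗ₜ x)
      map_add' := fun x y => (congrArg E (TensorProduct.tmul_add _ _ _)).trans (map_add E _ _)
      map_smul' := fun r x => by
        show E (1 ⊗ₜ (r • x)) = φ r • E (1 ⊗ₜ x)
        rw [TensorProduct.tmul_smul, ← E.map_smul]
        exact congrArg E (algebraMap_smul Γ(S, (⊤ : S.Opens)) r _).symm }
  have hL : Function.Bijective L := E.bijective.comp
    (show Function.Bijective (fun x : Coh.HH (P) M q => (1 : Γ(S, (⊤ : S.Opens))) ⊗ₜ[A] x) from by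
      let a : A ≃ₗ[A] Γ(S, (⊤ : S.Opens)) := LinearEquiv.ofBijective (Algebra.linearMap A _) hbij
      have := ((TensorProduct.lid A (Coh.HH (P) M q)).symm.trans (TensorProduct.congr a (LinearEquiv.refl A (Coh.HH (P) M q)))).bijective
      convert this using 1
      funext x
      show _ = (algebraMap A Γ(S, (⊤ : S.Opens)) 1) ⊗ₜ[A] x
      rw [map_one])
  exact ⟨LinearEquiv.ofBijective L hL⟩

variable (n : ℕ)

/-- The higher direct images of a twist vanish outside the two exceptional degrees. -/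
theorem isZero_HD_RR_twist (d : ℤ) (j : ℤ) (h0 : ¬ (j = 0 ∧ 0 ≤ d)) (hn : ¬ (j = n ∧ d ≤ -((n : ℤ) + 1))) :
    IsZero (DCoh.HD ((RR (ProjSpace.toSpec n A)).obj (DCoh.inD (ProjSpace n A) (OO n A d))) j) := by
  let π := ProjSpace.toSpec n A
  let M := OO n A d
  haveI : IsProper π := Chow.isProper_toSpec n A
  haveI := RpushSupp20.hasInjectiveResolutions (ProjSpace n A)
  haveI : M.IsQuasicoherent := GrTilde.isQuasicoherent_twist _ _
  by_cases hj : j < 0
  · haveI : (DCoh.inD (ProjSpace n A) M).IsGE 0 :=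
      inferInstanceAs (((DerivedCategory.singleFunctor (ProjSpace n A).Modules 0).obj M).IsGE 0)
    haveI := ProjPush.isGE_RR π (DCoh.inD (ProjSpace n A) M) 0
    exact DerivedCategory.isZero_of_isGE _ 0 j hj
  obtain ⟨q, rfl⟩ : ∃ q : ℕ, (q : ℤ) = j := ⟨j.toNat, by omega⟩
  refine IsZero.of_iso ?_ (SiteDer.nonempty_homology_Rres_single (rmor π) M q).some
  refine RelVanish.isZero_Rpush_of_cover π M q (fun _ : Unit => ⊤) (fun _ => isAffineOpen_top _)
    (fun _ => ⟨(), trivial⟩) fun _ => ?_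
  haveI : Subsingleton (Coh.HH (ProjSpace n A) M q) :=
    ProjCohom.subsingleton_HH (n := n) (R := A) (d := d) (q := q) (fun h => h0 ⟨by omega, h.2⟩)
      (fun h => hn ⟨by omega, h.2⟩)
  exact (Cohom.HEquivTop (Coh.toAb M) q).symm.toEquiv.subsingleton

/-- The twists `O(d)`, `-n ≤ d ≤ -1`, have no direct image. -/
theorem isZero_RR_twist (d : ℤ) (h₁ : -(n : ℤ) ≤ d) (h₂ : d < 0) (a : ℤ) :
    IsZero ((RR (ProjSpace.toSpec n A)).obj
      ((DerivedCategory.singleFunctor (ProjSpace n A).Modules a).obj (OO n A d))) := by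
  haveI := RpushSupp20.hasInjectiveResolutions (ProjSpace n A)
  haveI : (SiteDer.Rres (rmor (ProjSpace.toSpec n A))).IsTriangulated :=
    SiteDer.isTriangulated_res_map (rmor (ProjSpace.toSpec n A)).push
  let u : (DCoh.inD _ (OO n A d))⟦-a⟧ ≅ (DerivedCategory.singleFunctor (ProjSpace n A).Modules a).obj (OO n A d) :=
    ((SingleFunctors.shiftIso (DerivedCategory.singleFunctors (ProjSpace n A).Modules) (-a) a 0 (by omega))).app _
  refine IsZero.of_iso ?_ ((RR _).mapIso u.symm ≪≫ ((RR (ProjSpace.toSpec n A)).commShiftIso (-a)).app _)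
  exact (shiftFunctor _ (-a)).map_isZero
    (DerTrunc.isZero_of_forall _ fun j => isZero_HD_RR_twist A n d j (by omega) (by omega))

/-- An exceptional higher direct image which is free of rank one. -/
theorem nonempty_RR_twist (d : ℤ) (q : ℕ) (hd : (q = 0 ∧ d = 0) ∨ (q = n ∧ d = -((n : ℤ) + 1))) :
    Nonempty (((RR (ProjSpace.toSpec n A)).obj (DCoh.inD (ProjSpace n A) (OO n A d)))⟦(q : ℤ)⟧ ≅
      DCoh.inD (Spec (CommRingCat.of A)) (Coh.structureModule (Spec (CommRingCat.of A)))) := by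
  let π := ProjSpace.toSpec n A
  let M := OO n A d
  let S : Scheme.{u} := Spec (CommRingCat.of A)
  haveI : IsProper π := Chow.isProper_toSpec n A
  haveI : CompactSpace (ProjSpace n A) := QuasiCompact.compactSpace_of_compactSpace π
  haveI : (ProjSpace n A).IsSeparated := inferInstanceAs (Proj (polyGrading n A)).IsSeparated
  haveI := RpushSupp20.hasInjectiveResolutions (ProjSpace n A)
  haveI : M.IsQuasicoherent := GrTilde.isQuasicoherent_twist _ _
  let R := (RR π).obj (DCoh.inD (ProjSpace n A) M)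
  have hz : ∀ j : ℤ, j ≠ q → IsZero (DCoh.HD R j) := fun j hj =>
    isZero_HD_RR_twist A n d j (by rcases hd with ⟨rfl, rfl⟩ | ⟨rfl, rfl⟩ <;> omega)
      (by rcases hd with ⟨rfl, rfl⟩ | ⟨rfl, rfl⟩ <;> omega)
  haveI : R.IsGE (q : ℤ) := (DerivedCategory.isGE_iff _ _).2 fun j hj => hz j (by omega)
  haveI : R.IsLE (q : ℤ) := (DerivedCategory.isLE_iff _ _).2 fun j hj => hz j (by omega)
  obtain ⟨N, ⟨e⟩⟩ := DerivedCategory.exists_iso_singleFunctor_obj_of_isGE_of_isLE R (q : ℤ)
  -- identify the module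
  let R' : S.Modules := (Coh.Rpush π q).obj M
  let eN : N ≅ R' := ((DerivedCategory.singleFunctorCompHomologyFunctorIso S.Modules (q : ℤ)).app N).symm ≪≫
    (DerivedCategory.homologyFunctor S.Modules (q : ℤ)).mapIso e.symm ≪≫
      (SiteDer.nonempty_homology_Rres_single (rmor π) M q).some
  haveI : R'.IsQuasicoherent := Cohom.isQuasicoherent_Rpush π M q
  haveI := Scheme.Modules.isIso_fromTildeΓ_of_isQuasicoherent (R := CommRingCat.of A) R'
  letI := BCCoh.modHH π M q
  obtain ⟨l⟩ := exists_linearEquiv_Rpush A π M q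
  haveI : Unique {P : Fin (n + 1) → ℕ // ∑ i, P i = 0} :=
    { default := ⟨0, by simp⟩
      uniq := fun P => Subtype.ext (funext fun i => by simpa using (Finset.sum_eq_zero_iff.1 P.2) i (Finset.mem_univ i)) }
  let f0 : MvPolynomial.homogeneousSubmodule (Fin (n + 1)) A 0 ≃ₗ[A] A :=
    (ProjCohom.formsEquiv (n := n) (R := A) 0).trans (LinearEquiv.funUnique _ A A)
  obtain ⟨f⟩ : Nonempty (Coh.HH (ProjSpace n A) M q ≃ₗ[A] A) := by
    rcases hd with ⟨rfl, rfl⟩ | ⟨hq, rfl⟩
    · obtain ⟨h⟩ := ProjCohom.nonempty_HH_zero (n := n) (R := A) 0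
      exact ⟨h.trans f0⟩
    · subst hq
      obtain ⟨h⟩ := ProjCohom.nonempty_HH_top (n := q) (R := A) 0
      rw [show -((q : ℤ) + 1 + ((0 : ℕ) : ℤ)) = -((q : ℤ) + 1) by push_cast; ring] at h
      exact ⟨h.trans f0⟩
  let eΓ : (moduleSpecΓFunctor (R := CommRingCat.of A)).obj R' ≅ ModuleCat.of (CommRingCat.of A) (CommRingCat.of A) :=
    LinearEquiv.toModuleIso (l.symm.trans f)
  let eR : N ≅ Coh.structureModule S := eN ≪≫
    (asIso (Scheme.Modules.fromTildeΓ (R := CommRingCat.of A) R')).symm ≪≫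
      (tilde.functor (CommRingCat.of A)).mapIso eΓ ≪≫ tildeSelf
  exact ⟨(shiftFunctor _ (q : ℤ)).mapIso (e ≪≫ (DerivedCategory.singleFunctor S.Modules (q : ℤ)).mapIso eR) ≪≫
    (SingleFunctors.shiftIso (DerivedCategory.singleFunctors S.Modules) (q : ℤ) 0 (q : ℤ) (by omega)).app _⟩

end GrothLib.RightAdj22
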