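import Groth.Agent.Lib.RightAdj22.QFun

/-! # The right adjoint of a proper direct image is local on the base, bounded below -/

set_option autoImplicit false
set_option maxHeartbeats 1000000
set_option linter.style.haveILetI false
universe u

open CategoryTheory CategoryTheory.Limits AlgebraicGeometry CategoryTheory.Pretriangulated

attribute [local instance] HasDerivedCategory.standard

noncomputable section

namespace GrothLib.RightAdj22

open GrothLib.OX

variable {X Y U V W : Scheme.{u}}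

/-- Restriction along an open immersion through its range. -/
def resDRangeIso (j : V ⟶ Y) [IsOpenImmersion j] :
    resD j ≅ resD j.opensRange.ι ⋙ resD j.isoOpensRange.hom :=
  resDCongrIso (Scheme.Hom.isoOpensRange_hom_ι j).symm ≪≫ (resDCompIso j.isoOpensRange.hom j.opensRange.ι).symm

theorem range_fst_eq {f : X ⟶ Y} {j : V ⟶ Y} {k : W ⟶ X} {f' : W ⟶ V} [IsOpenImmersion j] [IsOpenImmersion k]
    (h : IsPullback k f' f j) : k.opensRange = f ⁻¹ᵁ j.opensRange := by
  refine TopologicalSpace.Opens.ext (Set.ext fun x => ⟨?_, fun hx => ?_⟩)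
  · rintro ⟨w, rfl⟩
    exact ⟨f' w, by rw [← Scheme.Hom.comp_apply, ← Scheme.Hom.comp_apply, h.w]⟩
  · obtain ⟨v, hv⟩ := hx
    obtain ⟨w, hw, -⟩ := Scheme.Pullback.exists_preimage_pullback (f := f) (g := j) x v hv.symm
    exact ⟨h.isoPullback.inv w, by rw [← Scheme.Hom.comp_apply, IsPullback.isoPullback_inv_fst]; exact hw⟩

/-- **Base change along an open immersion.** -/
theorem nonempty_bcOpen {f : X ⟶ Y} {j : V ⟶ Y} {k : W ⟶ X} {f' : W ⟶ V} [IsOpenImmersion j] [IsOpenImmersion k]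
    (h : IsPullback k f' f j) : Nonempty (RR f ⋙ resD j ≅ resD k ⋙ RR f') := by
  let O := j.opensRange
  let e := j.isoOpensRange
  have hW : k.opensRange = f ⁻¹ᵁ O := range_fst_eq h
  let d : W ≅ (f ⁻¹ᵁ O : Scheme.{u}) := k.isoOpensRange ≪≫ X.isoOfEq hW
  have hd : d.hom ≫ (f ⁻¹ᵁ O).ι = k := by simp [d]
  have hsq : (f ∣_ O) ≫ e.inv = d.inv ≫ f' := by
    rw [Iso.eq_inv_comp, ← cancel_mono j, Category.assoc, Category.assoc, ← h.w,
      show e.inv ≫ j = O.ι from Scheme.Hom.isoOpensRange_inv_comp j, morphismRestrict_ι, ← Category.assoc, hd]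
  exact ⟨Functor.isoWhiskerLeft (RR f) (resDRangeIso j) ≪≫ (Functor.associator _ _ _).symm ≪≫
    Functor.isoWhiskerRight (resDRRBaseChange f O) (resD e.hom) ≪≫ Functor.associator _ _ _ ≪≫
    Functor.isoWhiskerLeft (resD (f ⁻¹ᵁ O).ι) (Functor.isoWhiskerLeft (RR (f ∣_ O)) (resDIsoRR e) ≪≫
      RRCompIso (f ∣_ O) e.inv ≪≫ RRCongr hsq ≪≫ (RRCompIso d.inv f').symm ≪≫
      Functor.isoWhiskerRight (resDIsoRR d).symm (RR f')) ≪≫
    (Functor.associator _ _ _).symm ≪≫
    Functor.isoWhiskerRight (resDCompIso d.hom (f ⁻¹ᵁ O).ι ≪≫ resDCongrIso hd) (RR f')⟩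

/-- Bounded below objects with quasi-coherent cohomology. -/
abbrev BQ (X : Scheme.{u}) := (Dual3.IsBddBelowQ X).FullSubcategory

/-- The inclusion into the derived category. -/
abbrev BQι (X : Scheme.{u}) : BQ X ⥤ DCoh.D X := Dual3.bddι X ⋙ ObjectProperty.ι DCoh.IsQCohD

/-- Restriction of bounded below objects. -/
abbrev resB (j : U ⟶ X) [IsOpenImmersion j] : BQ X ⥤ BQ U :=
  ObjectProperty.lift _ (Dual3.bddι X ⋙ resQ j) fun K =>
    let ⟨c, hc⟩ := K.property
    ⟨c, haveI := hc; KSix19.ProjPush.isGE_resD j K.obj.obj c⟩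

/-- The right adjoint on bounded below objects. -/
abbrev aB [IsNoetherian Y] (f : X ⟶ Y) [IsProper f] : BQ Y ⥤ BQ X :=
  ObjectProperty.lift _ (Dual3.bddι Y ⋙ aQ f) fun K =>
    let ⟨c, hc⟩ := K.property
    let ⟨N, hN⟩ := exists_isGE_aQ f
    ⟨c - N, hN K.obj c hc⟩

section

variable {Z : Scheme.{u}} [IsNoetherian Y] [IsNoetherian Z]

/-- The right adjoint of a composite. -/
def aBComp (f : X ⟶ Z) (g : Z ⟶ Y) [IsProper f] [IsProper g] : aB (f ≫ g) ≅ aB g ⋙ aB f :=
  NatIso.ofComponents (fun K => (Dual3.IsBddBelowQ X).isoMk ((aQComp f g).app K.obj))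
    fun {A B} φ => ObjectProperty.hom_ext _ ((aQComp f g).hom.naturality φ.hom)

omit [AlgebraicGeometry.IsNoetherian Z] in
/-- Equal morphisms. -/
def aBCongr {f g : X ⟶ Y} [IsProper f] [IsProper g] (h : f = g) : aB f ≅ aB g :=
  NatIso.ofComponents (fun K => (Dual3.IsBddBelowQ X).isoMk ((aQCongr h).app K.obj))
    fun {A B} φ => ObjectProperty.hom_ext _ ((aQCongr h).hom.naturality φ.hom)

omit [AlgebraicGeometry.IsNoetherian Z] in
/-- The identity. -/
def aBId : aB (𝟙 Y) ≅ 𝟭 (BQ Y) :=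
  NatIso.ofComponents (fun K => (Dual3.IsBddBelowQ Y).isoMk (aQId.app K.obj))
    fun {A B} φ => ObjectProperty.hom_ext _ ((aQId (Y := Y)).hom.naturality φ.hom)

end

/-- Restrictions compose. -/
def resBComp (j' : W ⟶ U) (j : U ⟶ X) [IsOpenImmersion j] [IsOpenImmersion j'] :
    resB j ⋙ resB j' ≅ resB (j' ≫ j) :=
  NatIso.ofComponents (fun K => (Dual3.IsBddBelowQ W).isoMk
      ((DCoh.IsQCohD (X := W)).isoMk ((resDCompIso j' j).app K.obj.obj)))
    fun {A B} φ => ObjectProperty.hom_ext _ (ObjectProperty.hom_ext _ ((resDCompIso j' j).hom.naturality φ.hom.hom))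

/-- Equal open immersions. -/
def resBCongr {j j' : U ⟶ X} [IsOpenImmersion j] [IsOpenImmersion j'] (h : j = j') : resB j ≅ resB j' :=
  NatIso.ofComponents (fun K => (Dual3.IsBddBelowQ U).isoMk
      ((DCoh.IsQCohD (X := U)).isoMk ((resDCongrIso h).app K.obj.obj)))
    fun {A B} φ => ObjectProperty.hom_ext _ (ObjectProperty.hom_ext _ ((resDCongrIso h).hom.naturality φ.hom.hom))

/-- Restriction along the identity. -/
def resBId (X : Scheme.{u}) : resB (𝟙 X) ≅ 𝟭 (BQ X) :=
  NatIso.ofComponents (fun K => (Dual3.IsBddBelowQ X).isoMk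
      ((DCoh.IsQCohD (X := X)).isoMk ((resDIdIso X).app K.obj.obj)))
    fun {A B} φ => ObjectProperty.hom_ext _ (ObjectProperty.hom_ext _ ((resDIdIso X).hom.naturality φ.hom.hom))

/-- **The right adjoint commutes with restriction to opens of the base, bounded below.** -/
theorem nonempty_restrict [IsNoetherian Y] [IsNoetherian V] {f : X ⟶ Y} {j : V ⟶ Y} {k : W ⟶ X} {f' : W ⟶ V}
    [IsProper f] [IsProper f'] [IsOpenImmersion j] [IsOpenImmersion k] (h : IsPullback k f' f j) :
    Nonempty (aB f ⋙ resB k ≅ resB j ⋙ aB f') := by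
  haveI : IsLocallyNoetherian X := LocallyOfFiniteType.isLocallyNoetherian f
  obtain ⟨bc⟩ := nonempty_bcOpen h
  let bcQ : resQ k ⋙ RRQ f' ≅ RRQ f ⋙ resQ j :=
    NatIso.ofComponents (fun K => (DCoh.IsQCohD (X := V)).isoMk (bc.symm.app K.obj))
      fun {A B} φ => ObjectProperty.hom_ext _ (bc.inv.naturality φ.hom)
  let u : aQ f' ⋙ RRQ k ≅ RRQ j ⋙ aQ f :=
    (((resQAdj k).comp (aQAdj f')).ofNatIsoLeft bcQ).rightAdjointUniq ((aQAdj f).comp (resQAdj j))
  let θ : ∀ K : DCoh.DQCoh Y, (resQ k).obj ((aQ f).obj K) ⟶ (aQ f').obj ((resQ j).obj K) := fun K =>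
    (resQ k).map ((aQ f).map ((resQAdj j).unit.app K) ≫ u.inv.app ((resQ j).obj K)) ≫
      (resQAdj k).counit.app ((aQ f').obj ((resQ j).obj K))
  have hθ : ∀ {K L : DCoh.DQCoh Y} (φ : K ⟶ L),
      (resQ k).map ((aQ f).map φ) ≫ θ L = θ K ≫ (aQ f').map ((resQ j).map φ) := fun {K L} φ => by
    have h1 : φ ≫ (resQAdj j).unit.app L = (resQAdj j).unit.app K ≫ (RRQ j).map ((resQ j).map φ) :=
      (resQAdj j).unit.naturality φ
    have h2 : (aQ f).map ((RRQ j).map ((resQ j).map φ)) ≫ u.inv.app ((resQ j).obj L) =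
        u.inv.app ((resQ j).obj K) ≫ (RRQ k).map ((aQ f').map ((resQ j).map φ)) := u.inv.naturality _
    have h3 : (resQ k).map ((RRQ k).map ((aQ f').map ((resQ j).map φ))) ≫ (resQAdj k).counit.app _ =
        (resQAdj k).counit.app _ ≫ (aQ f').map ((resQ j).map φ) := (resQAdj k).counit.naturality _
    have h4 : (aQ f).map φ ≫ (aQ f).map ((resQAdj j).unit.app L) ≫ u.inv.app ((resQ j).obj L) =
        ((aQ f).map ((resQAdj j).unit.app K) ≫ u.inv.app ((resQ j).obj K)) ≫
          (RRQ k).map ((aQ f').map ((resQ j).map φ)) := by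
      rw [← Functor.map_comp_assoc, h1, Functor.map_comp, Category.assoc, h2, Category.assoc]
    simp only [θ]
    rw [← Functor.map_comp_assoc, h4, Functor.map_comp, Category.assoc, h3, Category.assoc]
  refine ⟨NatIso.ofComponents (fun K => (Dual3.IsBddBelowQ W).isoMk
    (@asIso _ _ _ _ (θ K.obj) ?_)) fun {A B} φ => ObjectProperty.hom_ext _ (hθ φ.hom)⟩
  obtain ⟨c, hc⟩ := K.property
  haveI := hc
  let η := (resQAdj j).unit.app K.obj
  haveI : IsIso ((resQAdj k).counit.app ((aQ f').obj ((resQ j).obj K.obj))) := isIso_resQAdj_counit k _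
  suffices IsIso ((resQ k).map ((aQ f).map η)) by
    simp only [θ]
    rw [Functor.map_comp]
    infer_instance
  suffices IsIso ((resD k).map ((aQ f).map η).hom) by
    haveI : IsIso ((DCoh.IsQCohD (X := W)).ι.map ((resQ k).map ((aQ f).map η))) := this
    exact isIso_of_fully_faithful (DCoh.IsQCohD (X := W)).ι _
  obtain ⟨C, g, d, hT⟩ := distinguished_cocone_triangle η
  have hT' := (DCoh.IsQCohD (X := Y)).ι.map_distinguished _ hT
  obtain ⟨d', hd'⟩ := exists_triangle_aQ f hT
  haveI hη : IsIso ((resD j).map η.hom) := by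
    have e : η.hom = (resDAdj j).unit.app K.obj.obj := by
      change (DCoh.IsQCohD (X := Y)).ι.map ((resQAdj j).unit.app K.obj) = _
      simp only [resQAdj]
      rw [Adjunction.map_restrictFullyFaithful_unit_app]
      simp
      exact (congrArg (_ ≫ ·) ((RR j).map_id _)).trans (Category.comp_id _)
    rw [e]
    exact isIso_resD_unit j _
  have hC : IsZero ((resD j).obj C.obj) :=
    (Triangle.isZero₃_iff_isIso₁ _ ((resD j).map_distinguished _ hT')).2 hη
  haveI : ((RR j).obj ((resD j).obj K.obj.obj)).IsGE c := by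
    haveI := KSix19.ProjPush.isGE_resD j K.obj.obj c
    exact KSix19.ProjPush.isGE_RR j _ c
  have h5 : ((RR j).obj ((resD j).obj K.obj.obj)).IsGE (c - 1) :=
    (DerivedCategory.TStructure.t (C := Y.Modules)).isGE_of_ge _ (c - 1) c (by omega)
  haveI : C.obj.IsGE (c - 1) := by
    refine (DerivedCategory.TStructure.t (C := Y.Modules)).isGE₂ _ (rot_of_distTriang _ hT') (c - 1) ?_ ?_
    · exact h5
    · exact (DerivedCategory.TStructure.t (C := Y.Modules)).isGE_shift K.obj.obj c 1 (c - 1) (by omega)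
  have hV : IsCompact ((j.opensRange : Y.Opens) : Set Y) := TopologicalSpace.NoetherianSpace.isCompact _
  have hz := isZero_resD_aQ f j.opensRange hV C (c - 1)
    (isZero_resD_of_le j.opensRange.ι j (by simp) hC)
  refine (Triangle.isZero₃_iff_isIso₁ _ ((resD k).map_distinguished _ hd')).1 ?_
  refine isZero_resD_of_le k (f ⁻¹ᵁ j.opensRange).ι ?_ hz
  rw [Scheme.Opens.range_ι, ← range_fst_eq h]
  rfl

end GrothLib.RightAdj22
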