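import Groth.Agent.Lib.RightAdj22.Univ
import Groth.Agent.Lib.RightAdj22.ProjShift
import Groth.Agent.Lib.RightAdj22.Adjoint
import Groth.Agent.Lib.KSix19.BettiExact.Proj
import Groth.Agent.Lib.Detect22.PerfectDetect

/-! # The comparison map between the right adjoint and `Lf^*(-) ⊗^L a(O)` -/

set_option autoImplicit false
set_option maxHeartbeats 1000000
set_option linter.style.haveILetI false
universe u

open CategoryTheory CategoryTheory.Limits AlgebraicGeometry HomologicalComplex

attribute [local instance] HasDerivedCategory.standard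

noncomputable section

namespace GrothLib.RightAdj22

open GrothLib.OX GrothLib.ProjFormula GrothLib.KSix19.BettiExact

variable {X Y : Scheme.{u}}

/-- A natural transformation on K-flat complexes extends to `D_qc`. -/
theorem exists_natTrans_of_kflat {C : Type*} [Category C] (H₁ H₂ : DCoh.D Y ⥤ C)
    (τ : (kfq Y).ι ⋙ DerivedCategory.Q ⋙ H₁ ⟶ (kfq Y).ι ⋙ DerivedCategory.Q ⋙ H₂) :
    ∃ T : (DCoh.IsQCohD (X := Y)).ι ⋙ H₁ ⟶ (DCoh.IsQCohD (X := Y)).ι ⋙ H₂,
      ∀ z : (kfq Y).FullSubcategory, T.app ⟨DerivedCategory.Q.obj z.obj, z.property.2⟩ = τ.app z := by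
  have key : ∀ (P L : (kfq Y).FullSubcategory) (g : DerivedCategory.Q.obj P.obj ⟶ DerivedCategory.Q.obj L.obj),
      H₁.map g ≫ τ.app L = τ.app P ≫ H₂.map g := fun P L g => by
    obtain ⟨Z, s, hs, t, ht⟩ := DerivedCategory.right_fac g
    have : QuasiIso s := (DerivedCategory.isIso_Q_map_iff_quasiIso _ s).1 hs
    obtain ⟨Z', r, hZ', -, hr, -⟩ := exists_kflat_resolution Z
    let z : (kfq Y).FullSubcategory := ⟨Z', hZ', isQCohD_of_iso'
      (asIso (DerivedCategory.Q.map (r ≫ s))).symm P.property.2⟩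
    have hh : DerivedCategory.Q.map (r ≫ s) ≫ g = DerivedCategory.Q.map (r ≫ t) := by
      rw [ht, Functor.map_comp, Functor.map_comp, Category.assoc, IsIso.hom_inv_id_assoc]
    have n₁ : H₁.map (DerivedCategory.Q.map (r ≫ s)) ≫ τ.app P =
        τ.app z ≫ H₂.map (DerivedCategory.Q.map (r ≫ s)) := τ.naturality (ObjectProperty.homMk (r ≫ s) : z ⟶ P)
    have n₂ : H₁.map (DerivedCategory.Q.map (r ≫ t)) ≫ τ.app L =
        τ.app z ≫ H₂.map (DerivedCategory.Q.map (r ≫ t)) := τ.naturality (ObjectProperty.homMk (r ≫ t) : z ⟶ L)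
    rw [← cancel_epi (H₁.map (DerivedCategory.Q.map (r ≫ s))), ← Functor.map_comp_assoc, hh, n₂, reassoc_of% n₁,
      ← Functor.map_comp, hh]
  have hrep : ∀ K : (DCoh.IsQCohD (X := Y)).FullSubcategory,
      ∃ P : (kfq Y).FullSubcategory, Nonempty (DerivedCategory.Q.obj P.obj ≅ K.obj) := fun K => by
    obtain ⟨P, hP, ⟨a⟩⟩ := exists_kflat_rep K.obj
    exact ⟨⟨P, hP, isQCohD_of_iso' a.symm K.property⟩, ⟨a⟩⟩
  choose P hP using hrep
  let a := fun K => (hP K).some
  refine ⟨{ app := fun K => H₁.map (a K).inv ≫ τ.app (P K) ≫ H₂.map (a K).hom, naturality := ?_ }, fun z => ?_⟩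
  · intro K L g
    show H₁.map g.hom ≫ H₁.map (a L).inv ≫ τ.app (P L) ≫ H₂.map (a L).hom =
      (H₁.map (a K).inv ≫ τ.app (P K) ≫ H₂.map (a K).hom) ≫ H₂.map g.hom
    have k := key (P K) (P L) ((a K).hom ≫ g.hom ≫ (a L).inv)
    have e1 : H₁.map g.hom ≫ H₁.map (a L).inv = H₁.map (a K).inv ≫ H₁.map ((a K).hom ≫ g.hom ≫ (a L).inv) := by
      rw [← Functor.map_comp, ← Functor.map_comp, Iso.inv_hom_id_assoc]
    rw [reassoc_of% e1, reassoc_of% k, Category.assoc, Category.assoc, ← Functor.map_comp, ← Functor.map_comp,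
      Category.assoc, Category.assoc, Iso.inv_hom_id, Category.comp_id]
  · show H₁.map (a ⟨_, z.property.2⟩).inv ≫ τ.app _ ≫ H₂.map (a ⟨_, z.property.2⟩).hom = τ.app z
    rw [← key, ← Functor.map_comp_assoc, Iso.inv_hom_id, CategoryTheory.Functor.map_id, Category.id_comp]

variable (f : X ⟶ Y)

/-- The derived push-forward, kept folded. -/
def RRd : DCoh.D X ⥤ DCoh.D Y := RR f

/-- From the push-forward of a complex to the derived push-forward. -/
def pushToRR (K : CochainComplex X.Modules ℤ) :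
    DerivedCategory.Q.obj ((pushCxF f).obj K) ⟶ (RRd f).obj (DerivedCategory.Q.obj K) :=
  (DerivedCategory.quotientCompQhIso Y.Modules).inv.app _ ≫ pushUnit f K ≫
    (RRd f).map ((DerivedCategory.quotientCompQhIso X.Modules).hom.app K)

theorem pushToRR_natural {K K' : CochainComplex X.Modules ℤ} (g : K ⟶ K') :
    DerivedCategory.Q.map ((pushCxF f).map g) ≫ pushToRR f K' =
      pushToRR f K ≫ (RRd f).map (DerivedCategory.Q.map g) := by
  have e1 := (DerivedCategory.quotientCompQhIso Y.Modules).inv.naturality ((pushCxF f).map g)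
  have e2 := pushUnit_naturality f g
  have e3 : (RRd f).map (DerivedCategory.Qh.map ((HomotopyCategory.quotient _ _).map g)) ≫
      (RRd f).map ((DerivedCategory.quotientCompQhIso X.Modules).hom.app K') =
      (RRd f).map ((DerivedCategory.quotientCompQhIso X.Modules).hom.app K) ≫ (RRd f).map (DerivedCategory.Q.map g) := by
    rw [← Functor.map_comp, ← Functor.map_comp]
    exact congrArg _ ((DerivedCategory.quotientCompQhIso X.Modules).hom.naturality g)
  unfold pushToRR
  refine (Category.assoc _ _ _).symm.trans ?_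
  refine (congrArg (· ≫ _) e1).trans ?_
  refine (Category.assoc _ _ _).trans ?_
  refine Eq.trans (congrArg (_ ≫ ·) ?_) (Category.assoc _ _ _).symm
  refine (Category.assoc _ _ _).symm.trans ((congrArg (· ≫ _) e2).trans ((Category.assoc _ _ _).trans
    ((congrArg (_ ≫ ·) e3).trans (Category.assoc _ _ _).symm)))

theorem isIso_pushToRR {K : CochainComplex X.Modules ℤ} [K.IsKInjective] : IsIso (pushToRR f K) := by
  have hu : IsIso (pushUnit f K) := map_isIso_of (DCoh.pushKh f)
    (KInj.isIso_unit_of_rightOrthogonal (CochainComplex.IsKInjective.rightOrthogonal K))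
  unfold pushToRR
  exact IsIso.comp_isIso' inferInstance (IsIso.comp_isIso' hu
    ((RRd f).mapIso ((DerivedCategory.quotientCompQhIso X.Modules).app K)).isIso_hom)

theorem isIso_of_hom_bijective {C : Type*} [Category C] {A B : C} (g : A ⟶ B)
    (h : ∀ M : C, Function.Bijective fun x : M ⟶ A => x ≫ g) : IsIso g := by
  obtain ⟨s, hs⟩ := (h B).2 (𝟙 B)
  exact ⟨s, (h A).1 ((Category.assoc _ _ _).trans ((congrArg (g ≫ ·) hs).trans
    ((Category.comp_id _).trans (Category.id_comp _).symm))), hs⟩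

/-- `O ⊗ -` is the identity, on complexes. -/
def unitTensIso (Z : Scheme.{u}) : (DCoh.tensorCx (X := Z)).obj (unitCx Z) ≅ 𝟭 _ :=
  (tensorFlipIso (unitCx Z)).symm ≪≫ singleUnitNatIso (X := Z)

variable [QuasiCompact f] [QuasiSeparated f]

/-- **The comparison map, with universal components at the shifts of the structure sheaf.** -/
theorem exists_theta [DCoh.HasRpush f] (hf : DCoh.RpushPreservesQCoh f)
    {a : DCoh.DQCoh Y ⥤ DCoh.DQCoh X} (adj : DCoh.RpushQ f hf ⊣ a) (O : DCoh.DQCoh Y)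
    (hO : Nonempty (O.obj ≅ DCoh.inD Y (Coh.structureModule Y))) [DCoh.HasLpull f]
    (E : CochainComplex X.Modules ℤ) (hE : Nonempty (DCoh.toD X E ≅ (a.obj O).obj)) [DCoh.HasLTensorCx E] :
    ∃ θ : ObjectProperty.ι _ ⋙ DCoh.Lpull f ⋙ DCoh.LTensorCx E ⟶ a ⋙ ObjectProperty.ι _,
      ∀ (n : ℤ) (h : DCoh.IsQCohD (DerivedCategory.Q.obj ((unitCx Y)⟦n⟧))), IsIso (θ.app ⟨_, h⟩) := by
  obtain ⟨hO⟩ := hO
  obtain ⟨hE⟩ := hE
  obtain ⟨A, α, hα, hA, hA'⟩ := KInj.exists_kInjective_resolution (A := X.Modules) E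
  let eA : DerivedCategory.Q.obj A ≅ DerivedCategory.Q.obj E := (asIso (DerivedCategory.Q.map α)).symm
  have hEq : DCoh.IsQCohD (DerivedCategory.Q.obj E) := isQCohD_of_iso' hE.symm (a.obj O).property
  have hAq : DCoh.IsQCohD (DerivedCategory.Q.obj A) := isQCohD_of_iso' eA.symm hEq
  have hAk : kiq X A := ⟨⟨hA', hA⟩, hAq⟩
  haveI := hAk.1.kInj
  obtain ⟨J, i₀, hi₀, hJ, -⟩ := KInj.exists_kInjective_resolution (A := Y.Modules) (unitCx Y)
  haveI := hJ
  haveI := hi₀
  haveI := hasLTensorCx A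
  let uX : ((DCoh.tensorCx (X := X)).obj ((pullCxF f).obj (unitCx Y))).obj A ≅ A :=
    ((DCoh.tensorCx (X := X)).mapIso
      (((singleMapHomologicalComplex (Scheme.Modules.pullback f) (ComplexShape.up ℤ) 0).app _) ≪≫
        (single _ _ 0).mapIso (pullUnitIso f) : (pullCxF f).obj (unitCx Y) ≅ unitCx X)).app A ≪≫
      (unitTensIso X).app A
  let uY := unitTensIso Y
  have hU : DCoh.IsKFlat (unitCx Y) := isKFlat_single _ (flat_structureModule _) 0
  have hUn : ∀ n : ℤ, DCoh.IsKFlat ((unitCx Y)⟦n⟧) := fun n => isKFlat_shift hU n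
  have hUq : DCoh.IsQCohD (DerivedCategory.Q.obj (unitCx Y)) :=
    isQCohD_of_iso' (hO ≪≫ (unitCxQIso Y).symm) O.property
  have hE' : ∀ P : (kfq Y).FullSubcategory,
      IsIso (DerivedCategory.Q.map (projCx f P.obj A) ≫ pushToRR f _) := fun P => by
    have h := isIso_projD_of_isQCohD f A hAk.1 hAq P.obj P.property.1 P.property.2
    have e : DerivedCategory.Q.map (projCx f P.obj A) ≫ pushToRR f _ =
        (DerivedCategory.quotientCompQhIso Y.Modules).inv.app _ ≫ projD f P.obj A ≫
          (RRd f).map ((DerivedCategory.quotientCompQhIso X.Modules).hom.app _) := by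
      simp only [pushToRR, projD, Category.assoc]
      exact ((Category.assoc _ _ _).symm.trans ((congrArg (· ≫ _)
        ((DerivedCategory.quotientCompQhIso Y.Modules).inv.naturality (projCx f P.obj A))).trans (Category.assoc _ _ _)))
    rw [e]
    exact IsIso.comp_isIso' inferInstance (IsIso.comp_isIso' h
      ((RRd f).mapIso ((DerivedCategory.quotientCompQhIso X.Modules).app _)).isIso_hom)
  -- universality of `d₀`
  obtain ⟨d₀, hd₀⟩ := exists_uni_counit f hf adj O A hAk (eA ≪≫ hE)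
  -- the component at the structure sheaf fixes `b`
  let P₀ : (kfq Y).FullSubcategory := ⟨unitCx Y, hU, hUq⟩
  have hp₀ : IsIso (DerivedCategory.Q.map (projCx f (unitCx Y) A)) := by
    have h1 : IsIso (pushToRR f (((DCoh.tensorCx (X := X)).obj ((pullCxF f).obj (unitCx Y))).obj A)) := by
      haveI := isIso_pushToRR f (K := A)
      haveI : IsIso (DerivedCategory.Q.map ((pushCxF f).map uX.hom) ≫ pushToRR f A) := inferInstance
      rw [pushToRR_natural] at this
      exact IsIso.of_isIso_comp_right _ ((RRd f).map (DerivedCategory.Q.map uX.hom))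
    haveI := hE' P₀
    exact IsIso.of_isIso_comp_right _ (pushToRR f (((DCoh.tensorCx (X := X)).obj ((pullCxF f).obj (unitCx Y))).obj A))
  let ν : DerivedCategory.Q.obj ((pushCxF f).obj A) ≅ DerivedCategory.Q.obj ((pushCxF f).obj A) :=
    DerivedCategory.Q.mapIso ((pushCxF f).mapIso uX.symm) ≪≫ (@asIso _ _ _ _ _ hp₀).symm ≪≫
      DerivedCategory.Q.mapIso (uY.app ((pushCxF f).obj A))
  let eJ : O.obj ≅ DerivedCategory.Q.obj J :=
    hO ≪≫ (unitCxQIso Y).symm ≪≫ asIso (DerivedCategory.Q.map i₀)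
  obtain ⟨b, hb⟩ := exists_Q_map ((pushCxF f).obj A) J (ν.inv ≫ d₀ ≫ eJ.hom)
  -- the natural transformation on K-flat complexes
  let Zf : (kfq Y).FullSubcategory ⥤ CochainComplex X.Modules ℤ :=
    (kfq Y).ι ⋙ pullCxF f ⋙ (DCoh.tensorCx (X := X)).flip.obj A
  obtain ⟨c₅⟩ := nonempty_lpull_kflat (X := X) (Y := Y) f
  obtain ⟨c⟩ := nonempty_ltensorCx_congr_of_iso (E := E) (E' := A) eA.symm
  obtain ⟨c₃⟩ := nonempty_ltensor_pull_counit f A
  let lam : (kfq Y).ι ⋙ DerivedCategory.Q ⋙ DCoh.Lpull f ⋙ DCoh.LTensorCx E ≅ Zf ⋙ DerivedCategory.Q :=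
    Functor.isoWhiskerRight c₅ (DCoh.LTensorCx E) ≪≫
      Functor.isoWhiskerLeft ((kfq Y).ι ⋙ pullCxF f ⋙ DerivedCategory.Q) c ≪≫ c₃
  let r : DCoh.Rpush f ≅ RRd f := rpushIsoRres f
  have hi : ∀ P : (kfq Y).FullSubcategory, IsIso (DerivedCategory.Q.map (((DCoh.tensorCx (X := Y)).obj P.obj).map i₀)) :=
    fun P => haveI := quasiIso_tensor_map_of_isKFlat i₀ P.obj P.property.1; inferInstance
  let uP : ∀ P : (kfq Y).FullSubcategory,
      DerivedCategory.Q.obj (((DCoh.tensorCx (X := Y)).obj P.obj).obj (unitCx Y)) ≅ DerivedCategory.Q.obj P.obj :=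
    fun P => DerivedCategory.Q.mapIso ((singleUnitNatIso (X := Y)).app P.obj)
  let eps : ∀ P : (kfq Y).FullSubcategory,
      DerivedCategory.Q.obj (((DCoh.tensorCx (X := Y)).obj P.obj).obj ((pushCxF f).obj A)) ⟶ DerivedCategory.Q.obj P.obj :=
    fun P => haveI := hi P
      DerivedCategory.Q.map (((DCoh.tensorCx (X := Y)).obj P.obj).map b) ≫
        inv (DerivedCategory.Q.map (((DCoh.tensorCx (X := Y)).obj P.obj).map i₀)) ≫ (uP P).hom
  let e' := fun P : (kfq Y).FullSubcategory => @asIso _ _ _ _ _ (hE' P)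
  let κ : (kfq Y).ι ⋙ DerivedCategory.Q ⋙ (DCoh.Lpull f ⋙ DCoh.LTensorCx E ⋙ DCoh.Rpush f) ⟶
      (kfq Y).ι ⋙ DerivedCategory.Q ⋙ 𝟭 _ :=
    { app := fun P => r.hom.app _ ≫ (RRd f).map (lam.hom.app P) ≫ (e' P).inv ≫ eps P
      naturality := fun P P' g => by
        have n₁ := r.hom.naturality ((DCoh.LTensorCx E).map ((DCoh.Lpull f).map (DerivedCategory.Q.map g.hom)))
        have n₂ : (RRd f).map ((DCoh.LTensorCx E).map ((DCoh.Lpull f).map (DerivedCategory.Q.map g.hom))) ≫
            (RRd f).map (lam.hom.app P') = (RRd f).map (lam.hom.app P) ≫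
              (RRd f).map (DerivedCategory.Q.map (Zf.map g)) := by
          rw [← Functor.map_comp, ← Functor.map_comp]
          exact congrArg _ (lam.hom.naturality g)
        let wY := DerivedCategory.Q.map (((DCoh.tensorCx (X := Y)).map g.hom).app ((pushCxF f).obj A))
        have n₃ : wY ≫ (e' P').hom = (e' P).hom ≫ (RRd f).map (DerivedCategory.Q.map (Zf.map g)) := by
          refine (Category.assoc _ _ _).symm.trans ((congrArg (· ≫ _)
            (((DerivedCategory.Q.map_comp _ _).symm.trans (congrArg _ (projCx_natural f g.hom A))).trans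
              (DerivedCategory.Q.map_comp _ _))).trans ((Category.assoc _ _ _).trans ?_))
          exact (congrArg (_ ≫ ·) (pushToRR_natural f _)).trans (Category.assoc _ _ _).symm
        have n₄ : wY ≫ eps P' = eps P ≫ DerivedCategory.Q.map g.hom := by
          have sw : ∀ {K L : CochainComplex Y.Modules ℤ} (s : K ⟶ L),
              ((DCoh.tensorCx (X := Y)).map g.hom).app K ≫ ((DCoh.tensorCx (X := Y)).obj P'.obj).map s =
                ((DCoh.tensorCx (X := Y)).obj P.obj).map s ≫ ((DCoh.tensorCx (X := Y)).map g.hom).app L := fun s =>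
            (((DCoh.tensorCx (X := Y)).map g.hom).naturality s).symm
          have hs := fun {K L : CochainComplex Y.Modules ℤ} (s : K ⟶ L) =>
            congrArg DerivedCategory.Q.map (sw s)
          simp only [Functor.map_comp] at hs
          have hu : DerivedCategory.Q.map (((DCoh.tensorCx (X := Y)).map g.hom).app (unitCx Y)) ≫ (uP P').hom =
              (uP P).hom ≫ DerivedCategory.Q.map g.hom :=
            ((DerivedCategory.Q.map_comp _ _).symm.trans
              (congrArg _ ((singleUnitNatIso (X := Y)).hom.naturality g.hom))).trans (DerivedCategory.Q.map_comp _ _)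
          haveI := hi P
          haveI := hi P'
          simp only [eps, wY, Category.assoc]
          rw [reassoc_of% (hs b), ← hu]
          refine congrArg (_ ≫ ·) ?_
          rw [IsIso.eq_inv_comp, ← reassoc_of% (hs i₀), IsIso.hom_inv_id_assoc]
        have n₅ : (RRd f).map (DerivedCategory.Q.map (Zf.map g)) ≫ (e' P').inv ≫ eps P' =
            (e' P).inv ≫ eps P ≫ DerivedCategory.Q.map g.hom := by
          rw [← n₄, Iso.eq_inv_comp, ← reassoc_of% n₃, Iso.hom_inv_id_assoc]
        refine (Category.assoc _ _ _).symm.trans ((congrArg (· ≫ _) n₁).trans ((Category.assoc _ _ _).trans ?_))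
        refine (congrArg (_ ≫ ·) ((Category.assoc _ _ _).symm.trans ((congrArg (· ≫ _) n₂).trans
          ((Category.assoc _ _ _).trans (congrArg (_ ≫ ·) n₅))))).trans ?_
        exact (by simp only [Category.assoc] :
          r.hom.app _ ≫ (RRd f).map (lam.hom.app P) ≫ (e' P).inv ≫ eps P ≫ DerivedCategory.Q.map g.hom =
            (r.hom.app _ ≫ (RRd f).map (lam.hom.app P) ≫ (e' P).inv ≫ eps P) ≫ DerivedCategory.Q.map g.hom) }
  obtain ⟨T, hT⟩ := exists_natTrans_of_kflat (DCoh.Lpull f ⋙ DCoh.LTensorCx E ⋙ DCoh.Rpush f) (𝟭 _) κ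
  let M₂ : DCoh.DQCoh Y → DCoh.DQCoh X := fun K => ⟨(DCoh.LTensorCx E).obj ((DCoh.Lpull f).obj K.obj),
    isQCohD_ltensor E hEq (SuppTens22.isQCohD_lpull f K.property)⟩
  let t : ∀ K : DCoh.DQCoh Y, (DCoh.RpushQ f hf).obj (M₂ K) ⟶ K := fun K => ObjectProperty.homMk (T.app K)
  let θ : ObjectProperty.ι _ ⋙ DCoh.Lpull f ⋙ DCoh.LTensorCx E ⟶ a ⋙ ObjectProperty.ι _ :=
    { app := fun K => (adj.homEquiv (M₂ K) K (t K)).hom
      naturality := fun K L g => by
        let m : M₂ K ⟶ M₂ L := ObjectProperty.homMk ((DCoh.LTensorCx E).map ((DCoh.Lpull f).map g.hom))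
        show (m ≫ adj.homEquiv (M₂ L) L (t L)).hom = (adj.homEquiv (M₂ K) K (t K) ≫ a.map g).hom
        rw [← adj.homEquiv_naturality_left, ← adj.homEquiv_naturality_right]
        exact congrArg (fun s => ((adj.homEquiv (M₂ K) L) s).hom) (ObjectProperty.hom_ext _ (T.naturality g)) }
  refine ⟨θ, fun n h => ?_⟩
  let P : (kfq Y).FullSubcategory := ⟨(unitCx Y)⟦n⟧, hUn n, h⟩
  let K : DCoh.DQCoh Y := ⟨_, h⟩
  -- `β` is universal
  obtain ⟨τ, hτ⟩ := exists_projCx_shift f (unitCx Y) A n
  let σ := τ ≪≫ (shiftFunctor _ n).mapIso uX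
  let Z := Zf.obj P
  have hβiso : IsIso (pushToRR f Z) := by
    haveI := (kiq_shift hAk n).1.kInj
    haveI := isIso_pushToRR f (K := A⟦n⟧)
    haveI : IsIso (DerivedCategory.Q.map ((pushCxF f).map σ.hom) ≫ pushToRR f (A⟦n⟧)) := inferInstance
    have h2 : IsIso (pushToRR f Z ≫ (RRd f).map (DerivedCategory.Q.map σ.hom)) := by
      have h3 := pushToRR_natural f σ.hom
      exact h3 ▸ this
    haveI := h2
    exact IsIso.of_isIso_comp_right (pushToRR f Z) ((RRd f).map (DerivedCategory.Q.map σ.hom))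
  have hp : IsIso (DerivedCategory.Q.map (projCx f P.obj A)) := by
    haveI : IsIso (DerivedCategory.Q.map (projCx f P.obj A) ≫ pushToRR f Z) := hE' P
    exact IsIso.of_isIso_comp_right _ (pushToRR f Z)
  let β : DerivedCategory.Q.obj ((pushCxF f).obj (A⟦n⟧)) ⟶ DerivedCategory.Q.obj P.obj :=
    DerivedCategory.Q.map ((pushCxF f).map σ.inv) ≫ inv (DerivedCategory.Q.map (projCx f P.obj A)) ≫ eps P
  have hβ : Uni f (A⟦n⟧) β := by
    let cq := fun L : CochainComplex Y.Modules ℤ => (DerivedCategory.Q.commShiftIso n).app L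
    let cs := DerivedCategory.Q.map (((pushCxF f).commShiftIso n).hom.app A)
    let sY := fun L : CochainComplex Y.Modules ℤ => DerivedCategory.Q.mapIso (shiftTensIso (unitCx Y) L n)
    haveI := hi P
    let w : O.obj⟦n⟧ ≅ DerivedCategory.Q.obj P.obj :=
      (shiftFunctor _ n).mapIso (eJ ≪≫ (DerivedCategory.Q.mapIso (uY.app J)).symm) ≪≫ (cq _).symm ≪≫ (sY J).symm ≪≫
        (asIso (DerivedCategory.Q.map (((DCoh.tensorCx (X := Y)).obj P.obj).map i₀))).symm ≪≫ uP P
    refine (hd₀.shift n).of_iso (Iso.refl _) w ?_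
    rw [Iso.refl_hom, CategoryTheory.Functor.map_id, CategoryTheory.Functor.map_id, Category.id_comp]
    have hn : ∀ {L L' : CochainComplex Y.Modules ℤ} (s : L ⟶ L'),
        DerivedCategory.Q.map (s⟦n⟧') ≫ (cq L').hom = (cq L).hom ≫ (DerivedCategory.Q.map s)⟦n⟧' := fun s =>
      (DerivedCategory.Q.commShiftIso n).hom.naturality s
    have h1 : DerivedCategory.Q.map (((DCoh.tensorCx (X := Y)).obj P.obj).map b) =
        (sY _).hom ≫ (cq _).hom ≫ (DerivedCategory.Q.map (((DCoh.tensorCx (X := Y)).obj (unitCx Y)).map b))⟦n⟧' ≫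
          (cq _).inv ≫ (sY J).inv := by
      rw [← reassoc_of% (hn _), Iso.hom_inv_id_assoc, ← Category.assoc, Iso.eq_comp_inv]
      exact ((DerivedCategory.Q.map_comp _ _).symm.trans (congrArg _ (shiftTensIso_natural _ b n))).trans
        (DerivedCategory.Q.map_comp _ _)
    have h2 : DerivedCategory.Q.map (projCx f P.obj A) ≫ DerivedCategory.Q.map ((pushCxF f).map τ.hom) ≫
        DerivedCategory.Q.map (((pushCxF f).commShiftIso n).hom.app _) ≫ (cq _).hom =
        (sY _).hom ≫ (cq _).hom ≫ (DerivedCategory.Q.map (projCx f (unitCx Y) A))⟦n⟧' := by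
      rw [← hn]
      simp only [sY, Functor.mapIso_hom, ← Functor.map_comp_assoc]
      exact congrArg (fun s => DerivedCategory.Q.map s ≫ _) ((Category.assoc _ _ _).trans hτ)
    have h3 : DerivedCategory.Q.map ((pushCxF f).map σ.inv) ≫ inv (DerivedCategory.Q.map (projCx f P.obj A)) ≫
        (sY _).hom ≫ (cq _).hom = cs ≫ (cq _).hom ≫
          (DerivedCategory.Q.map ((pushCxF f).map uX.inv) ≫ inv (DerivedCategory.Q.map (projCx f (unitCx Y) A)))⟦n⟧' := by
      have h4 : inv (DerivedCategory.Q.map (projCx f P.obj A)) ≫ (sY _).hom ≫ (cq _).hom =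
          (DerivedCategory.Q.map ((pushCxF f).map τ.hom) ≫
            DerivedCategory.Q.map (((pushCxF f).commShiftIso n).hom.app _) ≫ (cq _).hom) ≫
              (inv (DerivedCategory.Q.map (projCx f (unitCx Y) A)))⟦n⟧' := by
        rw [IsIso.inv_comp_eq]
        refine Eq.trans ?_ ((congrArg (· ≫ _) h2.symm).trans (Category.assoc _ _ _))
        rw [Category.assoc, Category.assoc, ← Functor.map_comp, IsIso.hom_inv_id, CategoryTheory.Functor.map_id]
        exact (congrArg (_ ≫ ·) (Category.comp_id _)).symm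
      have h5 : (pushCxF f).map σ.inv ≫ (pushCxF f).map τ.hom = (pushCxF f).map (uX.inv⟦n⟧') := by
        rw [← Functor.map_comp]
        exact congrArg _ (by simp [σ])
      have h6 : (pushCxF f).map (uX.inv⟦n⟧') ≫ ((pushCxF f).commShiftIso n).hom.app _ =
          ((pushCxF f).commShiftIso n).hom.app A ≫ ((pushCxF f).map uX.inv)⟦n⟧' :=
        ((pushCxF f).commShiftIso n).hom.naturality uX.inv
      rw [h4, Functor.map_comp (shiftFunctor (DCoh.D Y) n), ← reassoc_of% (hn ((pushCxF f).map uX.inv))]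
      have h8 := congrArg (fun s => DerivedCategory.Q.map s)
        ((Category.assoc _ _ _).symm.trans ((congrArg (· ≫ _) h5).trans h6))
      simp only [Functor.map_comp] at h8
      simp only [cs, Category.assoc]
      exact (reassoc_of% h8) _
    have h7 : DerivedCategory.Q.map (((DCoh.tensorCx (X := Y)).obj (unitCx Y)).map b) =
        DerivedCategory.Q.map (uY.hom.app ((pushCxF f).obj A)) ≫ (ν.inv ≫ d₀ ≫ eJ.hom) ≫
          DerivedCategory.Q.map (uY.inv.app J) := by
      rw [← hb, ← Functor.map_comp, ← Functor.map_comp]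
      refine congrArg _ ?_
      refine Eq.trans ?_ ((Category.assoc _ _ _).trans rfl)
      exact ((congrArg (· ≫ uY.inv.app J) (uY.hom.naturality b).symm).trans
        ((Category.assoc _ _ _).trans ((congrArg (_ ≫ ·) (uY.hom_inv_id_app J)).trans (Category.comp_id _)))).symm
    show DerivedCategory.Q.map ((pushCxF f).map σ.inv) ≫ inv (DerivedCategory.Q.map (projCx f P.obj A)) ≫ eps P = _
    simp only [eps]
    rw [h1]
    simp only [Category.assoc]
    rw [reassoc_of% h3, h7]
    simp [ν, w, cs, Functor.map_comp]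
    rfl
  haveI : IsIso (adj.homEquiv (M₂ K) K (t K)) := by
    refine isIso_of_hom_bijective _ fun M => ?_
    have hk : (t K).hom = κ.app P := hT P
    suffices hb : Function.Bijective fun x : M ⟶ M₂ K => (DCoh.RpushQ f hf).map x ≫ t K by
      have heq : (fun x : M ⟶ M₂ K => x ≫ adj.homEquiv (M₂ K) K (t K)) =
          (adj.homEquiv M K) ∘ fun x => (DCoh.RpushQ f hf).map x ≫ t K :=
        funext fun x => (adj.homEquiv_naturality_left x (t K)).symm
      rw [heq]
      exact (adj.homEquiv M K).bijective.comp hb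
    obtain ⟨I, i, hi', hK', hI⟩ := KInj.exists_kInjective_resolution (A := X.Modules) (DerivedCategory.Q.objPreimage M.obj)
    let eM : DerivedCategory.Q.obj I ≅ M.obj :=
      (asIso (DerivedCategory.Q.map i)).symm ≪≫ DerivedCategory.Q.objObjPreimageIso M.obj
    have hIk : kiq X I := ⟨⟨hI, hK'⟩, isQCohD_of_iso' eM.symm M.property⟩
    haveI := hK'
    haveI := isIso_pushToRR f (K := I)
    haveI := (kiq_shift hAk n).1.kInj
    haveI := isIso_pushToRR f (K := A⟦n⟧)
    let rep : ∀ x : M.obj ⟶ (M₂ K).obj, { g : I ⟶ A⟦n⟧ // DerivedCategory.Q.map g =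
        eM.hom ≫ x ≫ lam.hom.app P ≫ DerivedCategory.Q.map σ.hom } := fun x =>
      ⟨(exists_Q_map I (A⟦n⟧) _).choose, (exists_Q_map I (A⟦n⟧) _).choose_spec⟩
    have key : ∀ x : M.obj ⟶ (M₂ K).obj, (DCoh.Rpush f).map x ≫ κ.app P =
        (r.hom.app M.obj ≫ (RRd f).map eM.inv ≫ inv (pushToRR f I)) ≫
          DerivedCategory.Q.map ((pushCxF f).map (rep x).1) ≫ β := fun x => by
      have hg := (rep x).2
      have hp' : DerivedCategory.Q.map ((pushCxF f).map σ.inv) ≫ inv (DerivedCategory.Q.map (projCx f P.obj A)) =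
          pushToRR f (A⟦n⟧) ≫ (RRd f).map (DerivedCategory.Q.map σ.inv) ≫ (e' P).inv := by
        rw [← reassoc_of% (pushToRR_natural f σ.inv)]
        refine congrArg (_ ≫ ·) ?_
        rw [IsIso.inv_eq_of_hom_inv_id]
        exact (Category.assoc _ _ _).symm.trans (e' P).hom_inv_id
      have hx : DerivedCategory.Q.map (rep x).1 ≫ DerivedCategory.Q.map σ.inv = eM.hom ≫ x ≫ lam.hom.app P := by
        rw [hg]
        simp [← Functor.map_comp]
      show (DCoh.Rpush f).map x ≫ r.hom.app _ ≫ (RRd f).map (lam.hom.app P) ≫ (e' P).inv ≫ eps P = _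
      refine ((reassoc_of% (r.hom.naturality x)) _).trans ?_
      simp only [Category.assoc, β]
      refine congrArg (r.hom.app M.obj ≫ ·) ?_
      rw [reassoc_of% hp', reassoc_of% (pushToRR_natural f (rep x).1), IsIso.inv_hom_id_assoc,
        ← Functor.map_comp_assoc (RRd f) (DerivedCategory.Q.map (rep x).1), hx, ← Functor.map_comp_assoc (RRd f) eM.inv,
        Iso.inv_hom_id_assoc, ← Functor.map_comp_assoc (RRd f) x]
    refine ⟨fun x y hxy => ?_, fun v => ?_⟩
    · have h1 : (DCoh.Rpush f).map x.hom ≫ κ.app P = (DCoh.Rpush f).map y.hom ≫ κ.app P := by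
        rw [← hk]
        exact congrArg (fun s => s.hom) hxy
      rw [key, key, cancel_epi] at h1
      have h2 := (hβ I hIk).2 _ _ h1
      rw [(rep x.hom).2, (rep y.hom).2, cancel_epi, cancel_mono] at h2
      exact ObjectProperty.hom_ext _ h2
    · obtain ⟨g, hg⟩ := (hβ I hIk).1 (pushToRR f I ≫ (RRd f).map eM.hom ≫ r.inv.app M.obj ≫ v.hom)
      let x₀ := eM.inv ≫ DerivedCategory.Q.map g ≫ DerivedCategory.Q.map σ.inv ≫ lam.inv.app P
      refine ⟨ObjectProperty.homMk x₀, ObjectProperty.hom_ext _ ?_⟩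
      show (DCoh.Rpush f).map x₀ ≫ (t K).hom = v.hom
      rw [hk, key]
      have hg' : DerivedCategory.Q.map (rep x₀).1 = DerivedCategory.Q.map g := by
        rw [(rep x₀).2]
        simp [x₀, ← Functor.map_comp]
      have hq : DerivedCategory.Q.map ((pushCxF f).map (rep x₀).1) = DerivedCategory.Q.map ((pushCxF f).map g) := by
        rw [← cancel_mono (pushToRR f (A⟦n⟧)), pushToRR_natural, pushToRR_natural, hg']
      rw [hq, hg]
      simp [← Functor.map_comp_assoc]
  exact Functor.map_isIso (ObjectProperty.ι _) (adj.homEquiv (M₂ K) K (t K))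

end GrothLib.RightAdj22
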