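import Groth.Agent.Lib.RightAdj22.Proj
import Groth.Prelude.Def_DDual2

/-! # Universal maps out of direct images, on complexes -/

set_option autoImplicit false
set_option maxHeartbeats 1000000
set_option linter.style.haveILetI false
universe u

open CategoryTheory CategoryTheory.Limits AlgebraicGeometry HomologicalComplex

attribute [local instance] HasDerivedCategory.standard

noncomputable section

namespace GrothLib.RightAdj22

open GrothLib.OX GrothLib.ProjFormula

variable {X Y : Scheme.{u}} (f : X ⟶ Y)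

/-- Maps into K-injective complexes are maps of complexes. -/
theorem exists_Q_map {Z : Scheme.{u}} (M A : CochainComplex Z.Modules ℤ) [A.IsKInjective]
    (x : DerivedCategory.Q.obj M ⟶ DerivedCategory.Q.obj A) : ∃ g : M ⟶ A, DerivedCategory.Q.map g = x := by
  let q' := DerivedCategory.quotientCompQhIso Z.Modules
  obtain ⟨ψ, hψ⟩ := (CochainComplex.IsKInjective.Qh_map_bijective ((HomotopyCategory.quotient _ _).obj M) A).2
    (q'.hom.app _ ≫ x ≫ q'.inv.app _)
  obtain ⟨φ, rfl⟩ := (HomotopyCategory.quotient Z.Modules (ComplexShape.up ℤ)).map_surjective ψ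
  refine ⟨φ, ?_⟩
  rw [← cancel_epi (q'.hom.app M)]
  refine ((q'.hom.naturality φ).symm.trans ((congrArg (· ≫ _) hψ).trans ?_))
  simp

/-- Push-forward of K-injective complexes computes the derived push-forward. -/
theorem nonempty_kiqPushIso :
    Nonempty ((kiq X).ι ⋙ pushCxF f ⋙ DerivedCategory.Q ≅ (kiq X).ι ⋙ DerivedCategory.Q ⋙ RR f) := by
  let q := DerivedCategory.quotientCompQhIso Y.Modules
  let q' := DerivedCategory.quotientCompQhIso X.Modules
  exact ⟨NatIso.ofComponents (fun A =>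
      haveI := A.property.1.kInj
      have hu : IsIso (pushUnit f A.obj) := map_isIso_of (DCoh.pushKh f)
        (KInj.isIso_unit_of_rightOrthogonal (CochainComplex.IsKInjective.rightOrthogonal A.obj))
      (q.app _).symm ≪≫ @asIso _ _ _ _ (pushUnit f A.obj) hu ≪≫ (SiteDer.Rres (rmor f)).mapIso (q'.app A.obj))
      (fun {A A'} a => by
        simp only [Functor.comp_map, Iso.trans_hom, Iso.symm_hom, Iso.app_inv, asIso_hom, Functor.mapIso_hom,
          Iso.app_hom]
        have e1 : q.inv.app ((pushCxF f).obj A.obj) ≫ DerivedCategory.Qh.map ((HomotopyCategory.quotient _ _).map ((pushCxF f).map a.hom)) =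
            DerivedCategory.Q.map ((pushCxF f).map a.hom) ≫ q.inv.app ((pushCxF f).obj A'.obj) :=
          (q.inv.naturality _).symm
        have e2 := pushUnit_naturality f a.hom
        have e3 : (SiteDer.Rres (rmor f)).map (DerivedCategory.Qh.map ((HomotopyCategory.quotient _ _).map a.hom)) ≫
            (SiteDer.Rres (rmor f)).map (q'.hom.app A'.obj) =
            (SiteDer.Rres (rmor f)).map (q'.hom.app A.obj) ≫ (SiteDer.Rres (rmor f)).map (DerivedCategory.Q.map a.hom) := by
          rw [← Functor.map_comp, ← Functor.map_comp]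
          exact congrArg _ (q'.hom.naturality a.hom)
        refine (Category.assoc _ _ _).symm.trans ((congrArg (· ≫ _) e1.symm).trans ((Category.assoc _ _ _).trans ?_))
        refine ((congrArg (q.inv.app ((pushCxF f).obj A.obj) ≫ ·) ((Category.assoc _ _ _).symm.trans
          ((congrArg (· ≫ _) e2).trans ((Category.assoc _ _ _).trans (congrArg (_ ≫ ·) e3))))).trans ?_)
        simp only [Category.assoc]
        rfl)⟩

/-- A map out of `f_* A` through which every map out of `f_* M` factors uniquely. -/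
def Uni (A : CochainComplex X.Modules ℤ) {T : DCoh.D Y} (β : DerivedCategory.Q.obj ((pushCxF f).obj A) ⟶ T) : Prop :=
  ∀ M : CochainComplex X.Modules ℤ, kiq X M →
    (∀ x : DerivedCategory.Q.obj ((pushCxF f).obj M) ⟶ T, ∃ g : M ⟶ A,
      DerivedCategory.Q.map ((pushCxF f).map g) ≫ β = x) ∧
    ∀ g g' : M ⟶ A, DerivedCategory.Q.map ((pushCxF f).map g) ≫ β = DerivedCategory.Q.map ((pushCxF f).map g') ≫ β →
      DerivedCategory.Q.map g = DerivedCategory.Q.map g'

variable {f}

theorem Uni.of_iso {A A' : CochainComplex X.Modules ℤ} {T T' : DCoh.D Y}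
    {β : DerivedCategory.Q.obj ((pushCxF f).obj A) ⟶ T} (h : Uni f A β) (e : A' ≅ A) (i : T ≅ T')
    {β' : DerivedCategory.Q.obj ((pushCxF f).obj A') ⟶ T'}
    (he : β' = DerivedCategory.Q.map ((pushCxF f).map e.hom) ≫ β ≫ i.hom) : Uni f A' β' := by
  subst he
  intro M hM
  have key : ∀ g : M ⟶ A', DerivedCategory.Q.map ((pushCxF f).map g) ≫ DerivedCategory.Q.map ((pushCxF f).map e.hom) ≫
      β ≫ i.hom = (DerivedCategory.Q.map ((pushCxF f).map (g ≫ e.hom)) ≫ β) ≫ i.hom := fun g => by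
    simp [Functor.map_comp]
  refine ⟨fun x => ?_, fun g g' hgg => ?_⟩
  · obtain ⟨g, hg⟩ := (h M hM).1 (x ≫ i.inv)
    exact ⟨g ≫ e.inv, by rw [key, Category.assoc g, e.inv_hom_id, Category.comp_id, hg, Category.assoc,
      i.inv_hom_id, Category.comp_id]⟩
  · rw [key, key, cancel_mono] at hgg
    have := (h M hM).2 _ _ hgg
    rwa [Functor.map_comp, Functor.map_comp, cancel_mono] at this

theorem kiq_shift {M : CochainComplex X.Modules ℤ} (hM : kiq X M) (n : ℤ) : kiq X (M⟦n⟧) := by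
  haveI := hM.1.kInj
  exact ⟨⟨fun p => hM.1.terms (p + n), inferInstance⟩,
    fun i => isQCoh_of_iso ((DerivedCategory.homologyFunctor _ i).mapIso
      ((DerivedCategory.Q.commShiftIso n).app M).symm) (isQCohD_shift hM.2 n i)⟩

/-- **Universality is stable under shifts.** -/
theorem Uni.shift {A : CochainComplex X.Modules ℤ} {T : DCoh.D Y}
    {β : DerivedCategory.Q.obj ((pushCxF f).obj A) ⟶ T} (h : Uni f A β) (n : ℤ) :
    Uni f (A⟦n⟧) (DerivedCategory.Q.map (((pushCxF f).commShiftIso n).hom.app A) ≫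
      (DerivedCategory.Q.commShiftIso n).hom.app ((pushCxF f).obj A) ≫ β⟦n⟧') := by
  intro M hM
  let M' := M⟦-n⟧
  let e : M'⟦n⟧ ≅ M := (shiftFunctorCompIsoId (CochainComplex X.Modules ℤ) (-n) n (neg_add_cancel n)).app M
  let χ := fun K : CochainComplex X.Modules ℤ =>
    (DerivedCategory.Q.mapIso (((pushCxF f).commShiftIso n).app K)) ≪≫
      (DerivedCategory.Q.commShiftIso n).app ((pushCxF f).obj K)
  have hχ : ∀ g : M' ⟶ A, DerivedCategory.Q.map ((pushCxF f).map (g⟦n⟧')) ≫ (χ A).hom =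
      (χ M').hom ≫ (DerivedCategory.Q.map ((pushCxF f).map g))⟦n⟧' := fun g => by
    simp only [χ, Iso.trans_hom, Functor.mapIso_hom, Iso.app_hom, Category.assoc]
    rw [← Functor.map_comp_assoc, show (pushCxF f).map (g⟦n⟧') ≫ ((pushCxF f).commShiftIso n).hom.app A = _ from
      ((pushCxF f).commShiftIso n).hom.naturality g, Functor.map_comp, Category.assoc]
    exact congrArg (_ ≫ ·) ((DerivedCategory.Q.commShiftIso n).hom.naturality _)
  have key : ∀ g : M' ⟶ A, DerivedCategory.Q.map ((pushCxF f).map (e.inv ≫ g⟦n⟧')) ≫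
      DerivedCategory.Q.map (((pushCxF f).commShiftIso n).hom.app A) ≫
        (DerivedCategory.Q.commShiftIso n).hom.app ((pushCxF f).obj A) ≫ β⟦n⟧' =
      (DerivedCategory.Q.map ((pushCxF f).map e.inv) ≫ (χ M').hom) ≫
        (DerivedCategory.Q.map ((pushCxF f).map g) ≫ β)⟦n⟧' := fun g => by
    simp only [Functor.map_comp, Category.assoc]
    refine congrArg (_ ≫ ·) ?_
    refine Eq.trans ?_ ((reassoc_of% (hχ g)) _)
    simp [χ]
  have surj : ∀ y : M ⟶ A⟦n⟧, ∃ g : M' ⟶ A, y = e.inv ≫ g⟦n⟧' := fun y => by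
    obtain ⟨g, hg⟩ := (shiftFunctor (CochainComplex X.Modules ℤ) n).map_surjective (e.hom ≫ y)
    exact ⟨g, by rw [hg, Iso.inv_hom_id_assoc]⟩
  refine ⟨fun x => ?_, fun g g' hgg => ?_⟩
  · obtain ⟨y, hy⟩ := (shiftFunctor (DCoh.D Y) n).map_surjective
      ((χ M').inv ≫ DerivedCategory.Q.map ((pushCxF f).map e.hom) ≫ x)
    obtain ⟨g, rfl⟩ := (h M' (kiq_shift hM (-n))).1 y
    exact ⟨e.inv ≫ g⟦n⟧', by rw [key, hy]; simp [← Functor.map_comp_assoc]⟩
  · obtain ⟨g, rfl⟩ := surj g
    obtain ⟨g', rfl⟩ := surj g'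
    rw [key, key, cancel_epi] at hgg
    have h2 := (h M' (kiq_shift hM (-n))).2 g g' ((shiftFunctor (DCoh.D Y) n).map_injective hgg)
    rw [Functor.map_comp, Functor.map_comp]
    refine congrArg (_ ≫ ·) ?_
    rw [← cancel_mono ((DerivedCategory.Q.commShiftIso n).hom.app A)]
    exact ((DerivedCategory.Q.commShiftIso n).hom.naturality g).trans ((congrArg (fun t => _ ≫ t⟦n⟧') h2).trans
      ((DerivedCategory.Q.commShiftIso n).hom.naturality g').symm)

variable (f) in
/-- **The counit of the adjunction is universal on complexes.** -/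
theorem exists_uni_counit [DCoh.HasRpush f] (hf : DCoh.RpushPreservesQCoh f)
    {a : DCoh.DQCoh Y ⥤ DCoh.DQCoh X} (adj : DCoh.RpushQ f hf ⊣ a) (O : DCoh.DQCoh Y)
    (A : CochainComplex X.Modules ℤ) (hA : kiq X A) (ψ : DerivedCategory.Q.obj A ≅ (a.obj O).obj) :
    ∃ d₀ : DerivedCategory.Q.obj ((pushCxF f).obj A) ⟶ O.obj, Uni f A d₀ := by
  obtain ⟨c⟩ := nonempty_kiqPushIso f
  let r := rpushIsoRres f
  let A₀ : (kiq X).FullSubcategory := ⟨A, hA⟩
  refine ⟨c.hom.app A₀ ≫ r.inv.app _ ≫ (DCoh.Rpush f).map ψ.hom ≫ (adj.counit.app O).hom, fun M hM => ?_⟩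
  let M₀ : (kiq X).FullSubcategory := ⟨M, hM⟩
  let M₁ : DCoh.DQCoh X := ⟨DerivedCategory.Q.obj M, hM.2⟩
  haveI := hA.1.kInj
  have key : ∀ g : M ⟶ A, DerivedCategory.Q.map ((pushCxF f).map g) ≫ c.hom.app A₀ ≫ r.inv.app _ ≫
      (DCoh.Rpush f).map ψ.hom ≫ (adj.counit.app O).hom =
      (c.hom.app M₀ ≫ r.inv.app _) ≫ ((adj.homEquiv M₁ O).symm
        (ObjectProperty.homMk (DerivedCategory.Q.map g ≫ ψ.hom))).hom := fun g => by
    rw [adj.homEquiv_counit]
    refine (Category.assoc _ _ _).symm.trans ((congrArg (· ≫ _)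
      (c.hom.naturality (ObjectProperty.homMk g : M₀ ⟶ A₀))).trans ?_)
    refine (Category.assoc _ _ _).trans ((congrArg (_ ≫ ·) ?_).trans (Category.assoc _ _ _).symm)
    refine ((reassoc_of% (r.inv.naturality (DerivedCategory.Q.map g))) _).trans ?_
    refine congrArg (_ ≫ ·) ?_
    refine (Category.assoc _ _ _).symm.trans (congrArg (· ≫ _) ?_)
    exact ((DCoh.Rpush f).map_comp _ _).symm
  refine ⟨fun x => ?_, fun g g' hgg => ?_⟩
  · let y : (DCoh.RpushQ f hf).obj M₁ ⟶ O := ObjectProperty.homMk (r.hom.app _ ≫ c.inv.app M₀ ≫ x)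
    obtain ⟨g, hg⟩ := exists_Q_map M A ((adj.homEquiv M₁ O y).hom ≫ ψ.inv)
    refine ⟨g, (key g).trans ?_⟩
    have : (ObjectProperty.homMk (DerivedCategory.Q.map g ≫ ψ.hom) : M₁ ⟶ a.obj O) = adj.homEquiv M₁ O y :=
      ObjectProperty.hom_ext _ ((congrArg (· ≫ ψ.hom) hg).trans ((Category.assoc _ _ _).trans
        ((congrArg (_ ≫ ·) ψ.inv_hom_id).trans (Category.comp_id _))))
    rw [this, Equiv.symm_apply_apply]
    show (c.hom.app M₀ ≫ r.inv.app _) ≫ r.hom.app _ ≫ c.inv.app M₀ ≫ x = x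
    simp
  · have h1 := ((key g).symm.trans hgg).trans (key g')
    rw [cancel_epi] at h1
    have h2 := congrArg (fun t : M₁ ⟶ a.obj O => t.hom) ((adj.homEquiv M₁ O).symm.injective (ObjectProperty.hom_ext _ h1))
    exact (cancel_mono ψ.hom).1 h2

end GrothLib.RightAdj22
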